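/-
The fourfold cover of the plus-type group of dimension eight over the field of two elements is universal.
-/
import Cfsg.Agent.Lib.StemSylow.OEightModel
import Cfsg.Agent.S0296

set_option autoImplicit false
set_option maxRecDepth 30000
set_option linter.unusedSectionVars false
set_option linter.style.haveILetI false

namespace CfsgLib.O8Two

open Equiv Subgroup CfsgPC CfsgLib.StemSylow CfsgLib.StemSylow.OEightData
open scoped commutatorElement

universe u

attribute [local irreducible] smallChain coverChain smallGens coverGens zCodes blk blkRep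

/-- The fourfold cover. -/
noncomputable abbrev Ug : Subgroup (Perm (Fin 480)) := genG 480 (coverGens.map Prod.fst)

/-- The simple group. -/
noncomputable abbrev Sg : Subgroup (Perm (Fin 120)) := genG 120 (smallGens.map Prod.fst)

/-- The projection. -/
noncomputable abbrev pr : ↥Ug →* ↥Sg := OEight.proj

theorem simple_Sg : IsSimpleGroup ↥Sg := by
  obtain ⟨e⟩ := OEight.equiv_small (F := ZMod 2) (ZMod.card 2)
  haveI := Cfsg.Agent.S0296.result (F := ZMod 2) 4 le_rfl
  exact e.symm.isSimpleGroup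

theorem perfect_Sg : commutator ↥Sg = ⊤ := by
  haveI := simple_Sg
  refine (Subgroup.Normal.eq_bot_or_eq_top (inferInstanceAs (commutator ↥Sg).Normal)).resolve_left fun h => ?_
  have hc : Subgroup.center ↥Sg = ⊤ := by
    rw [eq_top_iff]
    rintro x -
    rw [mem_center_iff]
    intro y
    have h1 : ⁅y, x⁆ ∈ commutator ↥Sg := commutator_mem_commutator (mem_top y) (mem_top x)
    rw [h, mem_bot, commutatorElement_eq_one_iff_mul_comm] at h1
    exact h1
  haveI : IsMulCommutative ↥Sg := ⟨⟨fun a b => mem_center_iff.mp (hc ▸ mem_top b) a⟩⟩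
  letI : CommGroup ↥Sg := { (inferInstance : Group ↥Sg) with mul_comm := fun a b => mem_center_iff.mp (hc ▸ mem_top b) a }
  have hp := IsSimpleGroup.prime_card (α := ↥Sg)
  rw [OEight.small_group.2.1] at hp
  exact absurd hp (by norm_num)

theorem perfect_of_stem {X : Type u} [Group X] {f : X →* ↥Sg} (hf : Cfsg.IsStemExtension f) : commutator X = ⊤ := by
  have h : (commutator X).map f = ⊤ := by
    rw [commutator_def, map_commutator, map_top_of_surjective _ hf.1, ← commutator_def, perfect_Sg]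
  have := congrArg (Subgroup.comap f) h
  rwa [comap_map_eq, comap_top, sup_eq_left.mpr hf.2.2] at this

theorem perfect_Ug : commutator ↥Ug = ⊤ := perfect_of_stem OEight.cover_stem.1

/-- Two maps from a perfect group agreeing modulo a central kernel are equal. -/
theorem eq_of_comp_eq {P : Type*} {X Y : Type*} [Group P] [Group X] [Group Y] (hP : commutator P = ⊤) {f : X →* Y}
    (hf : f.ker ≤ Subgroup.center X) {φ ψ : P →* X} (h : f.comp φ = f.comp ψ) : φ = ψ := by
  refine MonoidHom.ext fun x => ?_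
  have hx : x ∈ commutator P := hP ▸ mem_top x
  have hc : ∀ a : P, φ a * (ψ a)⁻¹ ∈ Subgroup.center X := fun a => hf (MonoidHom.mem_ker.mpr (by
    rw [map_mul, map_inv]
    exact mul_inv_eq_one.mpr (DFunLike.congr_fun h a)))
  refine (show commutator P ≤ MonoidHom.eqLocus φ ψ from ?_) hx
  rw [commutator_def, commutator_le]
  intro a _ b _
  show φ ⁅a, b⁆ = ψ ⁅a, b⁆
  rw [map_commutatorElement, map_commutatorElement]
  obtain ⟨c, hc', ea⟩ : ∃ c ∈ Subgroup.center X, φ a = c * ψ a := ⟨_, hc a, by simp⟩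
  obtain ⟨d, hd', eb⟩ : ∃ d ∈ Subgroup.center X, φ b = d * ψ b := ⟨_, hc b, by simp⟩
  rw [ea, eb, commutatorElement_def, commutatorElement_def]
  have hc1 := mem_center_iff.mp hc'
  have hd1 := mem_center_iff.mp hd'
  calc c * ψ a * (d * ψ b) * (c * ψ a)⁻¹ * (d * ψ b)⁻¹
      = c * (ψ a * d) * ψ b * (ψ a)⁻¹ * c⁻¹ * (ψ b)⁻¹ * d⁻¹ := by group
    _ = c * (d * ψ a) * ψ b * (ψ a)⁻¹ * c⁻¹ * (ψ b)⁻¹ * d⁻¹ := by rw [hd1]
    _ = c * d * ((ψ a * ψ b * (ψ a)⁻¹) * c⁻¹) * (ψ b)⁻¹ * d⁻¹ := by group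
    _ = c * d * (c⁻¹ * (ψ a * ψ b * (ψ a)⁻¹)) * (ψ b)⁻¹ * d⁻¹ := by
        rw [mem_center_iff.mp (inv_mem hc')]
    _ = (c * d) * c⁻¹ * (ψ a * ψ b * (ψ a)⁻¹ * (ψ b)⁻¹ * d⁻¹) := by group
    _ = (d * c) * c⁻¹ * (ψ a * ψ b * (ψ a)⁻¹ * (ψ b)⁻¹ * d⁻¹) := by rw [hd1 c]
    _ = d * ((ψ a * ψ b * (ψ a)⁻¹ * (ψ b)⁻¹) * d⁻¹) := by group
    _ = d * (d⁻¹ * (ψ a * ψ b * (ψ a)⁻¹ * (ψ b)⁻¹)) := by rw [mem_center_iff.mp (inv_mem hd')]
    _ = ψ a * ψ b * (ψ a)⁻¹ * (ψ b)⁻¹ := by group

set_option maxHeartbeats 1000000 in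
/-- Every stem extension of the simple group is an image of the cover. -/
theorem exists_lift {X : Type u} [Group X] [Finite X] (f : X →* ↥Sg) (hf : Cfsg.IsStemExtension f) :
    ∃ φ : ↥Ug →* X, Function.Surjective φ ∧ f.comp φ = pr := by
  classical
  obtain ⟨⟨hps, hpc, -⟩, hk4⟩ := OEight.cover_stem
  let P : Subgroup (↥Ug × X) := MonoidHom.eqLocus (pr.comp (MonoidHom.fst ↥Ug X)) (f.comp (MonoidHom.snd ↥Ug X))
  let p1 : ↥P →* ↥Ug := (MonoidHom.fst ↥Ug X).comp P.subtype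
  let p2 : ↥P →* X := (MonoidHom.snd ↥Ug X).comp P.subtype
  have hmem : ∀ a : ↥P, pr (p1 a) = f (p2 a) := fun a => a.2
  let g : ↥P →* ↥Sg := pr.comp p1
  have hp1 : Function.Surjective p1 := fun u => by
    obtain ⟨x, hx⟩ := hf.1 (pr u)
    exact ⟨⟨(u, x), hx.symm⟩, rfl⟩
  have hp2 : Function.Surjective p2 := fun x => by
    obtain ⟨u, hu⟩ := hps (f x)
    exact ⟨⟨(u, x), hu⟩, rfl⟩
  have hgs : Function.Surjective g := hps.comp hp1
  have hgk : g.ker ≤ Subgroup.center ↥P := by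
    intro a ha
    have h1 : pr (p1 a) = 1 := ha
    have h2 : f (p2 a) = 1 := (hmem a).symm.trans h1
    refine mem_center_iff.mpr fun b => Subtype.ext (Prod.ext ?_ ?_)
    · exact mem_center_iff.mp (hpc (MonoidHom.mem_ker.mpr h1)) (p1 b)
    · exact mem_center_iff.mp (hf.2.1 (MonoidHom.mem_ker.mpr h2)) (p2 b)
  set D := commutator ↥P with hD
  have hmap : ∀ {Y : Type u} [Group Y] (q : ↥P →* Y), Function.Surjective q → commutator Y = ⊤ → D.map q = ⊤ := by
    intro Y _ q hq hY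
    rw [hD, commutator_def, map_commutator, map_top_of_surjective _ hq, ← commutator_def, hY]
  have hDg : D.map g = ⊤ := by
    rw [hD, commutator_def, map_commutator, map_top_of_surjective _ hgs, ← commutator_def, perfect_Sg]
  have hsup : D ⊔ g.ker = ⊤ := by
    rw [← comap_map_eq, hDg, comap_top]
  have hDperf : D ≤ ⁅D, D⁆ := by
    show commutator ↥P ≤ _
    rw [commutator_def, ← hsup, commutator_le]
    intro a ha b hb
    obtain ⟨a1, ha1, a2, ha2, rfl⟩ := mem_sup_of_normal_right.mp ha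
    obtain ⟨b1, hb1, b2, hb2, rfl⟩ := mem_sup_of_normal_right.mp hb
    have ca := mem_center_iff.mp (hgk ha2)
    have cb := mem_center_iff.mp (hgk hb2)
    have e : ⁅a1 * a2, b1 * b2⁆ = ⁅a1, b1⁆ := by
      rw [commutatorElement_def, commutatorElement_def]
      calc a1 * a2 * (b1 * b2) * (a1 * a2)⁻¹ * (b1 * b2)⁻¹
          = a1 * (a2 * b1) * b2 * a2⁻¹ * a1⁻¹ * b2⁻¹ * b1⁻¹ := by group
        _ = a1 * (b1 * a2) * b2 * a2⁻¹ * a1⁻¹ * b2⁻¹ * b1⁻¹ := by rw [ca]
        _ = a1 * b1 * (a2 * b2) * a2⁻¹ * a1⁻¹ * b2⁻¹ * b1⁻¹ := by group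
        _ = a1 * b1 * (b2 * a2) * a2⁻¹ * a1⁻¹ * b2⁻¹ * b1⁻¹ := by rw [ca b2]
        _ = a1 * b1 * (b2 * a1⁻¹) * b2⁻¹ * b1⁻¹ := by group
        _ = a1 * b1 * (a1⁻¹ * b2) * b2⁻¹ * b1⁻¹ := by rw [cb a1⁻¹]
        _ = a1 * b1 * a1⁻¹ * b1⁻¹ := by group
    rw [e]
    exact commutator_mem_commutator ha1 hb1
  let gD : ↥D →* ↥Sg := g.comp D.subtype
  have hgDs : Function.Surjective gD := fun y => by
    obtain ⟨a, ha, e⟩ := mem_map.mp (hDg ▸ mem_top y)
    exact ⟨⟨a, ha⟩, e⟩
  have hDtop : commutator ↥D = ⊤ := by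
    refine map_injective D.subtype_injective ?_
    rw [commutator_def, map_commutator, ← MonoidHom.range_eq_map, range_subtype]
    exact le_antisymm (commutator_le_self D) hDperf
  have hstem : Cfsg.IsStemExtension gD := ⟨hgDs, fun a ha => mem_center_iff.mpr fun b =>
    Subtype.ext (mem_center_iff.mp (hgk (show (a : ↥P) ∈ g.ker from ha)) b), fun a _ => hDtop ▸ mem_top a⟩
  have hk := (OEight.ker_small hstem).1
  have hcard : Nat.card ↥D ≤ Nat.card ↥Ug := by
    have h1 := gD.ker.card_mul_index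
    rw [index_ker, MonoidHom.range_eq_top.mpr hgDs, card_top] at h1
    have h2 := pr.ker.card_mul_index
    rw [index_ker, MonoidHom.range_eq_top.mpr hps, card_top, hk4] at h2
    rw [← h1, ← h2]
    exact Nat.mul_le_mul_right _ hk
  let qU : ↥D →* ↥Ug := p1.comp D.subtype
  have hqU : Function.Surjective qU := fun y => by
    have hm : D.map p1 = ⊤ := by
      rw [hD, commutator_def, map_commutator, map_top_of_surjective _ hp1, ← commutator_def, perfect_Ug]
    obtain ⟨a, ha, e⟩ := mem_map.mp (hm ▸ mem_top y)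
    exact ⟨⟨a, ha⟩, e⟩
  have hb : Function.Bijective qU := (Nat.bijective_iff_surjective_and_card qU).mpr
    ⟨hqU, le_antisymm hcard (Nat.card_le_card_of_surjective qU hqU)⟩
  let E : ↥D ≃* ↥Ug := MulEquiv.ofBijective qU hb
  refine ⟨(p2.comp D.subtype).comp E.symm.toMonoidHom, ?_, ?_⟩
  · have hm : D.map p2 = ⊤ := hmap p2 hp2 (perfect_of_stem hf)
    intro x
    obtain ⟨a, ha, e⟩ := mem_map.mp (hm ▸ mem_top x)
    exact ⟨E ⟨a, ha⟩, by simp [e]⟩
  · refine MonoidHom.ext fun u => ?_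
    show f (p2 (E.symm u : ↥D)) = pr u
    rw [← hmem]
    exact congrArg pr (E.apply_symm_apply u)

end CfsgLib.O8Two
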