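/-
The tables of the root system of type E8 are consistent.
-/
import Cfsg.Agent.Lib.StdO8Two.Data
import Cfsg.Agent.Lib.PermChain.Code

set_option autoImplicit false
set_option maxRecDepth 20000

namespace CfsgLib.O8Two

/-- A shifted coordinate of a root. -/
def crd (i k : ℕ) : ℕ := (Data.crdT.get i >>> (4 * k)) % 16

/-- A shifted inner product. -/
def qn (i j : ℕ) : ℕ := (Data.qT.get i >>> (3 * j)) % 8

/-- A reflection on the numbers. -/
def rn (a v : ℕ) : ℕ := CfsgPC.ap (Data.rfT.get a) v

/-- The roots with shifted inner product `v` with root `i`. -/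
def mk (i v : ℕ) : ℕ := Data.mkT.get (5 * i + v)

/-! ### The checks -/

/-- The sum of the shifted coordinates. -/
def csum (i : ℕ) : ℕ :=
  crd i 0 + crd i 1 + crd i 2 + crd i 3 + crd i 4 + crd i 5 + crd i 6 + crd i 7

/-- The product sum of the shifted coordinates. -/
def cdot (i j : ℕ) : ℕ :=
  crd i 0 * crd j 0 + crd i 1 * crd j 1 + crd i 2 * crd j 2 + crd i 3 * crd j 3 + crd i 4 * crd j 4 +
    crd i 5 * crd j 5 + crd i 6 * crd j 6 + crd i 7 * crd j 7

/-- The inner products of one root agree with the coordinates and the masks. -/
def pairOK (i : ℕ) : Bool :=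
  (List.range 240).all fun j =>
    Nat.beq (cdot i j + 40) (4 * qn i j + 2 * csum i + 2 * csum j) && Nat.ble (qn i j) 4 &&
      Nat.testBit (mk i (qn i j)) j

/-- A reflection moves the coordinates as it should. -/
def reflOK (a : ℕ) : Bool :=
  (List.range 240).all fun v => Nat.blt (rn a v) 240 && (List.range 8).all fun k =>
    Nat.beq (crd (rn a v) k + qn v a * crd a k + 4) (crd v k + 2 * qn v a + 2 * crd a k)

/-- Small checks of one root. -/
def oneOK (i : ℕ) : Bool :=
  Nat.beq (qn i i) 4 && ((List.range 8).all fun k => Nat.beq (crd (239 - i) k + crd i k) 4) &&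
    (List.range 5).all fun v => Nat.blt (mk i v) (2 ^ 240) &&
      (List.range 5).all fun w => Nat.beq v w || Nat.beq (Nat.land (mk i v) (mk i w)) 0

theorem pairs_ok0 : ((List.range' 0 80).all pairOK) = true := by decide +kernel

theorem pairs_ok1 : ((List.range' 80 80).all pairOK) = true := by decide +kernel

theorem pairs_ok2 : ((List.range' 160 80).all pairOK) = true := by decide +kernel

theorem refls_ok0 : ((List.range' 0 80).all reflOK) = true := by decide +kernel

theorem refls_ok1 : ((List.range' 80 80).all reflOK) = true := by decide +kernel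

theorem refls_ok2 : ((List.range' 160 80).all reflOK) = true := by decide +kernel

theorem ones_ok : ((List.range 240).all oneOK) = true := by decide +kernel

end CfsgLib.O8Two
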