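/-
The root system of type E8 on 240 points and its group of symmetries.

The roots are numbered by their sorted coordinates, so the opposite of `i` is `239 - i`. Inner products, reflections
and the sets of roots with a given inner product come from checked tables.
-/
import Cfsg.Agent.Lib.StdO8Two.RootChecks

set_option autoImplicit false
set_option maxRecDepth 20000

namespace CfsgLib.O8Two

open Equiv

theorem three_parts {f : ℕ → Bool} (h0 : (List.range' 0 80).all f = true) (h1 : (List.range' 80 80).all f = true)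
    (h2 : (List.range' 160 80).all f = true) {i : ℕ} (hi : i < 240) : f i = true := by
  rw [List.all_eq_true] at h0 h1 h2
  by_cases a : i < 80
  · exact h0 i (List.mem_range'_1.mpr ⟨Nat.zero_le _, by omega⟩)
  by_cases b : i < 160
  · exact h1 i (List.mem_range'_1.mpr ⟨by omega, by omega⟩)
  exact h2 i (List.mem_range'_1.mpr ⟨by omega, by omega⟩)

/-! ### Inner products -/

/-- The inner product. -/
def Q (i j : Fin 240) : ℤ := (qn i j : ℤ) - 2

/-- A coordinate. -/
def co (i k : ℕ) : ℤ := (crd i k : ℤ) - 2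

/-- The product sum of coordinates. -/
def dotC (i j : ℕ) : ℤ :=
  co i 0 * co j 0 + co i 1 * co j 1 + co i 2 * co j 2 + co i 3 * co j 3 + co i 4 * co j 4 + co i 5 * co j 5 +
    co i 6 * co j 6 + co i 7 * co j 7

theorem pair_spec (i j : Fin 240) : cdot i j + 40 = 4 * qn i j + 2 * csum i + 2 * csum j ∧ qn i j ≤ 4 ∧
    Nat.testBit (mk i (qn i j)) j = true := by
  have h := List.all_eq_true.mp (three_parts pairs_ok0 pairs_ok1 pairs_ok2 i.2) j (List.mem_range.mpr j.2)
  rw [Bool.and_eq_true, Bool.and_eq_true] at h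
  exact ⟨Nat.eq_of_beq_eq_true h.1.1, Nat.le_of_ble_eq_true h.1.2, h.2⟩

theorem dot_eq (i j : Fin 240) : dotC i j = 4 * Q i j := by
  have h := congrArg (fun n : ℕ => (n : ℤ)) (pair_spec i j).1
  simp only [cdot, csum, Nat.cast_add, Nat.cast_mul, Nat.cast_ofNat] at h
  simp only [dotC, co, Q]
  linarith [h]

theorem Q_symm (i j : Fin 240) : Q i j = Q j i := by
  have h1 := dot_eq i j
  have h2 := dot_eq j i
  have : dotC i j = dotC j i := by simp only [dotC]; ring
  omega

theorem qn_symm (i j : Fin 240) : qn i j = qn j i := by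
  have := Q_symm i j
  simp only [Q] at this
  omega

theorem one_spec (i : Fin 240) : qn i i = 4 ∧ (∀ k < 8, crd (239 - i) k + crd i k = 4) ∧
    ∀ v < 5, mk i v < 2 ^ 240 ∧ ∀ w < 5, v ≠ w → Nat.land (mk i v) (mk i w) = 0 := by
  have h := List.all_eq_true.mp ones_ok i (List.mem_range.mpr i.2)
  simp only [oneOK, Bool.and_eq_true, List.all_eq_true, List.mem_range, Nat.blt_eq, Bool.or_eq_true] at h
  refine ⟨Nat.eq_of_beq_eq_true h.1.1, fun k hk => Nat.eq_of_beq_eq_true (h.1.2 k hk), fun v hv =>
    ⟨(h.2 v hv).1, fun w hw hne => ?_⟩⟩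
  rcases (h.2 v hv).2 w hw with e | e
  · exact absurd (Nat.eq_of_beq_eq_true e) hne
  · exact Nat.eq_of_beq_eq_true e

theorem Q_self (i : Fin 240) : Q i i = 2 := by simp [Q, (one_spec i).1]

theorem mk_bit {i : Fin 240} {v : ℕ} (hv : v < 5) {j : ℕ} :
    Nat.testBit (mk i v) j = true ↔ j < 240 ∧ qn i j = v := by
  constructor
  · intro h
    have hj : j < 240 := by
      by_contra hj
      rw [Nat.testBit_lt_two_pow (lt_of_lt_of_le ((one_spec i).2.2 v hv).1
        (Nat.pow_le_pow_right (by norm_num) (not_lt.mp hj)))] at h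
      exact Bool.false_ne_true h
    refine ⟨hj, ?_⟩
    by_contra hne
    have h2 := pair_spec i ⟨j, hj⟩
    have h0 := ((one_spec i).2.2 v hv).2 _ (Nat.lt_succ_of_le h2.2.1) (Ne.symm hne)
    have h3 := congrArg (fun m => Nat.testBit m j) h0
    have h4 : Nat.testBit (mk i v &&& mk i (qn i j)) j = true := by
      rw [Nat.testBit_and, h, h2.2.2]; rfl
    simp only at h3
    rw [show Nat.land (mk i v) (mk i (qn i j)) = mk i v &&& mk i (qn i j) from rfl, h4] at h3
    simp at h3
  · rintro ⟨hj, rfl⟩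
    exact (pair_spec i ⟨j, hj⟩).2.2

/-! ### Keys -/

/-- All the roots. -/
def full : ℕ := 2 ^ 240 - 1

/-- The roots lying to the images as the root `i` lies to the base. -/
def key (bs im : List ℕ) (i : ℕ) : ℕ :=
  (bs.zip im).foldr (fun p m => Nat.land (mk p.2 (qn p.1 i)) m) full

/-- Evaluate a number before using it. -/
def force {α : Type} : ℕ → (ℕ → α) → α
  | 0, f => f 0
  | n + 1, f => f (n + 1)

theorem force_eq {α : Type} (n : ℕ) (f : ℕ → α) : force n f = f n := by cases n <;> rfl

/-- The highest bit of a number below `2 ^ 2 ^ k`. -/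
def bposAux : ℕ → ℕ → ℕ
  | 0, _ => 0
  | k + 1, m => force (m >>> 2 ^ k) fun hi => bif Nat.beq hi 0 then bposAux k m else bposAux k hi + 2 ^ k

/-- The position of a single bit. -/
def bpos (m : ℕ) : ℕ := bposAux 8 m

theorem bpos_pow : ∀ p < 240, bpos (2 ^ p) = p := by decide +kernel

/-- A base tells the roots apart. -/
def sepOK (bs : List ℕ) : Bool :=
  (bs.all fun b => Nat.blt b 240) && (List.range 240).all fun i => Nat.beq (key bs bs i) (2 ^ i)

theorem key_bit (bs im : List ℕ) (hb : ∀ b ∈ bs, b < 240) (hc : ∀ c ∈ im, c < 240) (i : Fin 240) (j : ℕ) :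
    Nat.testBit (key bs im i) j = true ↔ j < 240 ∧ ∀ p ∈ bs.zip im, qn p.2 j = qn p.1 i := by
  unfold key
  induction bs generalizing im with
  | nil =>
    show Nat.testBit (2 ^ 240 - 1) j = true ↔ _
    simp only [Nat.testBit_two_pow_sub_one, decide_eq_true_eq, List.zip_nil_left, List.not_mem_nil, IsEmpty.forall_iff,
      implies_true, and_true]
  | cons b bs ih =>
    cases im with
    | nil =>
      show Nat.testBit (2 ^ 240 - 1) j = true ↔ _
      simp only [Nat.testBit_two_pow_sub_one, decide_eq_true_eq, List.zip_nil_right, List.not_mem_nil, IsEmpty.forall_iff,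
        implies_true, and_true]
    | cons c im =>
      have hb0 : b < 240 := hb b (by simp)
      have hc0 : c < 240 := hc c (by simp)
      rw [List.zip_cons_cons, List.foldr_cons]
      show (Nat.testBit (mk c (qn b i) &&& _) j = true) ↔ _
      rw [Nat.testBit_and, Bool.and_eq_true,
        mk_bit (i := ⟨c, hc0⟩) (Nat.lt_succ_of_le (pair_spec ⟨b, hb0⟩ i).2.1),
        ih im (fun x hx => hb x (by simp [hx])) (fun x hx => hc x (by simp [hx]))]
      simp only [List.forall_mem_cons]
      tauto

theorem eq_of_base {bs : List ℕ} (hs : sepOK bs = true) {i j : Fin 240} (h : ∀ b ∈ bs, qn b i = qn b j) : i = j := by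
  rw [sepOK, Bool.and_eq_true, List.all_eq_true, List.all_eq_true] at hs
  have hb : ∀ b ∈ bs, b < 240 := fun b hb => by simpa [Nat.blt_eq] using hs.1 b hb
  have hk := Nat.eq_of_beq_eq_true (hs.2 i (List.mem_range.mpr i.2))
  have hbit : Nat.testBit (key bs bs i) j = true := by
    rw [key_bit bs bs hb hb i]
    refine ⟨j.2, fun p hp => ?_⟩
    obtain ⟨hp1, hp2⟩ := List.of_mem_zip (a := p.1) (b := p.2) hp
    rw [List.zip_eq_zipWith, List.zipWith_self, List.mem_map] at hp
    obtain ⟨x, -, rfl⟩ := hp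
    exact (h x hp1).symm
  rw [hk, Nat.testBit_two_pow] at hbit
  exact Fin.ext (by simpa using hbit)

theorem frame_sep : sepOK Data.frame = true := by decide +kernel

theorem eq_of_Q {i j : Fin 240} (h : ∀ u, Q i u = Q j u) : i = j := by
  refine eq_of_base frame_sep fun b hb => ?_
  have hb' : b < 240 := by
    have := frame_sep
    rw [sepOK, Bool.and_eq_true, List.all_eq_true] at this
    simpa [Nat.blt_eq] using this.1 b hb
  have := h ⟨b, hb'⟩
  rw [Q_symm i, Q_symm j] at this
  simp only [Q] at this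
  omega

/-! ### The group of symmetries -/

/-- The permutations of the roots keeping the inner product. -/
def Wf : Subgroup (Perm (Fin 240)) where
  carrier := {g | ∀ i j, Q (g i) (g j) = Q i j}
  one_mem' := fun _ _ => rfl
  mul_mem' := fun {a b} ha hb i j => (ha (b i) (b j)).trans (hb i j)
  inv_mem' := fun {a} ha i j => by
    have := ha (a⁻¹ i) (a⁻¹ j)
    simp only [Perm.coe_inv, apply_symm_apply] at this
    exact this.symm

/-- The opposite of a root. -/
def zeta : Perm (Fin 240) := Fin.revPerm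

theorem zeta_val (i : Fin 240) : (zeta i : ℕ) = 239 - i := by
  simp [zeta, Fin.rev]

theorem Q_zeta (i j : Fin 240) : Q (zeta i) j = - Q i j := by
  have h1 := dot_eq (zeta i) j
  have h2 := dot_eq i j
  have hk : ∀ k < 8, co (zeta i) k = - co i k := fun k hk => by
    have := (one_spec i).2.1 k hk
    simp only [co, zeta_val]
    omega
  have : dotC (zeta i) j = - dotC i j := by
    simp only [dotC, hk 0 (by norm_num), hk 1 (by norm_num), hk 2 (by norm_num), hk 3 (by norm_num),
      hk 4 (by norm_num), hk 5 (by norm_num), hk 6 (by norm_num), hk 7 (by norm_num)]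
    ring
  omega

theorem zeta_mem : zeta ∈ Wf := fun i j => by rw [Q_zeta, Q_symm, Q_zeta, Q_symm, neg_neg]

theorem zeta_comm {g : Perm (Fin 240)} (hg : g ∈ Wf) : zeta * g = g * zeta := by
  refine Equiv.ext fun i => eq_of_Q fun u => ?_
  rw [Perm.mul_apply, Perm.mul_apply, Q_zeta, ← g.apply_symm_apply u, hg, hg, Q_zeta]

theorem zeta_sq : zeta * zeta = 1 := Equiv.ext fun i => by simp [zeta, Fin.rev_rev]

theorem zeta_ne : zeta ≠ 1 := fun h => by
  have := congrArg (fun g : Perm (Fin 240) => (g 0 : ℕ)) h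
  simp [zeta_val] at this

theorem rn_spec (a v : Fin 240) : rn a v < 240 ∧ ∀ k < 8,
    crd (rn a v) k + qn v a * crd a k + 4 = crd v k + 2 * qn v a + 2 * crd a k := by
  have h := List.all_eq_true.mp (three_parts refls_ok0 refls_ok1 refls_ok2 a.2) v (List.mem_range.mpr v.2)
  rw [Bool.and_eq_true, Nat.blt_eq, List.all_eq_true] at h
  exact ⟨h.1, fun k hk => Nat.eq_of_beq_eq_true (h.2 k (List.mem_range.mpr hk))⟩

/-- The image of `v` in the reflection of `a`. -/
def rfun (a v : Fin 240) : Fin 240 := ⟨rn a v, (rn_spec a v).1⟩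

theorem co_rfun (a v : Fin 240) {k : ℕ} (hk : k < 8) : co (rfun a v) k = co v k - Q v a * co a k := by
  have h := congrArg (fun n : ℕ => (n : ℤ)) ((rn_spec a v).2 k hk)
  simp only [Nat.cast_add, Nat.cast_mul, Nat.cast_ofNat] at h
  simp only [co, Q, rfun]
  linarith [h]

theorem Q_rfun (a v u : Fin 240) : Q (rfun a v) u = Q v u - Q v a * Q a u := by
  have h1 := dot_eq (rfun a v) u
  have h2 := dot_eq v u
  have h3 := dot_eq a u
  have : dotC (rfun a v) u = dotC v u - Q v a * dotC a u := by
    simp only [dotC, co_rfun a v (show 0 < 8 by norm_num), co_rfun a v (show 1 < 8 by norm_num),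
      co_rfun a v (show 2 < 8 by norm_num), co_rfun a v (show 3 < 8 by norm_num), co_rfun a v (show 4 < 8 by norm_num),
      co_rfun a v (show 5 < 8 by norm_num), co_rfun a v (show 6 < 8 by norm_num), co_rfun a v (show 7 < 8 by norm_num)]
    ring
  rw [h1, h2, h3] at this
  linarith

theorem rfun_invol (a v : Fin 240) : rfun a (rfun a v) = v := eq_of_Q fun u => by
  rw [Q_rfun, Q_rfun, Q_rfun a v a, Q_self]; ring

/-- The reflection in a root. -/
def rP (a : Fin 240) : Perm (Fin 240) := Function.Involutive.toPerm (rfun a) (rfun_invol a)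

theorem rP_apply (a v : Fin 240) : rP a v = rfun a v := rfl

theorem rP_mem (a : Fin 240) : rP a ∈ Wf := fun i j => by
  rw [rP_apply, rP_apply, Q_rfun, Q_symm i (rfun a j), Q_rfun, Q_symm a (rfun a j), Q_rfun, Q_self, Q_symm j a,
    Q_symm j i, Q_symm a i]
  ring

theorem rP_sq (a : Fin 240) : rP a * rP a = 1 := Equiv.ext fun v => rfun_invol a v

theorem rP_inv (a : Fin 240) : (rP a)⁻¹ = rP a := inv_eq_of_mul_eq_one_right (rP_sq a)

theorem conj_rP {g : Perm (Fin 240)} (hg : g ∈ Wf) (a : Fin 240) : g * rP a * g⁻¹ = rP (g a) := by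
  refine Equiv.ext fun v => eq_of_Q fun u => ?_
  obtain ⟨v, rfl⟩ := g.surjective v
  obtain ⟨u, rfl⟩ := g.surjective u
  simp only [Perm.mul_apply, Perm.coe_inv, symm_apply_apply]
  rw [rP_apply, rP_apply, hg, Q_rfun, Q_rfun, hg, hg, hg]

theorem rP_self (a : Fin 240) : rP a a = zeta a := eq_of_Q fun u => by
  rw [rP_apply, Q_rfun, Q_zeta, Q_self]; ring

/-! ### Values on numbers -/

/-- A permutation as a map of numbers. -/
def ev (g : Perm (Fin 240)) (i : ℕ) : ℕ := if h : i < 240 then (g ⟨i, h⟩ : ℕ) else i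

theorem ev_val (g : Perm (Fin 240)) (i : Fin 240) : ev g i = (g i : ℕ) := by simp [ev]

theorem ev_lt (g : Perm (Fin 240)) {i : ℕ} (hi : i < 240) : ev g i < 240 := by simp [ev, hi]

theorem ev_mul (g h : Perm (Fin 240)) (i : ℕ) : ev (g * h) i = ev g (ev h i) := by
  by_cases hi : i < 240 <;> simp [ev, hi]

theorem ev_one (i : ℕ) : ev 1 i = i := by by_cases hi : i < 240 <;> simp [ev, hi]

theorem qn_ev {g : Perm (Fin 240)} (hg : g ∈ Wf) {i j : ℕ} (hi : i < 240) (hj : j < 240) :
    qn (ev g i) (ev g j) = qn i j := by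
  have := hg ⟨i, hi⟩ ⟨j, hj⟩
  simp only [Q] at this
  simp only [ev, hi, hj, dif_pos]
  omega

theorem sep_lt {bs : List ℕ} (hs : sepOK bs = true) : ∀ b ∈ bs, b < 240 := by
  rw [sepOK, Bool.and_eq_true, List.all_eq_true] at hs
  exact fun b hb => by simpa [Nat.blt_eq] using hs.1 b hb

theorem ext_base {bs : List ℕ} (hs : sepOK bs = true) {g h : Perm (Fin 240)} (hg : g ∈ Wf) (hh : h ∈ Wf)
    (e : ∀ b ∈ bs, ev g b = ev h b) : g = h := by
  refine Equiv.ext fun i => eq_of_base hs fun b hb => ?_
  obtain ⟨b', hb'⟩ := g.surjective ⟨b, sep_lt hs b hb⟩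
  have e1 : h ∈ Wf := hh
  -- write the base root as an image
  have key : ∀ c ∈ bs, qn (ev g c) (g i : ℕ) = qn (ev g c) (h i : ℕ) := fun c hc => by
    have hc' := sep_lt hs c hc
    have h1 := qn_ev hg hc' i.2
    have h2 := qn_ev hh hc' i.2
    rw [ev_val, ← e c hc] at h2
    rw [ev_val] at h1
    rw [h1, h2]
  have hall : ∀ c ∈ bs, qn c i = qn c ((g⁻¹ * h) i : Fin 240) := fun c hc => by
    have hc' := sep_lt hs c hc
    have h1 := qn_ev hg hc' ((g⁻¹ * h) i).2
    rw [ev_val, Perm.mul_apply] at h1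
    simp only [Perm.coe_inv, apply_symm_apply] at h1
    have h2 := key c hc
    rw [h1] at h2
    have h3 := qn_ev hg hc' i.2
    rw [ev_val, h2] at h3
    exact h3.symm
  have := eq_of_base hs hall
  have e2 : g i = h i := by
    conv_lhs => rw [this]
    simp
  rw [e2]

/-- The image of `i` under the symmetry with the given images of a base. -/
def gAt (bs im : List ℕ) (i : ℕ) : ℕ := force i fun i' => force (key bs im i') bpos

theorem gAt_eq {bs : List ℕ} (hs : sepOK bs = true) {g : Perm (Fin 240)} (hg : g ∈ Wf) {i : ℕ} (hi : i < 240) :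
    gAt bs (bs.map (ev g)) i = ev g i := by
  have hb := sep_lt hs
  have hc : ∀ c ∈ bs.map (ev g), c < 240 := fun c hc => by
    obtain ⟨b, hb', rfl⟩ := List.mem_map.mp hc
    exact ev_lt g (hb b hb')
  have hk : key bs (bs.map (ev g)) i = 2 ^ ev g i := by
    refine Nat.eq_of_testBit_eq fun j => Bool.eq_iff_iff.mpr ?_
    rw [key_bit bs _ hb hc ⟨i, hi⟩, Nat.testBit_two_pow, decide_eq_true_eq]
    constructor
    · rintro ⟨hj, hall⟩
      obtain ⟨⟨j', hj'⟩, e⟩ := g.surjective ⟨j, hj⟩
      have ej : ev g j' = j := by rw [ev, dif_pos hj', e]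
      have : (⟨i, hi⟩ : Fin 240) = ⟨j', hj'⟩ := eq_of_base hs fun b hb' => by
        have h1 := hall (b, ev g b) (by
          rw [List.zip_map_right, List.mem_map]
          exact ⟨(b, b), by rw [List.zip_eq_zipWith, List.zipWith_self]; exact List.mem_map.mpr ⟨b, hb', rfl⟩, rfl⟩)
        simp only at h1
        rw [← ej, qn_ev hg (hb b hb') hj'] at h1
        exact h1.symm
      rw [Fin.mk.injEq] at this
      rw [← ej, this]
    · rintro rfl
      refine ⟨ev_lt g hi, fun p hp => ?_⟩
      rw [List.zip_map_right, List.mem_map] at hp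
      obtain ⟨q, hq, rfl⟩ := hp
      rw [List.zip_eq_zipWith, List.zipWith_self] at hq
      obtain ⟨b, hb', rfl⟩ := List.mem_map.mp hq
      exact qn_ev hg (hb b hb') hi
  rw [gAt, force_eq, force_eq, hk, bpos_pow _ (ev_lt g hi)]

end CfsgLib.O8Two
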