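/-
Products of reflections of the root system of type E8: parity, transitivity on the roots, the size of the group
of symmetries, fixed and negated roots.
-/
import Cfsg.Agent.Lib.StdO8Two.Root

set_option autoImplicit false
set_option maxRecDepth 20000

namespace CfsgLib.O8Two

open Equiv

/-- A reflection on all numbers. -/
def rnW (a v : ℕ) : ℕ := bif Nat.blt a 240 then rn a v else v

/-- The action of a word of reflections. -/
def wF (l : List ℕ) (i : ℕ) : ℕ := l.foldr rnW i

/-- The numbers in base 256 of a packed word, less one. -/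
def unp : ℕ → ℕ → List ℕ
  | 0, _ => []
  | f + 1, n => bif Nat.beq n 0 then [] else (n % 256 - 1) :: unp f (n >>> 8)

/-- The word of a number. -/
def wd (n : ℕ) : List ℕ := unp 40 n

/-- A reflection given by a number. -/
noncomputable def rPn (a : ℕ) : Perm (Fin 240) := if h : a < 240 then rP ⟨a, h⟩ else 1

/-- The product of a word. -/
noncomputable def wP (l : List ℕ) : Perm (Fin 240) := (l.map rPn).prod

theorem rPn_mem (a : ℕ) : rPn a ∈ Wf := by
  unfold rPn; split
  · exact rP_mem _
  · exact one_mem _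

theorem wP_mem (l : List ℕ) : wP l ∈ Wf := list_prod_mem (by simp [rPn_mem])

theorem ev_rPn (a : ℕ) {i : ℕ} (hi : i < 240) : ev (rPn a) i = rnW a i := by
  by_cases ha : a < 240
  · simp [rPn, rnW, ev, ha, hi, rP_apply, rfun, Nat.blt_eq.mpr ha]
  · have : Nat.blt a 240 = false := by rw [← Bool.not_eq_true, Nat.blt_eq]; exact ha
    simp [rPn, rnW, ev, ha, hi, this]

theorem ev_wP (l : List ℕ) {i : ℕ} (hi : i < 240) : ev (wP l) i = wF l i := by
  induction l with
  | nil => simp [wP, wF, ev_one]
  | cons a l ih =>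
    have e : wP (a :: l) = rPn a * wP l := by simp [wP]
    rw [e, ev_mul, wF, List.foldr_cons, ev_rPn a (ev_lt _ hi), ih, wF]

theorem wP_append (l m : List ℕ) : wP (l ++ m) = wP l * wP m := by simp [wP]

theorem wF_append (l m : List ℕ) (i : ℕ) : wF (l ++ m) i = wF l (wF m i) := by simp [wF, List.foldr_append]

/-! ### Roots with extreme inner product -/

theorem extreme_ok : ((List.range 240).all fun i =>
    Nat.beq (mk i 4) (2 ^ i) && Nat.beq (mk i 0) (2 ^ (239 - i))) = true := by decide +kernel

theorem eq_of_Q_two {i j : Fin 240} (h : Q i j = 2) : j = i := by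
  have h4 : qn i j = 4 := by simp only [Q] at h; omega
  have hb : Nat.testBit (mk i 4) j = true := (mk_bit (by norm_num)).mpr ⟨j.2, h4⟩
  have := List.all_eq_true.mp extreme_ok i (List.mem_range.mpr i.2)
  rw [Bool.and_eq_true] at this
  rw [Nat.eq_of_beq_eq_true this.1, Nat.testBit_two_pow, decide_eq_true_eq] at hb
  exact Fin.ext hb.symm

theorem eq_zeta_of_Q {i j : Fin 240} (h : Q i j = -2) : j = zeta i :=
  eq_of_Q_two (by rw [Q_zeta, h]; rfl)

theorem rP_zeta (a : Fin 240) : rP (zeta a) = rP a := by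
  refine Equiv.ext fun v => eq_of_Q fun u => ?_
  rw [rP_apply, rP_apply, Q_rfun, Q_rfun, Q_zeta, Q_symm v (zeta a), Q_zeta, Q_symm a v]
  ring

theorem rP_eq {a b : Fin 240} (h : rP a = rP b) : b = a ∨ b = zeta a := by
  have h1 : Q (rP a b) b = -2 := by rw [h, rP_self, Q_zeta, Q_self]
  rw [rP_apply, Q_rfun, Q_self, Q_symm b a] at h1
  have : Q a b * Q a b = 4 := by linarith
  have h2 : Q a b = 2 ∨ Q a b = -2 := by
    have : (Q a b - 2) * (Q a b + 2) = 0 := by linarith
    rcases mul_eq_zero.mp this with e | e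
    · left; linarith
    · right; linarith
  exact h2.imp eq_of_Q_two eq_zeta_of_Q

/-! ### Parity -/

theorem roots_ok : (Nat.beq Data.rootW.length 240 && (List.range 240).all fun i =>
    (wd (Data.rootW.getD i 0)).all (fun a => Nat.blt a 240) && Nat.beq ((wd (Data.rootW.getD i 0)).length % 2) 0 &&
      Nat.beq (wF (wd (Data.rootW.getD i 0)) 0) i) = true := by decide +kernel

theorem exists_word (i : Fin 240) : ∃ l : List ℕ, (∀ a ∈ l, a < 240) ∧ Even l.length ∧ wP l 0 = i := by
  have h := List.all_eq_true.mp (Bool.and_eq_true_iff.mp roots_ok).2 i (List.mem_range.mpr i.2)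
  simp only [Bool.and_eq_true, List.all_eq_true, Nat.blt_eq] at h
  refine ⟨_, h.1.1, Nat.even_iff.mpr (Nat.eq_of_beq_eq_true h.1.2), Fin.ext ?_⟩
  have := ev_wP (wd (Data.rootW.getD i 0)) (show 0 < 240 by norm_num)
  rw [Nat.eq_of_beq_eq_true h.2, ev, dif_pos (show 0 < 240 by norm_num)] at this
  exact this

/-- A product of transpositions of numbers. -/
def swN (l : List (ℕ × ℕ)) (i : ℕ) : ℕ :=
  l.foldr (fun p x => bif Nat.beq x p.1 then p.2 else bif Nat.beq x p.2 then p.1 else x) i

/-- The transposition of two numbers below 240. -/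
def swP (p : ℕ × ℕ) : Perm (Fin 240) := Equiv.swap (Fin.ofNat 240 p.1) (Fin.ofNat 240 p.2)

theorem swaps_ok : ((List.range 240).all fun i => Nat.beq (rn 0 i) (swN Data.swaps i)) = true ∧
    (Data.swaps.all fun p => Nat.blt p.1 240 && Nat.blt p.2 240 && !(Nat.beq p.1 p.2)) = true ∧
      Data.swaps.length = 57 := by decide +kernel

theorem swN_prod : ∀ l : List (ℕ × ℕ), (∀ p ∈ l, p.1 < 240 ∧ p.2 < 240) → ∀ i : Fin 240,
    ((l.map swP).prod i : ℕ) = swN l i := by
  intro l
  induction l with
  | nil => intro _ i; simp [swN]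
  | cons p l ih =>
    intro h i
    obtain ⟨h1, h2⟩ := h p (by simp)
    have ih' := ih (fun q hq => h q (by simp [hq])) i
    rw [List.map_cons, List.prod_cons, Perm.mul_apply, swN, List.foldr_cons]
    rw [swN] at ih'
    rw [← ih', swP, Equiv.swap_apply_def]
    set x := (l.map swP).prod i with hx
    have hb : ∀ a b : ℕ, Nat.beq a b = decide (a = b) := fun a b => by
      by_cases e : a = b
      · subst e; simp
      · simp only [e, decide_false]; rw [← Bool.not_eq_true]; exact fun h => e (Nat.eq_of_beq_eq_true h)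
    rw [hb, hb]
    simp only [Fin.ext_iff, Fin.val_ofNat, Nat.mod_eq_of_lt h1, Nat.mod_eq_of_lt h2]
    by_cases e1 : (x : ℕ) = p.1
    · simp [e1, Nat.mod_eq_of_lt h2]
    · by_cases e2 : (x : ℕ) = p.2
      · simp [e2, show p.2 ≠ p.1 from fun e => e1 (e2.trans e), Nat.mod_eq_of_lt h1]
      · simp [e1, e2]

theorem sign_rP (a : Fin 240) : Perm.sign (rP a) = -1 := by
  have h0 : Perm.sign (rP 0) = -1 := by
    have hp := List.all_eq_true.mp swaps_ok.2.1
    simp only [Bool.and_eq_true, Nat.blt_eq, Bool.not_eq_true'] at hp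
    have e : rP 0 = (Data.swaps.map swP).prod := Equiv.ext fun i => Fin.ext (by
      rw [swN_prod _ (fun p h => (hp p h).1) i]
      exact Nat.eq_of_beq_eq_true (List.all_eq_true.mp swaps_ok.1 i (List.mem_range.mpr i.2)))
    rw [e, map_list_prod]
    have : (Data.swaps.map swP).map Perm.sign = List.replicate 57 (-1) := by
      refine List.eq_replicate_iff.mpr ⟨by simp [swaps_ok.2.2], fun u hu => ?_⟩
      simp only [List.map_map, List.mem_map, Function.comp] at hu
      obtain ⟨p, h, rfl⟩ := hu
      refine Perm.sign_swap fun e => ?_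
      have := congrArg Fin.val e
      simp only [Fin.val_ofNat, Nat.mod_eq_of_lt (hp p h).1.1, Nat.mod_eq_of_lt (hp p h).1.2] at this
      have h3 := (hp p h).2
      rw [this, Nat.beq_refl] at h3
      simp at h3
    rw [this, List.prod_replicate]
    decide
  obtain ⟨l, -, -, rfl⟩ := exists_word a
  rw [← conj_rP (wP_mem l), map_mul, map_mul, map_inv, h0]
  simp

theorem sign_wP {l : List ℕ} (h : ∀ a ∈ l, a < 240) : Perm.sign (wP l) = (-1) ^ l.length := by
  induction l with
  | nil => simp [wP]
  | cons a l ih =>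
    rw [show wP (a :: l) = rPn a * wP l from by simp [wP], map_mul, ih fun b hb => h b (by simp [hb]), rPn,
      dif_pos (h a (by simp)), sign_rP, List.length_cons, pow_succ, mul_comm]

/-- The even symmetries. -/
noncomputable def W0 : Subgroup (Perm (Fin 240)) := Wf ⊓ (Perm.sign (α := Fin 240)).ker

theorem mem_W0 {g : Perm (Fin 240)} : g ∈ W0 ↔ g ∈ Wf ∧ Perm.sign g = 1 := Iff.rfl

theorem wP_mem_W0 {l : List ℕ} (h : ∀ a ∈ l, a < 240) (he : Even l.length) : wP l ∈ W0 :=
  mem_W0.mpr ⟨wP_mem l, by rw [sign_wP h, he.neg_one_pow]⟩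

theorem exists_W0_root (i j : Fin 240) : ∃ g ∈ W0, g i = j := by
  obtain ⟨l, h1, h2, rfl⟩ := exists_word i
  obtain ⟨m, k1, k2, rfl⟩ := exists_word j
  exact ⟨wP m * (wP l)⁻¹, mul_mem (wP_mem_W0 k1 k2) (inv_mem (wP_mem_W0 h1 h2)), by simp⟩

theorem zeta_word : ((List.range 240).all fun i => Nat.beq (wF Data.frame i) (239 - i)) = true ∧
    (Data.frame.all fun a => Nat.blt a 240) = true ∧ Data.frame.length = 8 := by decide +kernel

theorem sign_zeta : Perm.sign zeta = 1 := by
  have e : zeta = wP Data.frame := Equiv.ext fun i => Fin.ext (by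
    rw [zeta_val, ← ev_val (wP _), ev_wP _ i.2,
      Nat.eq_of_beq_eq_true (List.all_eq_true.mp zeta_word.1 i (List.mem_range.mpr i.2))])
  rw [e, sign_wP (fun a ha => by simpa [Nat.blt_eq] using List.all_eq_true.mp zeta_word.2.1 a ha), zeta_word.2.2]
  decide

theorem zeta_mem_W0 : zeta ∈ W0 := mem_W0.mpr ⟨zeta_mem, sign_zeta⟩

/-- A word is even. -/
def evenOK (n : ℕ) : Bool := (wd n).all (fun a => Nat.blt a 240) && Nat.beq ((wd n).length % 2) 0

theorem wP_even {n : ℕ} (h : evenOK n = true) : wP (wd n) ∈ W0 := by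
  simp only [evenOK, Bool.and_eq_true, List.all_eq_true, Nat.blt_eq] at h
  exact wP_mem_W0 h.1 (Nat.even_iff.mpr (Nat.eq_of_beq_eq_true h.2))

/-! ### Commuting with the even symmetries -/

theorem pair_negated : ([13, 46].all fun b => (List.range 240).all fun i =>
    Nat.beq (wF [0, b] i) (239 - i) == (Nat.beq i 0 || Nat.beq i 239 || Nat.beq i b || Nat.beq i (239 - b))) = true := by
  decide +kernel

theorem eq_pm_of_commute {v : Perm (Fin 240)} (hv : v ∈ Wf) (hc : ∀ g ∈ W0, v * g = g * v) : v = 1 ∨ v = zeta := by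
  have key : ∀ b ∈ [13, 46], (v 0 : ℕ) = 0 ∨ (v 0 : ℕ) = 239 ∨ (v 0 : ℕ) = b ∨ (v 0 : ℕ) = 239 - b := by
    intro b hb
    have hb' : ∀ a ∈ [0, b], a < 240 := by
      intro a ha
      simp only [List.mem_cons, List.not_mem_nil, or_false] at ha hb
      omega
    have hg := hc _ (wP_mem_W0 hb' (by simp))
    have hneg : ∀ i : Fin 240, (wF [0, b] i = 239 - i) ↔
        ((i : ℕ) = 0 ∨ (i : ℕ) = 239 ∨ (i : ℕ) = b ∨ (i : ℕ) = 239 - b) := fun i => by
      have h := List.all_eq_true.mp (List.all_eq_true.mp pair_negated b hb) i (List.mem_range.mpr i.2)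
      rw [beq_iff_eq, Bool.eq_iff_iff] at h
      simpa [Bool.or_eq_true, or_assoc] using h
    have h0 : wP [0, b] 0 = zeta 0 := Fin.ext (by
      rw [← ev_val, ev_wP _ (Fin.isLt _), zeta_val]
      exact (hneg 0).mpr (Or.inl rfl))
    refine (hneg (v 0)).mp ?_
    have := congrArg (fun p : Perm (Fin 240) => p 0) hg
    simp only [Perm.mul_apply, h0] at this
    rw [← ev_wP _ (Fin.isLt _), ev_val, ← this, ← Perm.mul_apply, ← zeta_comm hv, Perm.mul_apply, zeta_val]
  have h1 := key 13 (by simp)
  have h2 := key 46 (by simp)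
  have hall : ∀ i, ∃ g ∈ W0, g 0 = i := exists_W0_root 0
  have hcase : v 0 = 0 ∨ v 0 = zeta 0 := by
    rcases show (v 0 : ℕ) = 0 ∨ (v 0 : ℕ) = 239 by omega with e | e
    · exact Or.inl (Fin.ext e)
    · exact Or.inr (Fin.ext (by rw [e, zeta_val]; rfl))
  refine hcase.imp (fun e => ?_) fun e => ?_
  · refine Equiv.ext fun i => ?_
    obtain ⟨g, hg, rfl⟩ := hall i
    rw [← Perm.mul_apply, hc g hg, Perm.mul_apply, e]
    rfl
  · refine Equiv.ext fun i => ?_
    obtain ⟨g, hg, rfl⟩ := hall i
    rw [← Perm.mul_apply, hc g hg, Perm.mul_apply, e, ← Perm.mul_apply, ← zeta_comm (mem_W0.mp hg).1]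
    rfl

/-! ### Fixed and negated roots -/

/-- The numbers of fixed and negated roots of a map of numbers. -/
def sF (f : ℕ → ℕ) : ℕ × ℕ :=
  ((List.range 240).countP (fun i => Nat.beq (f i) i), (List.range 240).countP (fun i => Nat.beq (f i) (239 - i)))

/-- The numbers of fixed and negated roots. -/
def sig (g : Perm (Fin 240)) : ℕ × ℕ := sF (ev g)

theorem countP_fin {p : ℕ → Bool} {q : Fin 240 → Prop} [DecidablePred q] (h : ∀ i : Fin 240, p i = true ↔ q i) :
    (List.range 240).countP p = (Finset.univ.filter q).card := by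
  rw [← List.map_coe_finRange_eq_range, List.countP_map, List.countP_eq_length_filter]
  rw [← List.toFinset_card_of_nodup ((List.nodup_finRange 240).filter _)]
  refine congrArg Finset.card ?_
  ext i
  simp [h]

theorem sig_eq (g : Perm (Fin 240)) : sig g =
    ((Finset.univ.filter fun i => g i = i).card, (Finset.univ.filter fun i => g i = zeta i).card) := by
  have hb : ∀ a b : ℕ, Nat.beq a b = true ↔ a = b := fun a b => ⟨Nat.eq_of_beq_eq_true, fun e => e ▸ Nat.beq_refl a⟩
  refine Prod.ext ?_ ?_
  · exact countP_fin (p := fun i => Nat.beq (ev g i) i) (q := fun i => g i = i) fun i => by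
      rw [hb, ev_val, Fin.ext_iff]
  · exact countP_fin (p := fun i => Nat.beq (ev g i) (239 - i)) (q := fun i => g i = zeta i) fun i => by
      rw [hb, ev_val, Fin.ext_iff, zeta_val]

theorem sig_conj {v g : Perm (Fin 240)} (hv : v ∈ Wf) : sig (v * g * v⁻¹) = sig g := by
  rw [sig_eq, sig_eq]
  refine Prod.ext ?_ ?_
  · dsimp only [Prod.swap_prod_mk]
    refine Finset.card_bij (fun i _ => v⁻¹ i) (fun i hi => ?_) (fun _ _ _ _ e => v⁻¹.injective e)
      fun j hj => ⟨v j, ?_, by simp⟩
    · rw [Finset.mem_filter] at hi ⊢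
      simp only [Finset.mem_univ, true_and, Perm.mul_apply] at hi ⊢
      conv_rhs => rw [← hi]
      simp
    · rw [Finset.mem_filter] at hj ⊢
      simp only [Finset.mem_univ, true_and, Perm.mul_apply] at hj ⊢
      simp [hj]
  · have hz : ∀ i, v (zeta i) = zeta (v i) := fun i => by
      rw [← Perm.mul_apply, ← zeta_comm hv, Perm.mul_apply]
    dsimp only [Prod.swap_prod_mk]
    refine Finset.card_bij (fun i _ => v⁻¹ i) (fun i hi => ?_) (fun _ _ _ _ e => v⁻¹.injective e)
      fun j hj => ⟨v j, ?_, by simp⟩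
    · rw [Finset.mem_filter] at hi ⊢
      simp only [Finset.mem_univ, true_and, Perm.mul_apply] at hi ⊢
      refine v.injective ?_
      rw [hz, hi]
      simp
    · rw [Finset.mem_filter] at hj ⊢
      simp only [Finset.mem_univ, true_and, Perm.mul_apply] at hj ⊢
      simp [hj, hz]

theorem sig_zeta_mul (g : Perm (Fin 240)) : sig (zeta * g) = (sig g).swap := by
  have hz : ∀ i j : Fin 240, zeta i = j ↔ i = zeta j := fun i j => by
    constructor <;> intro e
    · rw [← e, ← Perm.mul_apply, zeta_sq]; rfl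
    · rw [e, ← Perm.mul_apply, zeta_sq]; rfl
  rw [sig_eq, sig_eq]
  refine Prod.ext ?_ ?_ <;> dsimp only [Prod.swap_prod_mk] <;> refine congrArg Finset.card ?_
  · ext i; simp [hz]
  · ext i; simp

theorem sig_wP (l : List ℕ) : sig (wP l) = sF (wF l) := by
  have : ∀ i ∈ List.range 240, ev (wP l) i = wF l i := fun i hi => ev_wP l (List.mem_range.mp hi)
  unfold sig sF
  refine Prod.ext ?_ ?_ <;> dsimp only <;> refine List.countP_congr fun i hi => ?_ <;> simp only [this i hi]

/-! ### The size of the group -/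

/-- The number of places for the next root of a base when the earlier ones stay. -/
def places (pre : List ℕ) (b : ℕ) : ℕ := (List.range 240).countP fun j => Nat.testBit (key pre pre b) j

/-- The pointwise stabiliser. -/
def fixer (pre : List ℕ) : Subgroup (Perm (Fin 240)) where
  carrier := {g | g ∈ Wf ∧ ∀ b ∈ pre, ev g b = b}
  one_mem' := ⟨one_mem _, fun b _ => ev_one b⟩
  mul_mem' := fun {g h} hg hh => ⟨mul_mem hg.1 hh.1, fun b hb => by rw [ev_mul, hh.2 b hb, hg.2 b hb]⟩
  inv_mem' := fun {g} hg => ⟨inv_mem hg.1, fun b hb => by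
    conv_lhs => rw [← hg.2 b hb]
    rw [← ev_mul, inv_mul_cancel, ev_one]⟩

theorem card_fixer_le {pre : List ℕ} {b : ℕ} (hp : ∀ a ∈ pre, a < 240) (hb : b < 240) :
    Nat.card (fixer pre) ≤ places pre b * Nat.card (fixer (pre ++ [b])) := by
  classical
  let H := fixer pre
  let x : Fin 240 := ⟨b, hb⟩
  have hst : Nat.card (MulAction.stabilizer H x) ≤ Nat.card (fixer (pre ++ [b])) := by
    refine Nat.card_le_card_of_injective (fun g => ⟨(g : H), (g : H).2.1, fun a ha => ?_⟩) fun g h e =>
      Subtype.ext (Subtype.ext (congrArg (fun u : fixer (pre ++ [b]) => (u : Perm (Fin 240))) e))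
    rcases List.mem_append.mp ha with ha | ha
    · exact (g : H).2.2 a ha
    · rw [List.mem_singleton] at ha
      subst ha
      have := congrArg Fin.val (show ((g : H) : Perm (Fin 240)) x = x from g.2)
      simpa [ev, hb] using this
  have horb : Nat.card (MulAction.orbit H x) ≤ places pre b := by
    have hsub : MulAction.orbit H x ⊆ ((Finset.univ.filter fun j : Fin 240 =>
        Nat.testBit (key pre pre b) j = true : Finset (Fin 240)) : Set (Fin 240)) := by
      rintro _ ⟨g, rfl⟩
      simp only [Finset.coe_filter, Finset.mem_univ, true_and, Set.mem_setOf_eq]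
      rw [key_bit pre pre hp hp x]
      refine ⟨Fin.isLt _, fun p hp' => ?_⟩
      rw [List.zip_eq_zipWith, List.zipWith_self, List.mem_map] at hp'
      obtain ⟨a, ha, rfl⟩ := hp'
      have h1 := qn_ev g.2.1 (hp a ha) hb
      rw [g.2.2 a ha] at h1
      simp only
      rw [← h1, ev, dif_pos hb]
      rfl
    rw [Nat.card_coe_set_eq, places, countP_fin (q := fun j : Fin 240 => Nat.testBit (key pre pre b) j = true)
      fun _ => Iff.rfl]
    exact (Set.ncard_le_ncard hsub (Set.toFinite _)).trans (Set.ncard_coe_finset _).le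
  calc Nat.card H = Nat.card (MulAction.orbit H x) * Nat.card (MulAction.stabilizer H x) := by
        rw [← Nat.card_prod]
        exact Nat.card_congr (MulAction.orbitProdStabilizerEquivGroup H x).symm
    _ ≤ _ := Nat.mul_le_mul horb hst

/-- The product of the numbers of places along a base. -/
def placesProd : List ℕ → List ℕ → ℕ
  | _, [] => 1
  | pre, b :: bs => places pre b * placesProd (pre ++ [b]) bs

theorem card_fixer_prod : ∀ (bs pre : List ℕ), (∀ a ∈ pre, a < 240) → (∀ a ∈ bs, a < 240) →
    Nat.card (fixer pre) ≤ placesProd pre bs * Nat.card (fixer (pre ++ bs)) := by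
  intro bs
  induction bs with
  | nil => intro pre _ _; simp [placesProd]
  | cons b bs ih =>
    intro pre hp hb
    have hb0 : b < 240 := hb b (by simp)
    refine (card_fixer_le hp hb0).trans ?_
    rw [placesProd, mul_assoc]
    refine Nat.mul_le_mul_left _ ((ih (pre ++ [b]) ?_ fun a ha => hb a (by simp [ha])).trans_eq (by simp))
    intro a ha
    rcases List.mem_append.mp ha with ha | ha
    exacts [hp a ha, by rw [List.mem_singleton] at ha; omega]

theorem places_ok : sepOK Data.B0 = true ∧ placesProd [] Data.B0 = 696729600 := by decide +kernel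

theorem card_Wf_le : Nat.card Wf ≤ 696729600 := by
  have h := card_fixer_prod Data.B0 [] (by simp) (sep_lt places_ok.1)
  rw [places_ok.2, List.nil_append] at h
  have h1 : Nat.card (fixer Data.B0) = 1 := Subgroup.card_eq_one.mpr (eq_bot_iff.mpr fun g hg =>
    ext_base places_ok.1 hg.1 (one_mem _) fun b hb => by rw [hg.2 b hb, ev_one])
  rw [h1, mul_one] at h
  refine le_trans (le_of_eq ?_) h
  congr 1
  refine congrArg (fun H : Subgroup (Perm (Fin 240)) => (H : Type _)) ?_
  ext g
  exact ⟨fun hg => ⟨hg, by simp⟩, fun hg => hg.1⟩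

end CfsgLib.O8Two
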