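/-
The two halves of the cover act on the root system of type E8 as the even symmetries.
-/
import Cfsg.Agent.Lib.StdO8Two.Universal
import Cfsg.Agent.Lib.StdO8Two.Words

set_option autoImplicit false
set_option maxRecDepth 30000
set_option linter.unusedSectionVars false

namespace CfsgLib.O8Two

open Equiv Subgroup CfsgPC CfsgLib.StemSylow CfsgLib.StemSylow.OEightData

attribute [local irreducible] smallChain coverChain smallGens coverGens zCodes blk blkRep

/-- The first point of a half. -/
def side (b : Bool) : ℕ := bif b then 240 else 0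

/-- Words of reflections for the two generators on the two halves. -/
def genW (b : Bool) : List ℕ :=
  bif b then [516681156815093085123073, 120299705360212] else [1011738994543311361, 1039017804256391700]

theorem gens_halves : ([false, true].all fun b => (List.range 2).all fun a => (List.range 240).all fun i =>
    Nat.beq (ap (coverGens.getD a (0, 0)).1 (side b + i)) (side b + wF (wd ((genW b).getD a 0)) i) &&
      Nat.blt (wF (wd ((genW b).getD a 0)) i) 240) = true := by decide +kernel

theorem z_halves : ((List.range 240).all fun i =>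
    Nat.beq (ap (zCodes.getD 0 (0, 0)).1 i) (239 - i) && Nat.beq (ap (zCodes.getD 0 (0, 0)).1 (240 + i)) (240 + i) &&
      Nat.beq (ap (zCodes.getD 1 (0, 0)).1 i) i && Nat.beq (ap (zCodes.getD 1 (0, 0)).1 (240 + i)) (240 + (239 - i))) =
    true := by decide +kernel

theorem codes_mem : memOK 480 coverChain Data.halfCodes = true ∧ Data.halfCodes.length = 4 := by decide +kernel

theorem codes_squares : ((List.range 480).all fun i =>
    Nat.beq (ap (Data.halfCodes.getD 0 (0, 0)).1 (ap (Data.halfCodes.getD 0 (0, 0)).1 i))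
        (ap (zCodes.getD 0 (0, 0)).1 i) &&
      Nat.beq (ap (Data.halfCodes.getD 2 (0, 0)).1 (ap (Data.halfCodes.getD 2 (0, 0)).1 i))
        (ap (zCodes.getD 1 (0, 0)).1 i) &&
      ([1, 3].all fun k => Nat.beq (ap (Data.halfCodes.getD k (0, 0)).1 (ap (Data.halfCodes.getD k (0, 0)).1 i))
        (ap (zCodes.getD 0 (0, 0)).1 (ap (zCodes.getD 1 (0, 0)).1 i)))) = true := by decide +kernel

theorem codes_twist : ([false, true].all fun b => (List.range 240).all fun i =>
    Nat.beq (ap (Data.halfCodes.getD (bif b then 3 else 1) (0, 0)).1 (side b + i))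
      (side b + rn 0 (ap (Data.halfCodes.getD (bif b then 2 else 0) (0, 0)).1 (side b + rn 0 i) - side b))) = true := by
  decide +kernel

theorem mem_closure_gens {P : Perm (Fin 480) → Prop} (h1 : P 1) (hm : ∀ g h, P g → P h → P (g * h))
    (hi : ∀ g, P g → P g⁻¹) (hg : ∀ a < 2, ∀ g : Perm (Fin 480), Rep 480 (coverGens.getD a (0, 0)).1 g → P g)
    (g : ↥Ug) : P (g : Perm (Fin 480)) := by
  obtain ⟨g, hmem⟩ := g
  induction hmem using closure_induction with
  | mem x hx =>
    obtain ⟨c, hc, hx⟩ := hx
    obtain ⟨a, ha, rfl⟩ := List.getElem_of_mem hc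
    rw [List.length_map] at ha
    rw [List.getElem_map, ← List.getD_eq_getElem (d := (0, 0)) _ ha] at hx
    exact hg a (perm_ok.2.2.2 ▸ ha) x hx
  | one => exact h1
  | mul _ _ _ _ ha hb => exact hm _ _ ha hb
  | inv _ _ ha => exact hi _ ha

/-- The halves are kept. -/
def Keeps (g : Perm (Fin 480)) : Prop := ∀ i : Fin 480, ((g i : ℕ) < 240 ↔ (i : ℕ) < 240)

theorem keeps (g : ↥Ug) : Keeps (g : Perm (Fin 480)) := by
  refine mem_closure_gens (fun i => Iff.rfl) (fun g h hg hh i => (hg (h i)).trans (hh i))
    (fun g hg i => by have := hg (g⁻¹ i); rw [Perm.coe_inv, apply_symm_apply] at this; exact this.symm) ?_ g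
  intro a ha g hg i
  have hall := gens_halves
  simp only [List.all_eq_true, Bool.and_eq_true, Nat.blt_eq, List.mem_range] at hall
  rw [← hg i]
  by_cases hi : (i : ℕ) < 240
  · obtain ⟨h, hlt⟩ := hall false (by simp) a ha i hi
    have e := Nat.eq_of_beq_eq_true h
    simp only [side, cond_false, zero_add] at e
    rw [e]
    exact iff_of_true hlt hi
  · obtain ⟨h, -⟩ := hall true (by simp) a ha ((i : ℕ) - 240) (by omega)
    have e := Nat.eq_of_beq_eq_true h
    simp only [side, cond_true] at e
    rw [show 240 + ((i : ℕ) - 240) = i by omega] at e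
    rw [e]
    exact iff_of_false (by omega) hi

/-- A point of a half. -/
def pt (b : Bool) (i : Fin 240) : Fin 480 := ⟨side b + i, by cases b <;> simp [side] <;> omega⟩

theorem pt_img (b : Bool) (g : ↥Ug) (i : Fin 240) :
    side b ≤ ((g : Perm (Fin 480)) (pt b i) : ℕ) ∧ ((g : Perm (Fin 480)) (pt b i) : ℕ) < side b + 240 := by
  have h := keeps g (pt b i)
  have := ((g : Perm (Fin 480)) (pt b i)).2
  cases b <;> simp only [pt, side, cond_false, cond_true] at h ⊢
  · simp only [zero_add] at h ⊢; exact ⟨Nat.zero_le _, h.mpr i.2⟩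
  · refine ⟨?_, this⟩
    by_contra hlt
    have := h.mp (by omega)
    omega

/-- The image of a point of a half, as a root. -/
def hfun (b : Bool) (g : ↥Ug) (i : Fin 240) : Fin 240 :=
  ⟨((g : Perm (Fin 480)) (pt b i) : ℕ) - side b, by have := pt_img b g i; omega⟩

theorem pt_hfun (b : Bool) (g : ↥Ug) (i : Fin 240) : pt b (hfun b g i) = (g : Perm (Fin 480)) (pt b i) := by
  refine Fin.ext ?_
  have := pt_img b g i
  simp only [pt, hfun] at this ⊢
  omega

theorem pt_inj (b : Bool) {i j : Fin 240} (h : pt b i = pt b j) : i = j :=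
  Fin.ext (by have := congrArg Fin.val h; simp only [pt] at this; omega)

theorem hfun_mul (b : Bool) (g h : ↥Ug) (i : Fin 240) : hfun b (g * h) i = hfun b g (hfun b h i) :=
  pt_inj b (by rw [pt_hfun, pt_hfun, pt_hfun]; rfl)

theorem hfun_one (b : Bool) (i : Fin 240) : hfun b 1 i = i := pt_inj b (by rw [pt_hfun]; rfl)

/-- The action of the cover on a half. -/
noncomputable def half (b : Bool) : ↥Ug →* Perm (Fin 240) where
  toFun g := ⟨hfun b g, hfun b g⁻¹, fun i => by rw [← hfun_mul, inv_mul_cancel, hfun_one],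
    fun i => by rw [← hfun_mul, mul_inv_cancel, hfun_one]⟩
  map_one' := Equiv.ext (hfun_one b)
  map_mul' g h := Equiv.ext (hfun_mul b g h)

theorem pt_half (b : Bool) (g : ↥Ug) (i : Fin 240) : pt b (half b g i) = (g : Perm (Fin 480)) (pt b i) :=
  pt_hfun b g i

theorem eq_one_of_halves {g : ↥Ug} (h0 : half false g = 1) (h1 : half true g = 1) : g = 1 := by
  refine Subtype.ext (Equiv.ext fun i => ?_)
  by_cases hi : (i : ℕ) < 240
  · have := pt_half false g ⟨i, hi⟩
    rw [h0] at this
    have e : pt false ⟨i, hi⟩ = i := Fin.ext (by simp [pt, side])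
    rw [Perm.one_apply, e] at this
    exact this.symm
  · have := pt_half true g ⟨(i : ℕ) - 240, by omega⟩
    rw [h1] at this
    have e : pt true ⟨(i : ℕ) - 240, by omega⟩ = i := Fin.ext (by simp [pt, side]; omega)
    rw [Perm.one_apply, e] at this
    exact this.symm

theorem half_mem_Wf (b : Bool) (g : ↥Ug) : half b g ∈ Wf := by
  suffices h : ∀ g : ↥Ug, (g : Perm (Fin 480)) ∈ (Wf.comap (half b)).map Ug.subtype by
    obtain ⟨g', hg', e⟩ := h g
    obtain rfl : g' = g := Subtype.ext e
    exact hg'
  intro g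
  refine mem_closure_gens (one_mem _) (fun _ _ => mul_mem) (fun _ => inv_mem) ?_ g
  intro a ha x hx
  have ha3 : a < coverGens.length := by rw [perm_ok.2.2.2]; exact ha
  have hx' : x ∈ Ug := by
    rw [List.getD_eq_getElem _ _ ha3] at hx
    exact Valid.mem (List.mem_map.mpr ⟨_, List.getElem_mem ha3, rfl⟩) hx
  refine ⟨⟨x, hx'⟩, ?_, rfl⟩
  show half b ⟨x, hx'⟩ ∈ Wf
  have e : half b ⟨x, hx'⟩ = wP (wd ((genW b).getD a 0)) := by
    refine Equiv.ext fun i => Fin.ext ?_
    have h := List.all_eq_true.mp gens_halves b (by cases b <;> simp)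
    simp only [List.all_eq_true, Bool.and_eq_true, List.mem_range] at h
    have e1 := Nat.eq_of_beq_eq_true (h a ha i i.2).1
    have e2 := congrArg Fin.val (pt_half b ⟨x, hx'⟩ i)
    simp only [pt] at e2
    rw [← ev_val (wP _), ev_wP _ i.2]
    have e3 := hx ⟨side b + i, by cases b <;> simp [side] <;> omega⟩
    simp only at e3
    omega
  rw [e]
  exact wP_mem _

theorem half_mem (b : Bool) (g : ↥Ug) : half b g ∈ W0 := by
  refine mem_W0.mpr ⟨half_mem_Wf b g, ?_⟩
  have hg : g ∈ commutator ↥Ug := perfect_Ug ▸ mem_top g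
  have h := Abelianization.commutator_subset_ker (Perm.sign.comp (half b)) hg
  exact h

/-- The action of the cover on a half, into the even symmetries. -/
noncomputable def halfW (b : Bool) : ↥Ug →* ↥W0 := (half b).codRestrict W0 (half_mem b)

theorem halfW_val (b : Bool) (g : ↥Ug) : (halfW b g : Perm (Fin 240)) = half b g := rfl

/-- A checked element of the cover. -/
theorem exists_code {c : ℕ × ℕ} (h : memOK 480 coverChain [c] = true) :
    ∃ g : ↥Ug, Rep 480 c.1 (g : Perm (Fin 480)) := by
  simp only [memOK, List.all_cons, List.all_nil, Bool.and_eq_true, and_true] at h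
  exact ⟨⟨_, mem_of_sift (by norm_num) cover_table.1 OEight.valid_cover _ _ (decP_rep h.1) h.2⟩, decP_rep h.1⟩

theorem half_of_rep (b : Bool) {g : ↥Ug} {c : ℕ} (hg : Rep 480 c (g : Perm (Fin 480))) (i : Fin 240) :
    ap c (side b + i) = side b + (half b g i : ℕ) := by
  have h := hg (pt b i)
  rw [← pt_half b g i] at h
  exact h

/-- The central elements: one is trivial on the second half, the other on the first. -/
theorem exists_central : ∃ z1 z2 : ↥Ug, Rep 480 (zCodes.getD 0 (0, 0)).1 (z1 : Perm (Fin 480)) ∧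
    Rep 480 (zCodes.getD 1 (0, 0)).1 (z2 : Perm (Fin 480)) ∧
    half false z1 = zeta ∧ half true z1 = 1 ∧ half false z2 = 1 ∧ half true z2 = zeta ∧
    z1 ∈ pr.ker ∧ z2 ∈ pr.ker := by
  obtain ⟨z1, z2, r1, r2⟩ := OEight.z_elems
  have h := z_halves
  simp only [List.all_eq_true, Bool.and_eq_true, List.mem_range] at h
  have hA1 : half false z1 = zeta := Equiv.ext fun i => Fin.ext (by
    have e := half_of_rep false r1 i
    simp only [side, cond_false, zero_add] at e
    rw [Nat.eq_of_beq_eq_true (h i i.2).1.1.1] at e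
    rw [zeta_val, e])
  have hA2 : half false z2 = 1 := Equiv.ext fun i => Fin.ext (by
    have e := half_of_rep false r2 i
    simp only [side, cond_false, zero_add] at e
    rw [Nat.eq_of_beq_eq_true (h i i.2).1.2] at e
    rw [Perm.one_apply, ← e])
  have hB1 : half true z1 = 1 := Equiv.ext fun i => Fin.ext (by
    have e := half_of_rep true r1 i
    simp only [side, cond_true] at e
    rw [Nat.eq_of_beq_eq_true (h i i.2).1.1.2] at e
    rw [Perm.one_apply]
    omega)
  have hB2 : half true z2 = zeta := Equiv.ext fun i => Fin.ext (by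
    have e := half_of_rep true r2 i
    simp only [side, cond_true] at e
    rw [Nat.eq_of_beq_eq_true (h i i.2).2] at e
    rw [zeta_val]
    omega)
  have hblk := (z_ok).2.2.1
  have hb : ∀ i : Fin 480, (i : ℕ) < 240 → blk.getD ((z1 : Perm (Fin 480)) i) 0 = blk.getD i 0 ∧
      ((z2 : Perm (Fin 480)) i : ℕ) = i := fun i hi => by
    have := List.all_eq_true.mp hblk i (List.mem_range.mpr hi)
    rw [Bool.and_eq_true, r1 i, r2 i] at this
    exact ⟨Nat.eq_of_beq_eq_true this.1, Nat.eq_of_beq_eq_true this.2⟩
  refine ⟨z1, z2, r1, r2, hA1, hB1, hA2, hB2, ?_, ?_⟩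
  · exact MonoidHom.mem_ker.mpr (Subtype.ext (OEight.over_unique (OEight.exists_restrict z1).choose_spec
      fun i hi => ⟨((OEight.exists_restrict z1).choose_spec i hi).1, fun _ => (hb i hi).1⟩))
  · exact MonoidHom.mem_ker.mpr (Subtype.ext (OEight.over_unique (OEight.exists_restrict z2).choose_spec
      fun i hi => ⟨((OEight.exists_restrict z2).choose_spec i hi).1, fun _ => by rw [(hb i hi).2]; rfl⟩))

/-- The element of the cover trivial on the other half. -/
noncomputable def zc (b : Bool) : ↥Ug :=
  bif b then exists_central.choose_spec.choose else exists_central.choose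

theorem zc_spec : Rep 480 (zCodes.getD 0 (0, 0)).1 (zc false : Perm (Fin 480)) ∧
    Rep 480 (zCodes.getD 1 (0, 0)).1 (zc true : Perm (Fin 480)) ∧
    half false (zc false) = zeta ∧ half true (zc false) = 1 ∧ half false (zc true) = 1 ∧ half true (zc true) = zeta ∧
    zc false ∈ pr.ker ∧ zc true ∈ pr.ker := exists_central.choose_spec.choose_spec

theorem zc_own (b : Bool) : half b (zc b) = zeta := by cases b; exacts [zc_spec.2.2.1, zc_spec.2.2.2.2.2.1]

theorem zc_other (b : Bool) : half (!b) (zc b) = 1 := by cases b; exacts [zc_spec.2.2.2.1, zc_spec.2.2.2.2.1]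

theorem zc_ker (b : Bool) : zc b ∈ pr.ker := by cases b; exacts [zc_spec.2.2.2.2.2.2.1, zc_spec.2.2.2.2.2.2.2]

theorem halves_zero {u v : ↥Ug} (b : Bool) (h : half b u = half b v) (h' : half (!b) u = half (!b) v) : u = v := by
  refine mul_inv_eq_one.mp (eq_one_of_halves ?_ ?_) <;> rw [map_mul, map_inv] <;> cases b
  exacts [mul_inv_eq_one.mpr h, mul_inv_eq_one.mpr h', mul_inv_eq_one.mpr h', mul_inv_eq_one.mpr h]

theorem ker_pr {u : ↥Ug} (h : u ∈ pr.ker) :
    (half false u = 1 ∨ half false u = zeta) ∧ (half true u = 1 ∨ half true u = zeta) ∧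
      (u = 1 ∨ u = zc false ∨ u = zc true ∨ u = zc false * zc true) := by
  classical
  have hset : (pr.ker : Set ↥Ug) = {1, zc false, zc true, zc false * zc true} := by
    have ne : ∀ {x y : ↥Ug} (b : Bool), half b x ≠ half b y → x ≠ y := fun b h e => h (congrArg (half b) e)
    refine (Set.eq_of_subset_of_ncard_le ?_ ?_ (Set.toFinite _)).symm
    · rintro x (rfl | rfl | rfl | rfl)
      exacts [one_mem _, zc_ker false, zc_ker true, mul_mem (zc_ker false) (zc_ker true)]
    · obtain ⟨-, -, a1, b1, a2, b2, -, -⟩ := zc_spec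
      have hz := zeta_ne
      rw [← Nat.card_coe_set_eq]
      rw [Set.ncard_insert_of_notMem (by
          simp only [Set.mem_insert_iff, Set.mem_singleton_iff, not_or]
          exact ⟨ne false (by rw [map_one, a1]; exact hz.symm), ne true (by rw [map_one, b2]; exact hz.symm),
            ne false (by rw [map_one, map_mul, a1, a2, mul_one]; exact hz.symm)⟩),
        Set.ncard_insert_of_notMem (by
          simp only [Set.mem_insert_iff, Set.mem_singleton_iff, not_or]
          exact ⟨ne false (by rw [a1, a2]; exact hz), ne true (by rw [map_mul, b1, b2, one_mul]; exact hz.symm)⟩),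
        Set.ncard_pair (ne false (by rw [map_mul, a1, a2, mul_one]; exact hz.symm))]
      exact le_of_eq OEight.cover_stem.2
  have hu : u ∈ ({1, zc false, zc true, zc false * zc true} : Set ↥Ug) := hset ▸ h
  obtain ⟨-, -, a1, b1, a2, b2, -, -⟩ := zc_spec
  rcases hu with rfl | rfl | rfl | rfl <;> simp [a1, b1, a2, b2]

theorem ker_half (b : Bool) {u : ↥Ug} (h : half b u = 1) : u ∈ pr.ker := by
  cases b
  · refine MonoidHom.mem_ker.mpr (Subtype.ext (OEight.over_unique (OEight.exists_restrict u).choose_spec
      fun i hi => ⟨((OEight.exists_restrict u).choose_spec i hi).1, fun _ => ?_⟩))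
    have e := pt_half false u ⟨i, hi⟩
    rw [h, Perm.one_apply, show pt false ⟨i, hi⟩ = i from Fin.ext (by simp [pt, side])] at e
    rw [← e]
    rfl
  · haveI := simple_Sg
    haveI : ((half true).ker.map pr).Normal := Subgroup.Normal.map inferInstance _ OEight.cover_stem.1.1
    rcases Subgroup.Normal.eq_bot_or_eq_top (H := (half true).ker.map pr) inferInstance with e | e
    · exact MonoidHom.mem_ker.mpr (mem_bot.mp (e ▸ mem_map_of_mem pr (MonoidHom.mem_ker.mpr h)))
    · exfalso
      have htop : (half true).ker ⊔ pr.ker = ⊤ := by rw [← comap_map_eq, e, comap_top]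
      have hle : commutator ↥Ug ≤ (half true).ker := by
        rw [_root_.commutator_def, ← htop, commutator_le]
        intro a ha c hc
        obtain ⟨a1, ha1, a2, ha2, rfl⟩ := mem_sup_of_normal_right.mp ha
        obtain ⟨c1, hc1, c2, hc2, rfl⟩ := mem_sup_of_normal_right.mp hc
        refine MonoidHom.mem_ker.mpr ?_
        rw [map_commutatorElement, map_mul, map_mul, MonoidHom.mem_ker.mp ha1, MonoidHom.mem_ker.mp hc1, one_mul,
          one_mul, commutatorElement_eq_one_iff_mul_comm]
        rcases (ker_pr ha2).2.1 with e1 | e1 <;> rcases (ker_pr hc2).2.1 with e2 | e2 <;> simp [e1, e2]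
      rw [perfect_Ug] at hle
      have := MonoidHom.mem_ker.mp (hle (mem_top (zc true)))
      rw [zc_own] at this
      exact zeta_ne this

theorem ker_halfW (b : Bool) {u : ↥Ug} (h : halfW b u = 1) : u = 1 ∨ u = zc (!b) := by
  have h' : half b u = 1 := congrArg Subtype.val h
  obtain ⟨-, -, hall⟩ := ker_pr (ker_half b h')
  obtain ⟨-, -, a1, b1, a2, b2, -, -⟩ := zc_spec
  have hz := zeta_ne
  rcases hall with rfl | rfl | rfl | rfl
  · exact Or.inl rfl
  all_goals cases b <;> simp_all

theorem card_Ug : Nat.card ↥Ug = 696729600 := OEight.cover_group.2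

theorem half_card (b : Bool) : 348364800 ≤ Nat.card ↥(halfW b).range := by
  have h := (halfW b).ker.card_mul_index
  rw [index_ker, card_Ug] at h
  have hk : Nat.card ↥(halfW b).ker ≤ 2 := by
    refine le_trans (Set.ncard_le_ncard (t := ({1, zc (!b)} : Set ↥Ug)) ?_ (Set.toFinite _) |>.trans'
      (le_of_eq (Nat.card_coe_set_eq _))) ((Set.ncard_insert_le _ _).trans (by simp))
    intro u hu
    exact ker_halfW b hu
  by_contra hlt
  have := Nat.mul_le_mul hk (Nat.le_of_lt_succ (Nat.lt_succ_of_lt (not_le.mp hlt)))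
  have h2 : Nat.card ↥(halfW b).range < 348364800 := not_le.mp hlt
  have h3 := Nat.mul_le_mul_right (Nat.card ↥(halfW b).range) hk
  omega

theorem two_W0_le : 2 * Nat.card ↥W0 ≤ Nat.card ↥Wf := by
  let f : Bool × ↥W0 → ↥Wf := fun p => ⟨(bif p.1 then rP 0 else 1) * p.2.1, by
    refine mul_mem ?_ (mem_W0.mp p.2.2).1
    cases p.1; exacts [one_mem _, rP_mem 0]⟩
  have hf : Function.Injective f := by
    rintro ⟨s, g⟩ ⟨t, h⟩ e
    have e' : (bif s then rP 0 else 1) * g.1 = (bif t then rP 0 else 1) * h.1 := congrArg Subtype.val e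
    have hs := congrArg Perm.sign e'
    rw [map_mul, map_mul, (mem_W0.mp g.2).2, (mem_W0.mp h.2).2] at hs
    obtain rfl : s = t := by cases s <;> cases t <;> simp [sign_rP] at hs ⊢
    exact Prod.ext rfl (Subtype.ext (mul_left_cancel e'))
  have := Nat.card_le_card_of_injective f hf
  simpa [Nat.card_prod] using this

theorem card_W0 : Nat.card ↥W0 = 348364800 := by
  have := half_card false
  have := Subgroup.card_le_card_group (halfW false).range
  have := two_W0_le
  have := card_Wf_le
  omega

theorem card_Wf : Nat.card ↥Wf = 696729600 := by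
  have := two_W0_le
  have := card_Wf_le
  have := card_W0
  omega

theorem halfW_surjective (b : Bool) : Function.Surjective (halfW b) := by
  rw [← MonoidHom.range_eq_top]
  refine eq_top_of_le_card _ ?_
  rw [card_W0]
  exact half_card b

theorem perfect_W0 : commutator ↥W0 = ⊤ := by
  rw [_root_.commutator_def, ← map_top_of_surjective _ (halfW_surjective false), ← map_commutator, ← _root_.commutator_def,
    perfect_Ug]

end CfsgLib.O8Two
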