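/-
The double cover is unique, and its automorphisms are conjugations by symmetries of the root system.
-/
import Cfsg.Agent.Lib.StdO8Two.Halves
import Cfsg.Agent.Lib.OrthAut.PlusFour

set_option autoImplicit false
set_option maxRecDepth 30000
set_option linter.unusedSectionVars false
set_option linter.style.haveILetI false

namespace CfsgLib.O8Two

open Equiv Subgroup CfsgPC CfsgLib.StemSylow CfsgLib.StemSylow.OEightData

universe u

attribute [local irreducible] smallChain coverChain smallGens coverGens zCodes blk blkRep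

theorem ker_halfW_le (b : Bool) : (halfW b).ker ≤ pr.ker := fun _ hu =>
  ker_half b (congrArg Subtype.val (MonoidHom.mem_ker.mp hu))

/-- The even symmetries over the simple group, through a half. -/
noncomputable def qh (b : Bool) : ↥W0 →* ↥Sg :=
  (halfW b).liftOfSurjective (halfW_surjective b) ⟨pr, ker_halfW_le b⟩

theorem qh_half (b : Bool) (u : ↥Ug) : qh b (halfW b u) = pr u :=
  MonoidHom.liftOfRightInverse_comp_apply _ _ _ _ u

theorem qh_surj (b : Bool) : Function.Surjective (qh b) := fun y => by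
  obtain ⟨u, rfl⟩ := OEight.cover_stem.1.1 y
  exact ⟨halfW b u, qh_half b u⟩

/-- The central symmetry, as an even one. -/
noncomputable def zW : ↥W0 := ⟨zeta, zeta_mem_W0⟩

theorem center_W0 {g : ↥W0} : g ∈ Subgroup.center ↥W0 ↔ g = 1 ∨ g = zW := by
  constructor
  · intro hg
    rcases eq_pm_of_commute (mem_W0.mp g.2).1 fun h hh =>
      (congrArg Subtype.val (mem_center_iff.mp hg ⟨h, hh⟩)).symm with e | e
    exacts [Or.inl (Subtype.ext e), Or.inr (Subtype.ext e)]
  · rintro (rfl | rfl)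
    · exact one_mem _
    · exact mem_center_iff.mpr fun h => Subtype.ext (zeta_comm (mem_W0.mp h.2).1).symm

theorem qh_ker (b : Bool) {g : ↥W0} : qh b g = 1 ↔ g = 1 ∨ g = zW := by
  constructor
  · intro h
    obtain ⟨u, rfl⟩ := halfW_surjective b g
    rw [qh_half] at h
    obtain ⟨h0, h1, -⟩ := ker_pr (MonoidHom.mem_ker.mpr h)
    cases b
    · exact h0.imp (fun e => Subtype.ext e) fun e => Subtype.ext e
    · exact h1.imp (fun e => Subtype.ext e) fun e => Subtype.ext e
  · rintro (rfl | rfl)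
    · exact map_one _
    · rw [show zW = halfW b (zc b) from Subtype.ext (zc_own b).symm, qh_half]
      exact MonoidHom.mem_ker.mp (zc_ker b)

theorem qh_ker_le (b : Bool) : (qh b).ker ≤ Subgroup.center ↥W0 := fun _ hg =>
  center_W0.mpr ((qh_ker b).mp hg)

theorem qh_stem (b : Bool) : Cfsg.IsStemExtension (qh b) :=
  ⟨qh_surj b, qh_ker_le b, fun g _ => perfect_W0 ▸ mem_top g⟩

theorem stem_comp (α : MulAut ↥Sg) : Cfsg.IsStemExtension (α.toMonoidHom.comp pr) := by
  obtain ⟨h1, h2, h3⟩ := OEight.cover_stem.1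
  have hk : (α.toMonoidHom.comp pr).ker = pr.ker :=
    MonoidHom.ker_comp_of_injective _ _ α.injective
  exact ⟨α.surjective.comp h1, hk ▸ h2, hk ▸ h3⟩

/-- The lift of an automorphism to the cover. -/
noncomputable def lift (α : MulAut ↥Sg) : ↥Ug →* ↥Ug :=
  (exists_lift (α⁻¹.toMonoidHom.comp pr) (stem_comp α⁻¹)).choose

theorem lift_spec (α : MulAut ↥Sg) :
    Function.Surjective (lift α) ∧ pr.comp (lift α) = α.toMonoidHom.comp pr := by
  obtain ⟨h1, h2⟩ := (exists_lift (α⁻¹.toMonoidHom.comp pr) (stem_comp α⁻¹)).choose_spec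
  refine ⟨h1, MonoidHom.ext fun u => ?_⟩
  have := DFunLike.congr_fun h2 u
  show pr (lift α u) = α (pr u)
  rw [← this]
  exact (α.apply_symm_apply _).symm

theorem lift_apply (α : MulAut ↥Sg) (u : ↥Ug) : pr (lift α u) = α (pr u) :=
  DFunLike.congr_fun (lift_spec α).2 u

theorem lift_unique {φ ψ : ↥Ug →* ↥Ug} (h : ∀ u, pr (φ u) = pr (ψ u)) : φ = ψ :=
  eq_of_comp_eq perfect_Ug OEight.cover_stem.1.2.1 (MonoidHom.ext h)

theorem lift_one : lift 1 = MonoidHom.id _ := lift_unique fun u => by rw [lift_apply]; rfl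

theorem lift_mul (α β : MulAut ↥Sg) : lift (α * β) = (lift α).comp (lift β) := lift_unique fun u => by
  show pr (lift (α * β) u) = pr (lift α (lift β u))
  rw [lift_apply, lift_apply, lift_apply]
  rfl

/-- The automorphisms of the simple group act on its cover. -/
noncomputable instance actUg : MulAction (MulAut ↥Sg) ↥Ug where
  smul α u := lift α u
  one_smul u := DFunLike.congr_fun lift_one u
  mul_smul α β u := DFunLike.congr_fun (lift_mul α β) u

theorem smul_def (α : MulAut ↥Sg) (u : ↥Ug) : α • u = lift α u := rfl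

theorem exists_aut (b : Bool) (β : MulAut ↥W0) : ∃ α : MulAut ↥Sg, ∀ w, qh b (β w) = α (qh b w) := by
  have hk : (qh b).ker ≤ ((qh b).comp β.toMonoidHom).ker := fun g hg => by
    refine MonoidHom.mem_ker.mpr ?_
    show qh b (β g) = 1
    rw [qh_ker, ← center_W0]
    refine mem_center_iff.mpr fun h => ?_
    obtain ⟨h, rfl⟩ := β.surjective h
    rw [← map_mul, ← map_mul, mem_center_iff.mp (qh_ker_le b hg) h]
  let α0 : ↥Sg →* ↥Sg := (qh b).liftOfSurjective (qh_surj b) ⟨(qh b).comp β.toMonoidHom, hk⟩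
  have h0 : ∀ w, α0 (qh b w) = qh b (β w) := fun w => MonoidHom.liftOfRightInverse_comp_apply _ _ _ _ w
  have hs : Function.Surjective α0 := fun y => by
    obtain ⟨w, rfl⟩ := qh_surj b y
    exact ⟨qh b (β⁻¹ w), by rw [h0]; exact congrArg (qh b) (β.apply_symm_apply w)⟩
  exact ⟨MulEquiv.ofBijective α0 ⟨(Finite.injective_iff_surjective).mpr hs, hs⟩, fun w => (h0 w).symm⟩

theorem half_lift {b : Bool} {β : MulAut ↥W0} {α : MulAut ↥Sg} (h : ∀ w, qh b (β w) = α (qh b w)) (u : ↥Ug) :
    halfW b (α • u) = β (halfW b u) := by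
  refine DFunLike.congr_fun (f := (halfW b).comp (lift α)) (g := β.toMonoidHom.comp (halfW b))
    (eq_of_comp_eq perfect_Ug (qh_ker_le b) (MonoidHom.ext fun v => ?_)) u
  show qh b (halfW b (lift α v)) = qh b (β (halfW b v))
  rw [qh_half, lift_apply, h, qh_half]

/-- Conjugation by a symmetry. -/
noncomputable def conjW (v : Perm (Fin 240)) (hv : v ∈ Wf) : MulAut ↥W0 where
  toFun g := ⟨v * g.1 * v⁻¹, mem_W0.mpr ⟨mul_mem (mul_mem hv (mem_W0.mp g.2).1) (inv_mem hv), by
    rw [map_mul, map_mul, (mem_W0.mp g.2).2, mul_one, ← map_mul, mul_inv_cancel, map_one]⟩⟩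
  invFun g := ⟨v⁻¹ * g.1 * v, mem_W0.mpr ⟨mul_mem (mul_mem (inv_mem hv) (mem_W0.mp g.2).1) hv, by
    rw [map_mul, map_mul, (mem_W0.mp g.2).2, mul_one, ← map_mul, inv_mul_cancel, map_one]⟩⟩
  left_inv g := Subtype.ext (by simp [mul_assoc])
  right_inv g := Subtype.ext (by simp [mul_assoc])
  map_mul' g h := Subtype.ext (by simp [mul_assoc])

/-- A reflection moves the central element of a half. -/
theorem exists_twist (b : Bool) : ∃ α : MulAut ↥Sg, α • zc b = zc false * zc true := by
  obtain ⟨α, hα⟩ := exists_aut b (conjW (rP 0) (rP_mem 0))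
  refine ⟨α, ?_⟩
  have hmem : ∀ k < 4, ∃ g : ↥Ug, Rep 480 (Data.halfCodes.getD k (0, 0)).1 (g : Perm (Fin 480)) := fun k hk => by
    have hk' : k < Data.halfCodes.length := by rw [codes_mem.2]; exact hk
    refine exists_code ?_
    have h := List.all_eq_true.mp codes_mem.1 _ (List.getElem_mem hk')
    rw [List.getD_eq_getElem _ _ hk']
    simpa [memOK] using h
  obtain ⟨p, hp⟩ := hmem (bif b then 2 else 0) (by cases b <;> simp)
  obtain ⟨p', hp'⟩ := hmem (bif b then 3 else 1) (by cases b <;> simp)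
  obtain ⟨r1, r2, -⟩ := zc_spec
  have hsq := codes_squares
  simp only [List.all_eq_true, Bool.and_eq_true, List.mem_range] at hsq
  have e1 : p * p = zc b := by
    refine Subtype.ext (Equiv.ext fun i => Fin.ext ?_)
    show (((p : Perm (Fin 480)) ((p : Perm (Fin 480)) i) : Fin 480) : ℕ) = _
    rw [← hp, ← hp i]
    cases b
    · rw [cond_false, Nat.eq_of_beq_eq_true (hsq i i.2).1.1]; exact r1 i
    · rw [cond_true, Nat.eq_of_beq_eq_true (hsq i i.2).1.2]; exact r2 i
  have e2 : p' * p' = zc false * zc true := by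
    refine Subtype.ext (Equiv.ext fun i => Fin.ext ?_)
    show (((p' : Perm (Fin 480)) ((p' : Perm (Fin 480)) i) : Fin 480) : ℕ) = _
    rw [← hp', ← hp' i]
    have e := Nat.eq_of_beq_eq_true ((hsq i i.2).2 (bif b then 3 else 1) (by cases b <;> simp))
    rw [e, Subgroup.coe_mul, Perm.mul_apply, r2 i, r1]
  have e3 : halfW b (α • p) = halfW b p' := by
    rw [half_lift hα]
    refine Subtype.ext (Equiv.ext fun i => Fin.ext ?_)
    show (((rP 0 * half b p * (rP 0)⁻¹) i : Fin 240) : ℕ) = (half b p' i : ℕ)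
    rw [rP_inv, Perm.mul_apply, Perm.mul_apply]
    have ht := List.all_eq_true.mp (List.all_eq_true.mp codes_twist b (by cases b <;> simp)) i
      (List.mem_range.mpr i.2)
    have e := Nat.eq_of_beq_eq_true ht
    rw [half_of_rep b hp' i, show rn 0 (i : ℕ) = ((rP 0 i : Fin 240) : ℕ) from rfl, half_of_rep b hp,
      Nat.add_sub_cancel_left, show rn 0 ((half b p (rP 0 i) : Fin 240) : ℕ) = ((rP 0 (half b p (rP 0 i)) : Fin 240) : ℕ)
        from rfl] at e
    omega
  obtain ⟨c, hc, hcp⟩ : ∃ c, (c = 1 ∨ c = zc (!b)) ∧ α • p = p' * c :=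
    ⟨p'⁻¹ * (α • p), ker_halfW b (by rw [map_mul, map_inv, e3, inv_mul_cancel]), by simp⟩
  have hcc : c ∈ Subgroup.center ↥Ug ∧ c * c = 1 := by
    rcases hc with rfl | rfl
    · exact ⟨one_mem _, one_mul 1⟩
    · refine ⟨OEight.cover_stem.1.2.1 (zc_ker _), halves_zero false ?_ ?_⟩ <;> rw [map_mul, map_one] <;>
        cases b <;> simp [zc_spec.2.2.1, zc_spec.2.2.2.1, zc_spec.2.2.2.2.1, zc_spec.2.2.2.2.2.1, zeta_sq]
  have hhom : α • (p * p) = (α • p) * (α • p) := map_mul (lift α) p p
  rw [← e1, hhom, hcp]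
  calc p' * c * (p' * c) = p' * (c * p') * c := by group
    _ = p' * (p' * c) * c := by rw [mem_center_iff.mp hcc.1 p']
    _ = p' * p' * (c * c) := by group
    _ = zc false * zc true := by rw [hcc.2, mul_one, e2]

theorem orbit_eq : MulAction.orbit (MulAut ↥Sg) (zc true) =
    ({zc false, zc true, zc false * zc true} : Set ↥Ug) := by
  obtain ⟨a, ha⟩ := exists_twist false
  obtain ⟨c, hc⟩ := exists_twist true
  refine Set.Subset.antisymm ?_ ?_
  · rintro _ ⟨α, rfl⟩
    have hne : zc true ≠ 1 := fun e => zeta_ne (by rw [← zc_own true, e, map_one])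
    have hk : α • zc true ∈ pr.ker := by
      rw [MonoidHom.mem_ker, smul_def, lift_apply, MonoidHom.mem_ker.mp (zc_ker true), map_one]
    have hne' : α • zc true ≠ 1 := fun e => hne (by
      rw [← inv_smul_smul α (zc true), e]
      exact map_one (lift α⁻¹))
    rcases (ker_pr hk).2.2 with e | e | e | e
    · exact absurd e hne'
    all_goals simp [e]
  · rintro x (rfl | rfl | rfl)
    · exact ⟨a⁻¹ * c, by show (a⁻¹ * c) • zc true = _; rw [mul_smul, hc, ← ha, inv_smul_smul]⟩
    · exact MulAction.mem_orbit_self _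
    · exact ⟨c, hc⟩

theorem card_stab : (MulAction.stabilizer (MulAut ↥Sg) (zc true)).index = 3 := by
  rw [MulAction.index_stabilizer, orbit_eq]
  have ne : ∀ {x y : ↥Ug} (b : Bool), half b x ≠ half b y → x ≠ y := fun b h e => h (congrArg (half b) e)
  obtain ⟨-, -, a1, b1, a2, b2, -, -⟩ := zc_spec
  refine Set.ncard_eq_three.mpr ⟨_, _, _, ne false ?_, ne true ?_, ne false ?_, rfl⟩
  · rw [a1, a2]; exact zeta_ne
  · rw [b1, map_mul, b1, b2, one_mul]; exact zeta_ne.symm
  · rw [a2, map_mul, a1, a2, mul_one]; exact zeta_ne.symm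

theorem card_out : Nat.card (Cfsg.Out ↥Sg) = 6 := by
  obtain ⟨e⟩ := OEight.equiv_small (F := ZMod 2) (ZMod.card 2)
  obtain ⟨e1⟩ := CfsgExtraOut.out_congr e.symm
  obtain ⟨e2⟩ := CfsgLib.OrthPlusFour.out_even (F := ZMod 2) (f := 1) (by simp)
  rw [Nat.card_congr (e1.trans e2).toEquiv, Nat.card_prod, Nat.card_perm, Nat.card_fin,
    Nat.card_congr Multiplicative.toAdd, Nat.card_zmod]
  rfl

/-- Automorphisms of the even symmetries come from symmetries. -/
theorem aut_W0 (β : MulAut ↥W0) : ∃ v ∈ Wf, ∀ g : ↥W0, (β g : Perm (Fin 240)) = v * g * v⁻¹ := by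
  classical
  set St := MulAction.stabilizer (MulAut ↥Sg) (zc true)
  set I := Cfsg.Inn ↥Sg
  have hstab : ∀ (β : MulAut ↥W0) (α : MulAut ↥Sg), (∀ w, qh false (β w) = α (qh false w)) → α ∈ St := by
    intro β α h
    refine MulAction.mem_stabilizer_iff.mpr ?_
    have h1 : halfW false (α • zc true) = 1 := by
      rw [half_lift h, show halfW false (zc true) = 1 from Subtype.ext (zc_other true), map_one]
    refine (ker_halfW false h1).resolve_left fun e => zeta_ne ?_
    have := congrArg (fun u => α⁻¹ • u) e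
    simp only [inv_smul_smul] at this
    rw [← zc_own true, this, show α⁻¹ • (1 : ↥Ug) = 1 from map_one (lift α⁻¹), map_one]
  have heq : ∀ (β γ : MulAut ↥W0) (α : MulAut ↥Sg), (∀ w, qh false (β w) = α (qh false w)) →
      (∀ w, qh false (γ w) = α (qh false w)) → β = γ := fun β γ α h1 h2 => by
    refine MulEquiv.ext fun g => ?_
    obtain ⟨u, rfl⟩ := halfW_surjective false g
    rw [← half_lift h1, ← half_lift h2]
  have hin : ∀ g : ↥W0, ∀ w, qh false (conjW g (mem_W0.mp g.2).1 w) = MulAut.conj (qh false g) (qh false w) := by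
    intro g w
    rw [MulAut.conj_apply, ← map_inv, ← map_mul, ← map_mul]
    rfl
  have hIS : I ≤ St := by
    rintro _ ⟨s, rfl⟩
    obtain ⟨g, rfl⟩ := qh_surj false s
    exact hstab _ _ (hin g)
  obtain ⟨r, hr⟩ := exists_aut false (conjW (rP 0) (rP_mem 0))
  have hrI : r ∉ I := by
    rintro ⟨s, rfl⟩
    obtain ⟨g, rfl⟩ := qh_surj false s
    have e := heq _ _ _ hr (hin g)
    have hc : ((g : Perm (Fin 240))⁻¹ * rP 0) = 1 ∨ ((g : Perm (Fin 240))⁻¹ * rP 0) = zeta := by
      refine eq_pm_of_commute (mul_mem (inv_mem (mem_W0.mp g.2).1) (rP_mem 0)) fun h hh => ?_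
      have h1 := congrArg Subtype.val (DFunLike.congr_fun e ⟨h, hh⟩)
      change rP 0 * h * (rP 0)⁻¹ = (g : Perm (Fin 240)) * h * (g : Perm (Fin 240))⁻¹ at h1
      calc (g : Perm (Fin 240))⁻¹ * rP 0 * h
          = (g : Perm (Fin 240))⁻¹ * (rP 0 * h * (rP 0)⁻¹) * rP 0 := by group
        _ = h * ((g : Perm (Fin 240))⁻¹ * rP 0) := by rw [h1]; group
    have hs : Perm.sign ((g : Perm (Fin 240))⁻¹ * rP 0) = -1 := by
      rw [map_mul, map_inv, (mem_W0.mp g.2).2, sign_rP]; simp
    rcases hc with e1 | e1 <;> rw [e1] at hs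
    · simp at hs
    · rw [sign_zeta] at hs; simp at hs
  have hrel : I.relIndex St = 2 := by
    have h := Subgroup.relIndex_mul_index hIS
    rw [card_stab, show I.index = 6 from card_out] at h
    omega
  obtain ⟨α, hα⟩ := exists_aut false β
  have hαS : α ∈ St := hstab β α hα
  have hrS : r ∈ St := hstab _ r hr
  have hcase : α ∈ I ∨ r⁻¹ * α ∈ I := by
    by_cases ha : α ∈ I
    · exact Or.inl ha
    · refine Or.inr ?_
      obtain ⟨a, ha'⟩ := Subgroup.index_eq_two_iff.mp (show (I.subgroupOf St).index = 2 from hrel)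
      have h1 := Subgroup.mul_mem_iff_of_index_two (show (I.subgroupOf St).index = 2 from hrel)
        (a := (⟨r⁻¹, inv_mem hrS⟩ : St)) (b := ⟨α, hαS⟩)
      simp only [Subgroup.mem_subgroupOf, Subgroup.coe_mul] at h1
      rw [h1]
      exact ⟨fun h => absurd (inv_inv r ▸ I.inv_mem h) hrI, fun h => absurd h ha⟩
  rcases hcase with ⟨s, hs⟩ | ⟨s, hs⟩
  · obtain ⟨g, rfl⟩ := qh_surj false s
    have e := heq β _ α hα (fun w => by rw [hin g w, hs])
    exact ⟨g, (mem_W0.mp g.2).1, fun x => by rw [e]; rfl⟩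
  · obtain ⟨g, rfl⟩ := qh_surj false s
    refine ⟨rP 0 * g, mul_mem (rP_mem 0) (mem_W0.mp g.2).1, fun x => ?_⟩
    have e := heq β (conjW (rP 0) (rP_mem 0) * conjW g (mem_W0.mp g.2).1) α hα fun w => by
      show qh false (conjW (rP 0) (rP_mem 0) (conjW g (mem_W0.mp g.2).1 w)) = _
      rw [hr, hin g w, hs]
      show r ((r⁻¹ * α) (qh false w)) = _
      rw [← MulAut.mul_apply, mul_inv_cancel_left]
    rw [e]
    show rP 0 * ((g : Perm (Fin 240)) * x * (g : Perm (Fin 240))⁻¹) * (rP 0)⁻¹ = _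
    group

/-- A stem extension of the simple group with kernel of order two is the group of even symmetries. -/
theorem iso_W0 {X : Type u} [Group X] [Finite X] (f : X →* ↥Sg) (hf : Cfsg.IsStemExtension f)
    (h2 : Nat.card f.ker = 2) : Nonempty (X ≃* ↥W0) := by
  classical
  obtain ⟨φ, hs, hc⟩ := exists_lift f hf
  have hker : φ.ker ≤ pr.ker := fun u hu => by
    rw [MonoidHom.mem_ker, ← hc, MonoidHom.comp_apply, MonoidHom.mem_ker.mp hu, map_one]
  have hcard : Nat.card φ.ker = 2 := by
    have a := φ.ker.card_mul_index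
    rw [index_ker, MonoidHom.range_eq_top.mpr hs, card_top] at a
    have b := f.ker.card_mul_index
    rw [index_ker, MonoidHom.range_eq_top.mpr hf.1, card_top, h2, OEight.small_group.2.1] at b
    rw [card_Ug, ← b] at a
    omega
  obtain ⟨z, hz, hz1⟩ : ∃ z ∈ φ.ker, z ≠ 1 := by
    by_contra h
    push Not at h
    rw [show φ.ker = ⊥ from (eq_bot_iff).mpr fun u hu => h u hu, card_bot] at hcard
    omega
  have hzo : z ∈ MulAction.orbit (MulAut ↥Sg) (zc true) := by
    rw [orbit_eq]
    rcases (ker_pr (hker hz)).2.2 with e | e | e | e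
    · exact absurd e hz1
    all_goals simp [e]
  obtain ⟨α, hα⟩ := hzo
  have hα' : lift α (zc true) = z := hα
  let ψ : ↥Ug →* X := φ.comp (lift α)
  have hψ : Function.Surjective ψ := hs.comp (lift_spec α).1
  have hk : ψ.ker = (halfW false).ker := by
    have hzc : zc true ∈ ψ.ker := by
      show φ (lift α (zc true)) = 1
      rw [hα']; exact hz
    refine (eq_of_le_of_card_ge ?_ ?_).symm
    · intro u hu
      rcases ker_halfW false (MonoidHom.mem_ker.mp hu) with rfl | rfl
      exacts [one_mem _, hzc]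
    · have a := ψ.ker.card_mul_index
      rw [index_ker, MonoidHom.range_eq_top.mpr hψ, card_top] at a
      have b := (halfW false).ker.card_mul_index
      rw [index_ker, MonoidHom.range_eq_top.mpr (halfW_surjective false), card_top, card_W0, card_Ug] at b
      have c := φ.ker.card_mul_index
      rw [index_ker, MonoidHom.range_eq_top.mpr hs, card_top, hcard, card_Ug] at c
      rw [card_Ug, ← c] at a
      have : 0 < Nat.card X := Nat.card_pos
      have := Nat.eq_of_mul_eq_mul_right this a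
      omega
  exact ⟨((QuotientGroup.quotientKerEquivOfSurjective ψ hψ).symm.trans
    (QuotientGroup.quotientMulEquivOfEq hk)).trans
      (QuotientGroup.quotientKerEquivOfSurjective _ (halfW_surjective false))⟩

end CfsgLib.O8Two
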