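/-
The enumeration of the frames of orthogonal root lines, each with a word to the standard frame.
-/
import Cfsg.Agent.Lib.StdO8Two.Words

set_option autoImplicit false
set_option maxRecDepth 20000

namespace CfsgLib.O8Two

/-- Orthogonality of numbered roots. -/
def orthB (a b : ℕ) : Bool := Nat.beq (qn a b) 2

/-- The members orthogonal to a root. -/
def orths (c : ℕ) (cs : List ℕ) : List ℕ := force (mk c 2) fun m => cs.filter fun d => Nat.testBit m d

/-- One step of the search for pairwise orthogonal lists of length `n`. -/
def frAux (f : List ℕ → List (List ℕ)) (n : ℕ) : List ℕ → List (List ℕ)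
  | [] => []
  | c :: cs => bif Nat.blt (c :: cs).length n then [] else (f (orths c cs)).map (c :: ·) ++ frAux f n cs

/-- The sublists of given length with pairwise orthogonal members. -/
def fr : ℕ → List ℕ → List (List ℕ)
  | 0, _ => [[]]
  | k + 1, cs => frAux (fr k) (k + 1) cs

/-- The frames whose first line is `c`. -/
def startAt (c : ℕ) : List (List ℕ) := (fr 7 (orths c (List.range' (c + 1) (119 - c)))).map (c :: ·)

/-- The frames whose first line lies in a range. -/
def starts (a n : ℕ) : List (List ℕ) := (List.range' a n).flatMap startAt

/-- The frames. -/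
def frames : List (List ℕ) := (List.range 120).flatMap startAt

/-- The word check of a frame. -/
def wordOK (L : List ℕ) (n : ℕ) : Bool :=
  (L.all fun a => Data.frameSet.any (Nat.beq (wF (wd n) a))) &&
    Data.frame.all fun b => L.any fun a => Nat.beq (wF (wd n).reverse b) a || Nat.beq (wF (wd n).reverse b) (239 - a)

theorem starts_ok0 : Nat.beq (starts 0 4).length 540 = true ∧
    ((starts 0 4).zip (Data.frameW.take 540)).all (fun p => wordOK p.1 p.2) = true := by decide +kernel

theorem starts_ok1 : Nat.beq (starts 4 4).length 525 = true ∧
    ((starts 4 4).zip ((Data.frameW.drop 540).take 525)).all (fun p => wordOK p.1 p.2) = true := by decide +kernel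

theorem starts_ok2 : Nat.beq (starts 8 6).length 720 = true ∧
    ((starts 8 6).zip ((Data.frameW.drop 1065).take 720)).all (fun p => wordOK p.1 p.2) = true := by decide +kernel

theorem starts_ok3 : Nat.beq (starts 14 12).length 240 = true ∧
    ((starts 14 12).zip (Data.frameW.drop 1785)).all (fun p => wordOK p.1 p.2) = true := by decide +kernel

theorem starts_ok4 : Nat.beq (starts 26 34).length 0 = true ∧ Nat.beq (starts 60 60).length 0 = true ∧
    Nat.beq Data.frameW.length 2025 = true := by decide +kernel

end CfsgLib.O8Two
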