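/-
The centralisers of two elements of order five and of a product of four reflections, searched along adapted bases.
-/
import Cfsg.Agent.Lib.StdO8Two.Words
import Cfsg.Agent.Lib.StdO8Two.FrameChecks

set_option autoImplicit false
set_option maxRecDepth 20000

namespace CfsgLib.O8Two

/-- The positions of the bits of a number below `2 ^ 2 ^ k`, shifted. -/
def bitsAux : ℕ → ℕ → ℕ → List ℕ
  | 0, off, m => bif Nat.beq m 0 then [] else [off]
  | k + 1, off, m => bif Nat.beq m 0 then [] else
      force (m % 2 ^ 2 ^ k) (fun lo => bitsAux k off lo) ++
        force (m >>> 2 ^ k) (fun hi => bitsAux k (off + 2 ^ k) hi)

/-- The candidates for the image of the next root of a base. -/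
def cands (d : List ℕ) (pre im : List ℕ) (b l dom : ℕ) : List ℕ :=
  force (Nat.land dom (key pre im b)) fun m =>
    bif Nat.beq l 0 then bitsAux 8 0 m
    else bif Nat.testBit m (wF d (im.getD (l - 1) 0)) then [wF d (im.getD (l - 1) 0)] else []

/-- The possible images of a base under symmetries commuting with a word. -/
def cvs (d : List ℕ) : List (ℕ × ℕ × ℕ) → List ℕ → List ℕ → List (List ℕ)
  | [], _, im => [im]
  | (b, l, dom) :: rest, pre, im =>
      (cands d pre im b l dom).flatMap fun c => cvs d rest (pre ++ [b]) (im ++ [c])

/-- The roots kept by a product of four reflections up to inner product, at each place of its base. -/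
def domFour : List ℕ :=
  [107740670724049803206903479141296209190104370905574344893060039557120,
    107740670724049803206903479141296209190104370905574344893060039557120,
    883423532389192164791648751085085828519823769943632446150284144323592193,
    883207852815854959673297259542291969227295732276242489427628187346542590,
    883207852815854959673297259542291969227295732276242489427628187346542590,
    107740670724049803206903479141296209190104370905574344893060039557120,
    107740670724049803206903479141296209190104370905574344893060039557120,
    99115944552755965918574657458701831629467755954267856387964928000]

/-- The places of a base. -/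
def places3 (bs ls doms : List ℕ) : List (ℕ × ℕ × ℕ) := bs.zip (ls.zip doms)

/-- The places for the first element of order five. -/
def plOne : List (ℕ × ℕ × ℕ) := places3 Data.baseOne Data.linkOne (List.replicate 8 full)

/-- The places for the second element of order five. -/
def plTwo : List (ℕ × ℕ × ℕ) := places3 Data.baseTwo Data.linkTwo (List.replicate 8 full)

/-- The places for the product of four reflections. -/
def plFour : List (ℕ × ℕ × ℕ) := places3 Data.baseFour Data.linkFour domFour

/-- The six-element. -/
def sixW : List ℕ := Data.frame ++ wd (Data.repW.getD 2 0)

/-- The four-reflection element without a half root. -/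
def fourW : List ℕ := wd (Data.repW.getD 5 0)

/-- The map of numbers given by images of a base. -/
def gIm (bs im : List ℕ) (i : ℕ) : ℕ := gAt bs im i

/-- The square of the given symmetry sends each base root as the map does. -/
def sqIs (bs im : List ℕ) (f : ℕ → ℕ) : Bool :=
  (bs.zip im).all fun p => Nat.beq (gAt bs im p.2) (f p.1)

/-- Allowed numbers of fixed and negated roots for symmetries commuting with an element of order five. -/
def fiveSig (s : ℕ × ℕ) : Bool :=
  [(240, 0), (0, 240), (126, 2), (2, 126), (60, 4), (4, 60), (0, 0)].any fun t =>
    Nat.beq s.1 t.1 && Nat.beq s.2 t.2

/-- The tests on one symmetry commuting with an element of order five. -/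
def fiveOK (bs im : List ℕ) : Bool :=
  bif sqIs bs im (fun b => b) || sqIs bs im (fun b => 239 - b) then fiveSig (sF (gIm bs im)) else true

/-- No square root of the six-element commutes with it and the first element of order five. -/
def rootOK (im : List ℕ) : Bool :=
  bif sqIs Data.baseOne im (wF sixW) then
    !((Data.baseOne.zip im).all fun p => Nat.beq (gAt Data.baseOne im (wF sixW p.1)) (wF sixW p.2))
  else true

/-- Order three at the base. -/
def cubeB (im : List ℕ) : Bool :=
  (Data.baseFour.zip im).all fun p => Nat.beq (gAt Data.baseFour im (gAt Data.baseFour im p.2)) p.1

/-- An involution of the class with a half root whose product with the fixed one has none. -/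
def mateB (im : List ℕ) : Bool :=
  bif sqIs Data.baseFour im (fun b => b) then
    force (sF (gIm Data.baseFour im)).1 fun n => bif Nat.beq n 24 then
      Nat.beq (sF fun i => gAt Data.baseFour im (wF fourW i)).1 8
    else false
  else false

/-- The symmetries of order three commuting with the product of four reflections, at its base. -/
def cubes : List ℕ :=
  [4670449956115701774, 12454921912025604110, 13173248273173176334, 4240358412283797518,
    12415330748604997646, 4233416125579649038, 13135915523882999822, 4665770524705939470,
    12955635585513413904, 12309369038985747728, 13389380802373999633, 12743114255846333457,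
    12883577987163741970, 12381426628711931666, 13317323204024327699, 12815171845572517395,
    12090125329451962646, 11874234022314889494, 13826237654253948951, 13610346347116875799,
    13609816946051173148, 5323194739824577308, 13824541107812289308, 13608649800675216156,
    11873424374129740317, 3586802167903144477, 12088430982033558045, 11872539674896484893,
    11946010137064364318, 12018349206079002910, 13682122461866350623, 13754461530880989215,
    5251135998845834020, 13681875609418519332, 13680425915424690980, 13752764984439329572,
    3514743426924401189, 11945483037497086501, 11944315789645959717, 12016654858660598309,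
    12697070613663630632, 4443099504735470888, 13389689765141398824, 12743423218613732648,
    12262761373007070249, 4008790264078910505, 12955379399304135721, 12309112852776469545,
    4371040781003704106, 12769129294277953322, 13317632166791726890, 12815480808339916586,
    3936731540347143723, 12334820053621392939, 12883321800954463787, 12381170442502653483,
    12406879726824243756, 4224965103798895148, 13127464502102245932, 4657319502925185580,
    4668787438916518444, 12453259394826420780, 13171585755973993004, 4238695895084614188,
    14834607965194241844, 15339019923864504116, 1813491517614278197, 2317903476284540469,
    14828119738521171270, 14900461010870809926, 1807286964941173831, 1879628237290812487,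
    1807018649875787596, 2311430608546049868, 1805596989898633036, 1877938262248271692,
    14827569948479073869, 15331981907149336141, 14826431962501885517, 14898773234851524173,
    14762550039152016296, 15411077185898134440, 1741433591572052649, 2389960738318170793,
    14756343287455656378, 14972236797927729594, 1735510513875658939, 1951404024347732155,
    1734960723833562048, 2383487870579680192, 1733820538833118144, 1949714049305191360,
    14755512022436848321, 15404039169182966465, 14754655511436370625, 14970549021908443841,
    4617897642736494280, 12402369598646396616, 13120695959793968840, 4187806098904590024,
    12413833213767919304, 4231918590742570696, 13134417989045921480, 4664272989868861128,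
    11822842445483743184, 3536220239257147344, 13558672058895242961, 5272049852668647121,
    3464161498278404056, 11894901108851089368, 5199991111689903833, 13630730722262589145,
    12408773085847229658, 4226858462821881050, 13129357861125231834, 4659212861948171482,
    4619612936493798618, 12404084892403700954, 13122411253551273178, 4189521392661894362,
    12263240764354990556, 4009269655426830812, 12696987046501617885, 4443015937573458141,
    3937210931695064030, 12335299444969313246, 4370957213841691359, 12769045727115940575]

/-- The involutions tested against them. -/
def mates : List ℕ :=
  [4886744915443179534, 4168420774877585422, 13176613224900976654, 4386865135163006224,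
    3952838443325709329, 4458641249912479506, 4024614558075182611, 12413654977370446613,
    4231742574927076117, 13105405540449639189, 5250968016340898070, 3514574216562200599,
    5323025606067083550, 3586631806288386079, 12449861826753775911, 4667650505556281639,
    12665708641478756647, 12665758635794285100, 4883547314596790828, 13055671915802051116,
    4873759513358680620, 4885075856792207916, 4166751716226613804, 1957343909624956724,
    14977896303461615157, 2383464039016052038, 15404016432852710471, 1885284875447614376,
    14905837269284272809, 2311405004838709690, 15331957398675368123, 13122549592073711043,
    12404225451508116931, 12415541794941644227, 4233629392498273731, 12405753993703534019,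
    4623542672506039747, 4623592666821568200, 12621650802744043208, 4839439481546548936,
    13702669502011938768, 11966275702233241297, 13774727091738124248, 12038333291959426777,
    4183895767850685658, 13057558733373248730, 4875646330929878234, 13264686750225142236,
    12830660058387845341, 13336462864974615518, 12902436173137318623, 4112688083399348193,
    13120880533422739425, 12402556392857145313]

/-- A packed base image. -/
def packB (im : List ℕ) : ℕ := im.foldr (fun a n => a + 256 * n) 0

/-- An unpacked base image. -/
def unpB : ℕ → ℕ → List ℕ
  | 0, _ => []
  | k + 1, n => n % 256 :: unpB k (n >>> 8)

/-- The first place of the base for the product of four reflections. -/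
def firstFour : List ℕ :=
  cands fourW [] [] (plFour.getD 0 (0, 0, 0)).1 0 (plFour.getD 0 (0, 0, 0)).2.2

/-- The listed elements are all that pass the tests. -/
def fourOK (c : ℕ) : Bool :=
  (cvs fourW plFour.tail [(plFour.getD 0 (0, 0, 0)).1] [c]).all fun im =>
    (!(cubeB im) || Nat.beq (packB im) (packB Data.baseFour) || cubes.any (Nat.beq (packB im))) &&
      (!(mateB im) || mates.any (Nat.beq (packB im)))

/-- A listed pair does not commute. -/
def apartOK (e r : List ℕ) : Bool :=
  (e.zip r).any fun p => !(Nat.beq (gAt Data.baseFour e p.2) (gAt Data.baseFour r p.1))

theorem apart_ok : (cubes.all fun e => mates.all fun r => apartOK (unpB 8 e) (unpB 8 r)) = true := by decide +kernel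

theorem first_len : Nat.beq firstFour.length 64 = true := by decide +kernel

theorem four_ok0 : ((firstFour.take 16).all fourOK) = true := by decide +kernel

theorem four_ok1 : (((firstFour.drop 16).take 16).all fourOK) = true := by decide +kernel

theorem four_ok2 : (((firstFour.drop 32).take 16).all fourOK) = true := by decide +kernel

theorem four_ok3 : (((firstFour.drop 48).take 16).all fourOK) = true := by decide +kernel

theorem one_ok : ((cvs (wd Data.dOneW) plOne [] []).all fun im => fiveOK Data.baseOne im && rootOK im) = true := by
  decide +kernel

theorem two_ok : ((cvs (wd Data.dTwoW) plTwo [] []).all (fiveOK Data.baseTwo)) = true := by decide +kernel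

theorem bases_ok : sepOK Data.baseOne = true ∧ sepOK Data.baseTwo = true ∧ sepOK Data.baseFour = true := by
  decide +kernel

/-- The links and domains are right. -/
def placeOK (d : List ℕ) (pl : List (ℕ × ℕ × ℕ)) (strong : Bool) : Bool :=
  (List.range 8).all fun j => Nat.blt (pl.getD j (0, 0, 0)).2.1 (j + 1) &&
    (Nat.beq (pl.getD j (0, 0, 0)).2.1 0 ||
      Nat.beq (pl.getD j (0, 0, 0)).1 (wF d (pl.getD ((pl.getD j (0, 0, 0)).2.1 - 1) (0, 0, 0)).1)) &&
    (!strong || (List.range 240).all fun c =>
      !(Nat.beq (qn c (wF d c)) (qn (pl.getD j (0, 0, 0)).1 (wF d (pl.getD j (0, 0, 0)).1))) ||
        Nat.testBit (pl.getD j (0, 0, 0)).2.2 c)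

theorem places_ok' : placeOK (wd Data.dOneW) plOne false = true ∧ placeOK (wd Data.dTwoW) plTwo false = true ∧
    placeOK fourW plFour true = true := by decide +kernel

end CfsgLib.O8Two
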