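/-
Two classes of elements of order five.
-/
import Cfsg.Agent.Lib.StdO8Two.Halves

set_option autoImplicit false
set_option maxRecDepth 20000

namespace CfsgLib.O8Two

open Equiv Subgroup

/-- A repeated word. -/
def powL (w : List ℕ) (a : ℕ) : List ℕ := (List.replicate a w).flatten

theorem wP_powL (w : List ℕ) (a : ℕ) : wP (powL w a) = wP w ^ a := by
  induction a with
  | zero => simp [powL, wP]
  | succ a ih => rw [powL, List.replicate_succ, List.flatten_cons, wP_append, pow_succ', ← powL, ih]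

/-- The word of a pair of exponents. -/
def pairW (a b : ℕ) : List ℕ := powL (wd Data.dOneW) a ++ powL (wd Data.fiveQW) b

/-- The word of an element of order five by its class number. -/
def classW (k : ℕ) : List ℕ := wd (bif Nat.beq k 1 then Data.dOneW else Data.dTwoW)

theorem five_rel : (Data.B0.all fun c =>
    Nat.beq (wF (powL (wd Data.dOneW) 5) c) c && Nat.beq (wF (powL (wd Data.fiveQW) 5) c) c &&
      Nat.beq (wF (wd Data.dOneW ++ wd Data.fiveQW) c) (wF (wd Data.fiveQW ++ wd Data.dOneW) c)) = true := by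
  decide +kernel

theorem five_distinct :
    ((List.range 25).all fun i => (List.range 25).all fun j => Nat.beq i j ||
      (Data.B0.any fun c => !(Nat.beq (wF (pairW (i / 5) (i % 5)) c) (wF (pairW (j / 5) (j % 5)) c)))) = true := by
  decide +kernel

theorem five_certs : ((List.range 25).all fun i => Nat.beq i 0 || Data.five.any fun t =>
    Nat.beq t.1 (i / 5) && Nat.beq t.2.1 (i % 5) && (Nat.beq t.2.2.1 1 || Nat.beq t.2.2.1 2) &&
      Data.B0.all fun c => Nat.beq (wF (wd t.2.2.2 ++ pairW (i / 5) (i % 5)) c)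
        (wF (classW t.2.2.1 ++ wd t.2.2.2) c)) = true := by decide +kernel

theorem eq_of_words {l m : List ℕ} (h : (Data.B0.all fun c => Nat.beq (wF l c) (wF m c)) = true) : wP l = wP m := by
  refine ext_base places_ok.1 (wP_mem l) (wP_mem m) fun c hc => ?_
  have hc' := sep_lt places_ok.1 c hc
  rw [ev_wP l hc', ev_wP m hc']
  exact Nat.eq_of_beq_eq_true (List.all_eq_true.mp h c hc)

/-- The first element of order five. -/
noncomputable def dOne : Perm (Fin 240) := wP (wd Data.dOneW)

/-- The second element of order five. -/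
noncomputable def dTwo : Perm (Fin 240) := wP (wd Data.dTwoW)

/-- An element of order five is conjugate to one of two. -/
theorem five_classes {d : Perm (Fin 240)} (hd : d ∈ Wf) (h5 : d ^ 5 = 1) (h1 : d ≠ 1) :
    ∃ v ∈ Wf, v * d * v⁻¹ = dOne ∨ v * d * v⁻¹ = dTwo := by
  classical
  haveI : Fact (Nat.Prime 5) := ⟨by norm_num⟩
  have hrel := five_rel
  simp only [List.all_eq_true, Bool.and_eq_true] at hrel
  set p : ↥Wf := ⟨wP (wd Data.dOneW), wP_mem _⟩
  set q : ↥Wf := ⟨wP (wd Data.fiveQW), wP_mem _⟩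
  have hone : (1 : Perm (Fin 240)) = wP [] := by simp [wP]
  have hp : p ^ 5 = 1 := Subtype.ext (by
    rw [SubmonoidClass.coe_pow, ← wP_powL, OneMemClass.coe_one, hone]
    exact eq_of_words (List.all_eq_true.mpr fun c hc => by simpa [wF] using (hrel c hc).1.1))
  have hq : q ^ 5 = 1 := Subtype.ext (by
    rw [SubmonoidClass.coe_pow, ← wP_powL, OneMemClass.coe_one, hone]
    exact eq_of_words (List.all_eq_true.mpr fun c hc => by simpa [wF] using (hrel c hc).1.2))
  have hpq : Commute p q := Subtype.ext (by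
    show wP _ * wP _ = wP _ * wP _
    rw [← wP_append, ← wP_append]
    exact eq_of_words (List.all_eq_true.mpr fun c hc => (hrel c hc).2))
  let el : ℕ → ↥Wf := fun i => p ^ (i / 5) * q ^ (i % 5)
  have hel : ∀ i, (el i : Perm (Fin 240)) = wP (pairW (i / 5) (i % 5)) := fun i => by
    simp [el, pairW, wP_append, wP_powL, p, q]
  let S : Subgroup ↥Wf := zpowers p ⊔ zpowers q
  have hn : zpowers p ≤ normalizer (zpowers q : Set ↥Wf) := by
    refine le_trans ?_ (Subgroup.centralizer_le_normalizer _)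
    rw [zpowers_le]
    exact fun x hx => by
      obtain ⟨k, rfl⟩ := mem_zpowers_iff.mp hx
      exact ((hpq.zpow_right k).eq).symm
  have hS5 : IsPGroup 5 ↥S := by
    have h : ∀ x : ↥Wf, x ^ 5 = 1 → IsPGroup 5 ↥(zpowers x) := fun x hx =>
      fun y => ⟨1, by
        obtain ⟨k, hk⟩ := mem_zpowers_iff.mp y.2
        refine Subtype.ext ?_
        rw [SubmonoidClass.coe_pow, pow_one, ← hk, ← zpow_natCast, zpow_comm, zpow_natCast, hx, one_zpow]
        rfl⟩
    exact (h p hp).to_sup_of_normal_right' (h q hq) hn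
  obtain ⟨P, hP⟩ := hS5.exists_le_sylow
  have hinj : Function.Injective fun i : Fin 25 => el i := fun i j e => by
    refine Fin.ext ?_
    by_contra hij
    have h := List.all_eq_true.mp (List.all_eq_true.mp five_distinct i (List.mem_range.mpr i.2)) j
      (List.mem_range.mpr j.2)
    rw [Bool.or_eq_true, List.any_eq_true] at h
    rcases h with h | ⟨c, hc, h⟩
    · exact hij (Nat.eq_of_beq_eq_true h)
    · have hc' := sep_lt places_ok.1 c hc
      rw [Bool.not_eq_true', ← ev_wP _ hc', ← ev_wP _ hc', ← hel, ← hel, show el i = el j from e, Nat.beq_refl] at h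
      simp at h
  have hmem : ∀ i, el i ∈ (P : Subgroup ↥Wf) := fun i => hP (mul_mem
    (mem_sup_left (pow_mem (mem_zpowers p) _)) (mem_sup_right (pow_mem (mem_zpowers q) _)))
  have hPcard : Nat.card ↥(P : Subgroup ↥Wf) ≤ 25 := by
    obtain ⟨k, hk⟩ := IsPGroup.iff_card.mp P.2
    rw [hk]
    have hdvd : 5 ^ k ∣ 696729600 := hk ▸ card_Wf ▸ Subgroup.card_subgroup_dvd_card _
    by_contra hlt
    have h3 : 3 ≤ k := by
      by_contra hk3
      exact hlt (by calc 5 ^ k ≤ 5 ^ 2 := Nat.pow_le_pow_right (by norm_num) (by omega)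
                      _ = 25 := by norm_num)
    exact absurd ((Nat.pow_dvd_pow 5 h3).trans hdvd) (by norm_num)
  have hsurj : ∀ x ∈ (P : Subgroup ↥Wf), ∃ i : Fin 25, el i = x := by
    have hbij : Function.Bijective (fun i : Fin 25 => (⟨el i, hmem i⟩ : ↥(P : Subgroup ↥Wf))) := by
      have hi' : Function.Injective (fun i : Fin 25 => (⟨el i, hmem i⟩ : ↥(P : Subgroup ↥Wf))) :=
        fun a b e => hinj (congrArg Subtype.val e)
      refine (Nat.bijective_iff_injective_and_card _).mpr ⟨hi', le_antisymm ?_ ?_⟩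
      · exact Nat.card_le_card_of_injective _ hi'
      · simpa using hPcard
    exact fun x hx => (hbij.2 ⟨x, hx⟩).imp fun i h => congrArg Subtype.val h
  set d' : ↥Wf := ⟨d, hd⟩
  have hd5 : IsPGroup 5 ↥(zpowers d') := fun y => ⟨1, by
    obtain ⟨k, hk⟩ := mem_zpowers_iff.mp y.2
    refine Subtype.ext ?_
    rw [SubmonoidClass.coe_pow, pow_one, ← hk, ← zpow_natCast, zpow_comm, zpow_natCast,
      show d' ^ 5 = 1 from Subtype.ext h5, one_zpow]
    rfl⟩
  obtain ⟨R, hR⟩ := hd5.exists_le_sylow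
  obtain ⟨g, hg⟩ := MulAction.exists_smul_eq ↥Wf R P
  have hin : g * d' * g⁻¹ ∈ (P : Subgroup ↥Wf) := by
    rw [← hg]
    exact Subgroup.smul_mem_pointwise_smul d' (MulAut.conj g) _ (hR (mem_zpowers d'))
  obtain ⟨i, hi⟩ := hsurj _ hin
  have hi0 : (i : ℕ) ≠ 0 := fun e => h1 (by
    rw [e, show el 0 = 1 by simp [el], eq_comm, conj_eq_one_iff] at hi
    exact congrArg Subtype.val hi)
  have hc := List.all_eq_true.mp five_certs i (List.mem_range.mpr i.2)
  simp only [Bool.or_eq_true, List.any_eq_true, Bool.and_eq_true] at hc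
  obtain ⟨t, -, ⟨-, hk⟩, hall⟩ := hc.resolve_left fun e => hi0 (Nat.eq_of_beq_eq_true e)
  have e := eq_of_words hall
  rw [wP_append, wP_append, ← hel, hi] at e
  refine ⟨wP (wd t.2.2.2) * (g : Perm (Fin 240)), mul_mem (wP_mem _) g.2, ?_⟩
  have e' : wP (wd t.2.2.2) * (g : Perm (Fin 240)) * d * (wP (wd t.2.2.2) * (g : Perm (Fin 240)))⁻¹ =
      wP (classW t.2.2.1) := by
    rw [mul_inv_rev, show wP (wd t.2.2.2) * (g : Perm (Fin 240)) * d * ((g : Perm (Fin 240))⁻¹ * (wP (wd t.2.2.2))⁻¹) =
      (wP (wd t.2.2.2) * ((g * d' * g⁻¹ : ↥Wf) : Perm (Fin 240))) * (wP (wd t.2.2.2))⁻¹ by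
        simp [d', mul_assoc], e, mul_inv_cancel_right]
  rw [e']
  rcases hk with hk | hk <;> rw [Nat.eq_of_beq_eq_true hk]
  · exact Or.inl rfl
  · exact Or.inr rfl

end CfsgLib.O8Two
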