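/-
The 2025 frames of eight orthogonal root lines form one orbit; an element whose square is central fixes one.
-/
import Cfsg.Agent.Lib.StdO8Two.FrameChecks

set_option autoImplicit false
set_option maxRecDepth 20000

namespace CfsgLib.O8Two

open Equiv

theorem beq_iff (a b : ℕ) : Nat.beq a b = true ↔ a = b :=
  ⟨Nat.eq_of_beq_eq_true, fun e => e ▸ Nat.beq_refl a⟩

theorem orthB_iff {a b : ℕ} : orthB a b = true ↔ qn a b = 2 := beq_iff _ _

theorem mem_orths {c : ℕ} (hc : c < 240) {cs : List ℕ} :
    ∀ d, d ∈ orths c cs ↔ d ∈ cs ∧ d < 240 ∧ orthB c d = true := fun d => by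
  rw [orths, force_eq, List.mem_filter, mk_bit (i := ⟨c, hc⟩) (by norm_num), orthB_iff]

theorem orths_sublist (c : ℕ) (cs : List ℕ) : (orths c cs).Sublist cs := by
  rw [orths, force_eq]; exact List.filter_sublist

theorem mem_fr : ∀ (k : ℕ) (cs L : List ℕ), (∀ c ∈ cs, c < 240) →
    (L ∈ fr k cs ↔ L.Sublist cs ∧ L.Pairwise (fun a b => orthB a b = true) ∧ L.length = k) := by
  intro k
  induction k with
  | zero =>
    intro cs L _
    simp only [fr, List.mem_singleton, List.length_eq_zero_iff]
    constructor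
    · rintro rfl; simp
    · rintro ⟨-, -, h⟩; exact h
  | succ k ih =>
    intro cs
    induction cs with
    | nil =>
      intro L _
      simp only [fr, frAux, List.not_mem_nil, List.sublist_nil, false_iff]
      rintro ⟨rfl, -, h⟩
      simp at h
    | cons c cs ihc =>
      intro L hlt
      have hc : c < 240 := hlt c (by simp)
      have hcs : ∀ d ∈ cs, d < 240 := fun d hd => hlt d (by simp [hd])
      have ho : ∀ d ∈ orths c cs, d < 240 := fun d hd => hcs d ((orths_sublist c cs).subset hd)
      simp only [fr, frAux]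
      cases hb : Nat.blt (c :: cs).length (k + 1)
      · simp only [cond_false, List.mem_append, List.mem_map]
        constructor
        · rintro (⟨M, hM, rfl⟩ | h)
          · obtain ⟨h1, h2, h3⟩ := (ih _ _ ho).mp hM
            exact ⟨List.Sublist.cons_cons c (h1.trans (orths_sublist c cs)),
              List.pairwise_cons.mpr ⟨fun a ha => ((mem_orths hc a).mp (h1.subset ha)).2.2, h2⟩, by simp [h3]⟩
          · obtain ⟨h1, h2, h3⟩ := (ihc L hcs).mp h
            exact ⟨h1.cons c, h2, h3⟩
        · rintro ⟨h1, h2, h3⟩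
          rcases List.sublist_cons_iff.mp h1 with h | ⟨M, rfl, h⟩
          · exact Or.inr ((ihc L hcs).mpr ⟨h, h2, h3⟩)
          · obtain ⟨h4, h5⟩ := List.pairwise_cons.mp h2
            refine Or.inl ⟨M, (ih _ _ ho).mpr ⟨?_, h5, by simpa using h3⟩, rfl⟩
            rw [orths, force_eq]
            have e : M.filter (fun d => Nat.testBit (mk c 2) d) = M := List.filter_eq_self.mpr fun d hd =>
              (mk_bit (i := ⟨c, hc⟩) (by norm_num)).mpr ⟨hcs d (h.subset hd), orthB_iff.mp (h4 d hd)⟩
            rw [← e]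
            exact h.filter _
      · simp only [cond_true, List.not_mem_nil, false_iff, not_and]
        intro h1 _ h3
        have := h1.length_le
        rw [Nat.blt_eq] at hb
        omega

theorem nodup_fr : ∀ (k : ℕ) (cs : List ℕ), (∀ c ∈ cs, c < 240) → cs.Nodup → (fr k cs).Nodup := by
  intro k
  induction k with
  | zero => intro cs _ _; simp [fr]
  | succ k ih =>
    intro cs
    induction cs with
    | nil => intro _ _; simp [fr, frAux]
    | cons c cs ihc =>
      intro hlt h
      obtain ⟨h1, h2⟩ := List.nodup_cons.mp h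
      have hcs : ∀ d ∈ cs, d < 240 := fun d hd => hlt d (by simp [hd])
      simp only [fr, frAux]
      cases Nat.blt (c :: cs).length (k + 1)
      · refine List.nodup_append.mpr ⟨(ih _ (fun d hd => hcs d ((orths_sublist c cs).subset hd))
          ((orths_sublist c cs).nodup h2)).map (fun a b e => List.tail_eq_of_cons_eq e), ihc hcs h2,
          fun a ha b hb e => ?_⟩
        obtain ⟨M, -, rfl⟩ := List.mem_map.mp ha
        subst e
        exact h1 (((mem_fr (k + 1) cs _ hcs).mp hb).1.subset (by simp))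
      · simp

theorem frames_split : frames = starts 0 4 ++ starts 4 4 ++ starts 8 6 ++ starts 14 12 ++ starts 26 34 ++ starts 60 60 := by
  simp only [frames, starts, ← List.flatMap_append]
  congr 1

theorem frames_length : frames.length = 2025 := by
  rw [frames_split]
  simp only [List.length_append, Nat.eq_of_beq_eq_true starts_ok0.1, Nat.eq_of_beq_eq_true starts_ok1.1,
    Nat.eq_of_beq_eq_true starts_ok2.1, Nat.eq_of_beq_eq_true starts_ok3.1, Nat.eq_of_beq_eq_true starts_ok4.1,
    Nat.eq_of_beq_eq_true starts_ok4.2.1]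

theorem exists_word_frame {L : List ℕ} (hL : L ∈ frames) : ∃ n, wordOK L n = true := by
  have key : ∀ {A : List (List ℕ)} {B : List ℕ}, A.length ≤ B.length → (A.zip B).all (fun p => wordOK p.1 p.2) = true →
      L ∈ A → ∃ n, wordOK L n = true := by
    intro A B hl h hA
    obtain ⟨i, hi, rfl⟩ := List.getElem_of_mem hA
    exact ⟨B[i], List.all_eq_true.mp h (A[i], B[i]) (List.mem_iff_getElem.mpr ⟨i, by simp; omega, by simp⟩)⟩
  have hW := Nat.eq_of_beq_eq_true starts_ok4.2.2
  rw [frames_split] at hL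
  simp only [List.mem_append] at hL
  rcases hL with ((((h | h) | h) | h) | h) | h
  · exact key (by simp [Nat.eq_of_beq_eq_true starts_ok0.1, hW]) starts_ok0.2 h
  · exact key (by simp [Nat.eq_of_beq_eq_true starts_ok1.1, hW]) starts_ok1.2 h
  · exact key (by simp [Nat.eq_of_beq_eq_true starts_ok2.1, hW]) starts_ok2.2 h
  · exact key (by simp [Nat.eq_of_beq_eq_true starts_ok3.1, hW]) starts_ok3.2 h
  · exact absurd h (by rw [List.eq_nil_of_length_eq_zero (Nat.eq_of_beq_eq_true starts_ok4.1)]; simp)
  · exact absurd h (by rw [List.eq_nil_of_length_eq_zero (Nat.eq_of_beq_eq_true starts_ok4.2.1)]; simp)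

theorem frameSet_ok : (Data.frameSet.all fun a => Nat.blt a 240 && Data.frameSet.any (Nat.beq (239 - a))) = true ∧
    (Data.frame.all fun a => Data.frameSet.any (Nat.beq a)) = true := by decide +kernel

theorem frame_lt : ∀ b ∈ Data.frame, b < 240 := sep_lt frame_sep

theorem wP_reverse (l : List ℕ) : wP l.reverse = (wP l)⁻¹ := by
  induction l with
  | nil => simp [wP]
  | cons a l ih =>
    rw [List.reverse_cons, wP_append, ih, show wP (a :: l) = rPn a * wP l from by simp [wP], mul_inv_rev,
      show wP [a] = rPn a from by simp [wP]]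
    congr 1
    unfold rPn
    split
    · rw [rP_inv]
    · rw [inv_one]

/-- The line of a root. -/
def ln (i : ℕ) : ℕ := min i (239 - i)

/-- The lines of the images of a list of roots, in order. -/
def img (g : Perm (Fin 240)) (L : List ℕ) : List ℕ :=
  (List.range 120).filter fun c => decide (∃ a ∈ L, ln (ev g a) = c)

theorem ev_zeta {i : ℕ} (hi : i < 240) : ev zeta i = 239 - i := by rw [ev, dif_pos hi, zeta_val]

theorem ev_neg {g : Perm (Fin 240)} (hg : g ∈ Wf) {i : ℕ} (hi : i < 240) : ev g (239 - i) = 239 - ev g i := by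
  rw [← ev_zeta hi, ← ev_mul, ← zeta_comm hg, ev_mul, ev_zeta (ev_lt g hi)]

theorem ln_ev_ln {g : Perm (Fin 240)} (hg : g ∈ Wf) {i : ℕ} (hi : i < 240) : ln (ev g (ln i)) = ln (ev g i) := by
  rcases min_choice i (239 - i) with e | e
  · rw [show ln i = i from e]
  · have := ev_lt g hi
    rw [show ln i = 239 - i from e, ev_neg hg hi]
    simp only [ln]
    omega

theorem mem_frames {L : List ℕ} : L ∈ frames ↔ L.Sublist (List.range 120) ∧
    L.Pairwise (fun a b => orthB a b = true) ∧ L.length = 8 := by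
  simp only [frames, List.mem_flatMap, List.mem_range, startAt, List.mem_map]
  have hsplit : ∀ c < 120, List.range 120 = List.range c ++ c :: List.range' (c + 1) (119 - c) := fun c hc => by
    rw [List.range_eq_range', List.range_eq_range', ← List.range'_succ,
      show List.range' c (119 - c + 1) = List.range' (0 + 1 * c) (119 - c + 1) by simp, List.range'_append]
    congr 1
    omega
  have hlt : ∀ c < 120, ∀ d ∈ List.range' (c + 1) (119 - c), d < 240 := fun c hc d hd => by
    rw [List.mem_range'_1] at hd; omega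
  constructor
  · rintro ⟨c, hc, M, hM, rfl⟩
    obtain ⟨h1, h2, h3⟩ := (mem_fr _ _ _ fun d hd => hlt c hc d ((orths_sublist _ _).subset hd)).mp hM
    refine ⟨?_, List.pairwise_cons.mpr ⟨fun a ha => ((mem_orths (by omega) a).mp (h1.subset ha)).2.2, h2⟩,
      by simp [h3]⟩
    rw [hsplit c hc]
    exact ((h1.trans (orths_sublist _ _)).cons_cons c).trans (List.sublist_append_right _ _)
  · rintro ⟨h1, h2, h3⟩
    obtain ⟨c, M, rfl⟩ : ∃ c M, L = c :: M := by
      cases L with
      | nil => simp at h3
      | cons c M => exact ⟨c, M, rfl⟩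
    have hc : c < 120 := List.mem_range.mp (h1.subset (by simp))
    obtain ⟨h4, h5⟩ := List.pairwise_cons.mp h2
    have hsub : ∀ d ∈ M, c < d ∧ d < 120 := fun d hd =>
      ⟨(List.pairwise_cons.mp (List.pairwise_lt_range.sublist h1)).1 d hd, List.mem_range.mp (h1.subset (by simp [hd]))⟩
    refine ⟨c, hc, M, (mem_fr _ _ _ fun d hd => hlt c hc d ((orths_sublist _ _).subset hd)).mpr
      ⟨?_, h5, by simpa using h3⟩, rfl⟩
    refine List.sublist_of_subperm_of_pairwise (r := (· < ·)) (List.subperm_of_subset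
      (((List.sublist_cons_self c M).trans h1).nodup List.nodup_range) fun d hd => (mem_orths (by omega) d).mpr
        ⟨List.mem_range'_1.mpr (by have := hsub d hd; omega), by have := hsub d hd; omega, h4 d hd⟩)
      (List.pairwise_lt_range.sublist ((List.sublist_cons_self c M).trans h1))
      (List.Pairwise.sublist (orths_sublist _ _) List.pairwise_lt_range')

theorem frames_nodup : frames.Nodup := by
  rw [frames, List.nodup_flatMap]
  refine ⟨fun c hc => ?_, ?_⟩
  · rw [startAt]
    refine (nodup_fr _ _ (fun d hd => ?_) ((orths_sublist _ _).nodup List.nodup_range')).map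
      fun a b e => List.tail_eq_of_cons_eq e
    have := List.mem_range'_1.mp ((orths_sublist _ _).subset hd)
    rw [List.mem_range] at hc
    omega
  · refine List.Pairwise.imp ?_ (List.nodup_range (n := 120))
    intro a b hab L h1 h2
    simp only [startAt, List.mem_map] at h1 h2
    obtain ⟨M, -, rfl⟩ := h1
    obtain ⟨M', -, e⟩ := h2
    exact hab (List.cons.inj e).1.symm

theorem frames_lt {L : List ℕ} (hL : L ∈ frames) {a : ℕ} (ha : a ∈ L) : a < 120 :=
  List.mem_range.mp ((mem_frames.mp hL).1.subset ha)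

theorem mem_img {g : Perm (Fin 240)} {L : List ℕ} (hL : ∀ a ∈ L, a < 240) {c : ℕ} :
    c ∈ img g L ↔ ∃ a ∈ L, ln (ev g a) = c := by
  simp only [img, List.mem_filter, List.mem_range, decide_eq_true_eq]
  refine ⟨fun h => h.2, fun h => ⟨?_, h⟩⟩
  obtain ⟨a, ha, rfl⟩ := h
  have := ev_lt g (hL a ha)
  simp only [ln]
  omega

theorem qn_neg {i j : ℕ} (hi : i < 240) (hj : j < 240) : qn (239 - i) j + qn i j = 4 := by
  have h := Q_zeta ⟨i, hi⟩ ⟨j, hj⟩
  have h1 := (pair_spec ⟨i, hi⟩ ⟨j, hj⟩).2.1
  simp only [Q, zeta_val] at h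
  omega

theorem qn_self {i : ℕ} (hi : i < 240) : qn i i = 4 := (one_spec ⟨i, hi⟩).1

theorem orth_ln {i j : ℕ} (hi : i < 240) (hj : j < 240) : qn (ln i) (ln j) = 2 ↔ qn i j = 2 := by
  have e1 : ∀ a b, a < 240 → b < 240 → (qn (ln a) b = 2 ↔ qn a b = 2) := fun a b ha hb => by
    rcases min_choice a (239 - a) with e | e
    · rw [ln, e]
    · rw [ln, e]
      have := qn_neg ha hb
      omega
  have hlj : ln j < 240 := by simp only [ln]; omega
  have s : ∀ a b, (ha : a < 240) → (hb : b < 240) → qn a b = qn b a := fun a b ha hb => qn_symm ⟨a, ha⟩ ⟨b, hb⟩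
  rw [e1 i _ hi hlj, s i _ hi hlj, e1 j i hj hi, s j i hj hi]

theorem img_mem {g : Perm (Fin 240)} (hg : g ∈ Wf) {L : List ℕ} (hL : L ∈ frames) : img g L ∈ frames := by
  obtain ⟨h1, h2, h3⟩ := mem_frames.mp hL
  have hlt : ∀ a ∈ L, a < 240 := fun a ha => by have := frames_lt hL ha; omega
  have hne : ∀ a ∈ L, ∀ b ∈ L, a ≠ b → qn a b = 2 := by
    have hs : ∀ a b, a ∈ L → b ∈ L → (orthB a b = true ↔ orthB b a = true) := fun a b ha hb => by
      rw [orthB_iff, orthB_iff, qn_symm ⟨a, hlt a ha⟩ ⟨b, hlt b hb⟩]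
    intro a ha b hb hab
    have : ∀ a ∈ L, ∀ b ∈ L, a ≠ b → (orthB a b = true ∧ orthB b a = true) := by
      have h2' : L.Pairwise (fun a b => orthB a b = true ∧ orthB b a = true) :=
        h2.imp_of_mem fun {a b} ha hb h => ⟨h, (hs a b ha hb).mp h⟩
      exact fun a ha b hb hab => (@List.Pairwise.forall _ _ L ⟨fun x y h => ⟨h.2, h.1⟩⟩ h2') ha hb hab
    exact orthB_iff.mp (this a ha b hb hab).1
  refine mem_frames.mpr ⟨List.filter_sublist, ?_, ?_⟩
  · have hnd : (img g L).Nodup := List.nodup_range.filter _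
    refine (List.pairwise_iff_forall_sublist).mpr fun {c d} hcd => ?_
    obtain ⟨a, ha, rfl⟩ := (mem_img hlt).mp (hcd.subset (by simp : c ∈ [c, d]))
    obtain ⟨b, hb, rfl⟩ := (mem_img hlt).mp (hcd.subset (by simp : d ∈ [ln (ev g a), d]))
    have hne' : a ≠ b := by
      rintro rfl
      simpa using hnd.sublist hcd
    rw [orthB_iff, orth_ln (ev_lt g (hlt a ha)) (ev_lt g (hlt b hb)), qn_ev hg (hlt a ha) (hlt b hb)]
    exact hne a ha b hb hne'
  · have hinj : ∀ a ∈ L, ∀ b ∈ L, ln (ev g a) = ln (ev g b) → a = b := fun a ha b hb e => by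
      by_contra hab
      have h := hne a ha b hb hab
      rw [← qn_ev hg (hlt a ha) (hlt b hb), ← orth_ln (ev_lt g (hlt a ha)) (ev_lt g (hlt b hb)), e] at h
      have h4 := qn_self (show ln (ev g b) < 240 by have := ev_lt g (hlt b hb); simp only [ln]; omega)
      omega
    have hnd : L.Nodup := h1.nodup List.nodup_range
    have hnd2 : (img g L).Nodup := List.nodup_range.filter _
    rw [← List.toFinset_card_of_nodup hnd2,
      show (img g L).toFinset = L.toFinset.image (fun a => ln (ev g a)) from by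
        ext c; simp [mem_img hlt],
      Finset.card_image_of_injOn fun a ha b hb e => hinj a (by simpa using ha) b (by simpa using hb) e,
      List.toFinset_card_of_nodup hnd, h3]

theorem img_mul {g h : Perm (Fin 240)} (hg : g ∈ Wf) {L : List ℕ} (hL : ∀ a ∈ L, a < 240) :
    img g (img h L) = img (g * h) L := by
  refine List.filter_congr fun c _ => decide_eq_decide.mpr ⟨?_, ?_⟩
  · rintro ⟨b, hb, rfl⟩
    obtain ⟨a, ha, rfl⟩ := (mem_img hL).mp hb
    exact ⟨a, ha, by rw [ev_mul, ln_ev_ln hg (ev_lt h (hL a ha))]⟩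
  · rintro ⟨a, ha, rfl⟩
    exact ⟨_, (mem_img hL).mpr ⟨a, ha, rfl⟩, by rw [ev_mul, ln_ev_ln hg (ev_lt h (hL a ha))]⟩

theorem img_pm {g : Perm (Fin 240)} (hg : g = 1 ∨ g = zeta) {L : List ℕ} (hL : L ∈ frames) : img g L = L := by
  obtain ⟨h1, -, -⟩ := mem_frames.mp hL
  have e : ∀ a ∈ L, ln (ev g a) = a := fun a ha => by
    have := frames_lt hL ha
    rcases hg with rfl | rfl
    · rw [ev_one, ln]; omega
    · rw [ev_zeta (by omega), ln]; omega
  have hs1 : L.Pairwise (· < ·) := List.pairwise_lt_range.sublist h1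
  have hs2 : (img g L).Pairwise (· < ·) := List.pairwise_lt_range.sublist List.filter_sublist
  refine List.Perm.eq_of_pairwise (fun a b _ _ h h' => absurd h (not_lt.mpr h'.le)) hs2 hs1 ?_
  refine (List.perm_ext_iff_of_nodup (List.nodup_range.filter _) (h1.nodup List.nodup_range)).mpr fun c => ?_
  rw [← img, mem_img fun a ha => by have := frames_lt hL ha; omega]
  exact ⟨fun ⟨a, ha, h⟩ => by rwa [← h, e a ha], fun hc => ⟨c, hc, e c hc⟩⟩

/-- An element with central square fixes a frame. -/
theorem exists_fixed_frame {w : Perm (Fin 240)} (hw : w ∈ Wf) (h2 : w * w = 1 ∨ w * w = zeta) :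
    ∃ L ∈ frames, img w L = L := by
  classical
  let X := {L : List ℕ // L ∈ frames}
  haveI : Fintype X := Fintype.ofList (frames.pmap (fun L h => (⟨L, h⟩ : X)) fun _ h => h) fun x => by
    simp [List.mem_pmap]
  have hlt : ∀ x : X, ∀ a ∈ x.1, a < 240 := fun x a ha => by have := frames_lt x.2 ha; omega
  have hinv : Function.Involutive (fun x : X => (⟨img w x.1, img_mem hw x.2⟩ : X)) := fun x =>
    Subtype.ext (by show img w (img w x.1) = x.1; rw [img_mul hw (hlt x), img_pm h2 x.2])
  have hcard : ¬ 2 ∣ Fintype.card X := by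
    have e : Fintype.card X = frames.toFinset.card := by
      rw [← Finset.card_univ, ← Finset.card_map ⟨Subtype.val, Subtype.val_injective⟩]
      congr 1
      ext L
      simp [X]
    rw [e, List.toFinset_card_of_nodup frames_nodup, frames_length]
    norm_num
  haveI : Fact (Nat.Prime 2) := ⟨Nat.prime_two⟩
  obtain ⟨x, hx⟩ := Equiv.Perm.exists_fixed_point_of_prime (n := 1) hcard (σ := Function.Involutive.toPerm _ hinv)
    (by rw [pow_one, sq]; exact Equiv.ext fun y => hinv y)
  exact ⟨x.1, x.2, congrArg Subtype.val hx⟩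

/-- Every frame is carried to the standard one. -/
theorem exists_frame_word {L : List ℕ} (hL : L ∈ frames) :
    ∃ l : List ℕ, (∀ a ∈ L, ev (wP l) a ∈ Data.frameSet) ∧
      ∀ b ∈ Data.frame, ln (ev (wP l)⁻¹ b) ∈ L := by
  obtain ⟨n, h⟩ := exists_word_frame hL
  unfold wordOK at h
  simp only [Bool.and_eq_true, List.all_eq_true, List.any_eq_true, Bool.or_eq_true, beq_iff] at h
  refine ⟨wd n, fun a ha => ?_, fun b hb => ?_⟩
  · obtain ⟨c, hc, e⟩ := h.1 a ha
    rw [ev_wP _ (by have := frames_lt hL ha; omega), e]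
    exact hc
  · obtain ⟨a, ha, e⟩ := h.2 b hb
    have := frames_lt hL ha
    rw [← wP_reverse, ev_wP _ (frame_lt b hb)]
    rcases e with e | e <;> rw [e, ln]
    · rwa [min_eq_left (by omega)]
    · rwa [min_eq_right (by omega), Nat.sub_sub_self (by omega)]

end CfsgLib.O8Two
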