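/-
The symmetries of the standard frame with central square, each with a word carrying it to a representative.
-/
import Cfsg.Agent.Lib.StdO8Two.FrameChecks

set_option autoImplicit false
set_option maxRecDepth 20000

namespace CfsgLib.O8Two

/-- The opposite root, or the root itself. -/
def sg (e : Bool) (i : ℕ) : ℕ := bif e then i else 239 - i

/-- The possible images of the root `b` of the frame after the images `im` of the earlier ones. -/
def nextC (e : Bool) (b : ℕ) (im : List ℕ) : List ℕ :=
  match (Data.frame.zip im).filterMap fun p =>
    bif Nat.beq p.2 b then some (sg e p.1) else bif Nat.beq p.2 (239 - b) then some (sg (!e) p.1) else none with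
  | c :: _ => [c]
  | [] => Data.frameSet.filter fun c =>
      ((Data.frame.zip im).all fun p => !(Nat.beq c p.1) && !(Nat.beq c (239 - p.1)) && !(Nat.beq c p.2) &&
        !(Nat.beq c (239 - p.2))) && (e || (!(Nat.beq c b) && !(Nat.beq c (239 - b))))

/-- The masks of the test roots after one more image `c` of the root `b`. -/
def stepM (b c : ℕ) : List ℕ → List ℕ → List ℕ
  | h :: hs, m :: ms => force (Nat.land m (mk c (qn b h))) fun m' => m' :: stepM b c hs ms
  | _, _ => []

/-- The completions of a prefix along the rest of the frame. -/
def lvs (e : Bool) : List ℕ → List ℕ → List ℕ → List (List ℕ)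
  | [], im, _ => [im]
  | b :: bs, im, ms => (nextC e b im).flatMap fun c =>
      bif (stepM b c Data.looks ms).any (fun m => Nat.beq m 0) then []
      else lvs e bs (im ++ [c]) (stepM b c Data.looks ms)

/-- The first root of the frame. -/
def bZero : ℕ := Data.frame.getD 0 0

/-- The completions starting with a given image. -/
def lvsFrom (e : Bool) (c : ℕ) : List (List ℕ) :=
  bif (nextC e bZero []).any (Nat.beq c) && !((stepM bZero c Data.looks (List.replicate 3 full)).any (fun m => Nat.beq m 0)) then
    lvs e Data.frame.tail [c] (stepM bZero c Data.looks (List.replicate 3 full))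
  else []

/-- A packed list. -/
def pack8 (im : List ℕ) : ℕ := im.foldr (fun a n => a + 256 * n) 0

/-- The certificate lists for square one. -/
def clsP : List (List (ℕ × ℕ × ℕ)) :=
  [Data.clsPlus0, Data.clsPlus1, Data.clsPlus2, Data.clsPlus3, Data.clsPlus4, Data.clsPlus5, Data.clsPlus6,
    Data.clsPlus7, Data.clsPlus8, Data.clsPlus9, Data.clsPlus10, Data.clsPlus11, Data.clsPlus12, Data.clsPlus13,
    Data.clsPlus14, Data.clsPlus15]

/-- The certificate lists for square minus one. -/
def clsM : List (List (ℕ × ℕ × ℕ)) :=
  [Data.clsMinus0, Data.clsMinus1, Data.clsMinus2, Data.clsMinus3, Data.clsMinus4, Data.clsMinus5, Data.clsMinus6,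
    Data.clsMinus7, Data.clsMinus8, Data.clsMinus9, Data.clsMinus10, Data.clsMinus11, Data.clsMinus12,
    Data.clsMinus13, Data.clsMinus14, Data.clsMinus15]

/-- The certificate of one completion is right. -/
def certOK (im : List ℕ) (c : ℕ × ℕ × ℕ) : Bool :=
  Nat.beq (pack8 im) c.1 && Nat.blt (c.2.1 % 8) 7 && (Data.frame.zip im).all fun p =>
    Nat.beq (wF (wd c.2.2) p.2)
      (sg (Nat.blt c.2.1 8) (wF (wd (Data.repW.getD (c.2.1 % 8) 0)) (wF (wd c.2.2) p.1)))

/-- All completions from a first image are certified. -/
def fromOK (e : Bool) (cs : List (List (ℕ × ℕ × ℕ))) (i : ℕ) : Bool :=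
  Nat.beq (lvsFrom e (Data.frameSet.getD i 0)).length (cs.getD i []).length &&
    ((lvsFrom e (Data.frameSet.getD i 0)).zip (cs.getD i [])).all fun p => certOK p.1 p.2

theorem minus_ok : ((List.range 16).all (fromOK false clsM)) = true := by decide +kernel

theorem plus_ok0 : ((List.range' 0 4).all (fromOK true clsP)) = true := by decide +kernel

theorem plus_ok1 : ((List.range' 4 4).all (fromOK true clsP)) = true := by decide +kernel

theorem plus_ok2 : ((List.range' 8 4).all (fromOK true clsP)) = true := by decide +kernel

theorem plus_ok3 : ((List.range' 12 4).all (fromOK true clsP)) = true := by decide +kernel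

theorem frame_orth : (Data.frame.all fun a => Data.frame.all fun b => Nat.beq a b || orthB a b) = true ∧
    Data.frame.Nodup ∧ Data.frame.length = 8 ∧ Data.frameSet.length = 16 ∧
    (Data.looks.all fun h => Nat.blt h 240) = true := by decide +kernel

end CfsgLib.O8Two
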