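/-
Every symmetry with central square is conjugate to a representative, up to sign.
-/
import Cfsg.Agent.Lib.StdO8Two.Frames
import Cfsg.Agent.Lib.StdO8Two.Leaves

set_option autoImplicit false
set_option maxRecDepth 20000

namespace CfsgLib.O8Two

open Equiv

/-- The representatives: one, a reflection, products of two, three, four (two classes) reflections, a square root
of minus one. -/
noncomputable def repP (k : ℕ) : Perm (Fin 240) := wP (wd (Data.repW.getD k 0))

theorem repP_mem (k : ℕ) : repP k ∈ Wf := wP_mem _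

/-- The central symmetry, or one. -/
noncomputable def sgP (e : Bool) : Perm (Fin 240) := bif e then 1 else zeta

theorem sgP_mem (e : Bool) : sgP e ∈ Wf := by cases e; exacts [zeta_mem, one_mem _]

theorem ev_sgP (e : Bool) {i : ℕ} (hi : i < 240) : ev (sgP e) i = sg e i := by
  cases e
  · exact ev_zeta hi
  · exact ev_one i

theorem frameSet_mem {b : ℕ} (hb : b ∈ Data.frame) : b ∈ Data.frameSet ∧ 239 - b ∈ Data.frameSet := by
  obtain ⟨h1, h2⟩ := frameSet_ok
  simp only [List.all_eq_true, List.any_eq_true, Bool.and_eq_true, beq_iff, Nat.blt_eq] at h1 h2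
  obtain ⟨x, hx, rfl⟩ := h2 b hb
  obtain ⟨y, hy, e⟩ := (h1 b hx).2
  exact ⟨hx, e ▸ hy⟩

section
variable {w : Perm (Fin 240)} (hw : w ∈ Wf) (e : Bool) (hsq : w * w = sgP e)
  (hst : ∀ b ∈ Data.frame, ev w b ∈ Data.frameSet)

include hw hsq in
theorem ev_sq {b : ℕ} (hb : b < 240) : ev w (ev w b) = sg e b := by
  rw [← ev_mul, hsq, ev_sgP e hb]

theorem sg_sg (e : Bool) {i : ℕ} (hi : i < 240) : sg e (239 - i) = sg (!e) i ∧ sg (!e) i = 239 - sg e i := by
  cases e <;> simp [sg] <;> omega

include hw hsq hst in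
theorem nextC_mem {pre rest : List ℕ} {b : ℕ} (hf : Data.frame = pre ++ b :: rest) :
    ev w b ∈ nextC e b (pre.map (ev w)) := by
  have hb : b ∈ Data.frame := by rw [hf]; simp
  have hb' := frame_lt b hb
  have hz : Data.frame.zip (pre.map (ev w)) = pre.map fun a => (a, ev w a) := by
    rw [hf, ← List.append_nil (pre.map (ev w)), List.zip_append (by simp), List.zip_nil_right, List.append_nil,
      List.zip_map_right, List.zip_eq_zipWith, List.zipWith_self, List.map_map]
    rfl
  have hlt : ∀ a ∈ pre, a < 240 := fun a ha => frame_lt a (by rw [hf]; simp [ha])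
  have hne : ∀ a ∈ pre, a ≠ b ∧ a ≠ 239 - b := fun a ha => by
    have hnd := frame_orth.2.1
    rw [hf, List.nodup_append] at hnd
    have h1 : a ≠ b := hnd.2.2 a ha b (by simp)
    refine ⟨h1, fun e' => ?_⟩
    have h2 := List.all_eq_true.mp frame_orth.1 a (by rw [hf]; simp [ha])
    have h3 := List.all_eq_true.mp h2 b hb
    rw [Bool.or_eq_true, beq_iff, orthB_iff] at h3
    have h4 := qn_neg hb' hb'
    rw [qn_self hb', ← e'] at h4
    rcases h3 with h3 | h3
    · exact h1 h3
    · omega
  have hnegz : ∀ a, a < 240 → ev w (239 - a) = 239 - ev w a := fun a ha => ev_neg hw ha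
  have hinj : ∀ a c, a < 240 → c < 240 → ev w a = ev w c → a = c := fun a c ha hc h => by
    rw [ev, ev, dif_pos ha, dif_pos hc] at h
    exact congrArg Fin.val (w.injective (Fin.ext h))
  unfold nextC
  rw [hz]
  split
  · rename_i c l hc
    have hm : c ∈ (pre.map fun a => (a, ev w a)).filterMap fun p =>
        bif Nat.beq p.2 b then some (sg e p.1) else bif Nat.beq p.2 (239 - b) then some (sg (!e) p.1) else none := by
      rw [hc]; simp
    obtain ⟨p, hp, hval⟩ := List.mem_filterMap.mp hm
    obtain ⟨a, ha, rfl⟩ := List.mem_map.mp hp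
    have ha' := hlt a ha
    simp only [List.mem_singleton]
    cases h1 : Nat.beq (ev w a) b
    · cases h2 : Nat.beq (ev w a) (239 - b)
      · simp [h1, h2] at hval
      · simp only [h1, h2, cond_false, cond_true, Option.some.injEq] at hval
        have e2 := Nat.eq_of_beq_eq_true h2
        have : b = ev w (239 - a) := by rw [hnegz a ha']; omega
        rw [← hval, this, ev_sq hw e hsq (by omega), (sg_sg e ha').1]
    · simp only [h1, cond_true, Option.some.injEq] at hval
      have e1 := Nat.eq_of_beq_eq_true h1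
      rw [← hval, ← e1, ev_sq hw e hsq ha']
  · rename_i hc
    refine List.mem_filter.mpr ⟨hst b hb, ?_⟩
    rw [Bool.and_eq_true, List.all_eq_true]
    refine ⟨fun p hp => ?_, ?_⟩
    · obtain ⟨a, ha, rfl⟩ := List.mem_map.mp hp
      have ha' := hlt a ha
      have hnone := List.filterMap_eq_nil_iff.mp hc _ hp
      simp only [Bool.and_eq_true, Bool.not_eq_true', ← Bool.not_eq_true, beq_iff]
      refine ⟨⟨⟨fun e1 => ?_, fun e1 => ?_⟩, fun e1 => (hne a ha).1 (hinj _ _ ha' hb' e1.symm)⟩, fun e1 => ?_⟩
      · have h := ev_sq hw e hsq hb'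
        rw [e1] at h
        cases e
        · simp [h, sg, Nat.beq_refl] at hnone
          cases hx : Nat.beq (239 - b) b <;> simp [hx] at hnone
        · simp [h, sg, Nat.beq_refl] at hnone
      · have h := ev_sq hw e hsq hb'
        rw [e1, hnegz a ha'] at h
        have hev := ev_lt w ha'
        cases e
        · have h' : ev w a = b := by simp [sg] at h; omega
          simp [h', Nat.beq_refl] at hnone
        · have h' : ev w a = 239 - b := by simp [sg] at h; omega
          simp [h', Nat.beq_refl] at hnone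
          cases hx : Nat.beq (239 - b) b <;> simp [hx] at hnone
      · exact (hne a ha).2 (hinj _ _ ha' (by omega) (by rw [hnegz b hb']; have := ev_lt w ha'; omega))
    · cases e
      · simp only [Bool.false_or, Bool.and_eq_true, Bool.not_eq_true', ← Bool.not_eq_true, beq_iff]
        refine ⟨fun e1 => ?_, fun e1 => ?_⟩
        · have h := ev_sq hw false hsq hb'
          rw [e1, e1] at h
          simp [sg] at h
          omega
        · have h := ev_sq hw false hsq hb'
          rw [e1, hnegz b hb', e1] at h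
          simp [sg] at h
          omega
      · rfl

include hw in
theorem step_bit {b : ℕ} (hb : b < 240) : ∀ (hs ms : List ℕ), (∀ h ∈ hs, h < 240) →
    List.Forall₂ (fun h m => Nat.testBit m (ev w h) = true) hs ms →
      List.Forall₂ (fun h m => Nat.testBit m (ev w h) = true) hs (stepM b (ev w b) hs ms) := by
  intro hs
  induction hs with
  | nil => intro ms _ h; cases h; exact List.Forall₂.nil
  | cons x hs ih =>
    intro ms hlt h
    cases h with
    | cons h1 h2 =>
      rw [stepM, force_eq]
      refine List.Forall₂.cons ?_ (ih _ (fun y hy => hlt y (by simp [hy])) h2)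
      show Nat.testBit (_ &&& _) _ = true
      rw [Nat.testBit_and, h1, Bool.true_and]
      have hx := hlt x (by simp)
      exact (mk_bit (i := ⟨ev w b, ev_lt w hb⟩) (Nat.lt_succ_of_le (pair_spec ⟨b, hb⟩ ⟨x, hx⟩).2.1)).mpr
        ⟨ev_lt w hx, qn_ev hw hb hx⟩

theorem not_any_zero {hs ms : List ℕ} (h : List.Forall₂ (fun h m => Nat.testBit m (ev w h) = true) hs ms) :
    ms.any (fun m => Nat.beq m 0) = false := by
  induction h with
  | nil => rfl
  | cons h1 _ ih =>
    rw [List.any_cons, ih, Bool.or_false, ← Bool.not_eq_true, beq_iff]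
    rintro rfl
    simp at h1

include hw hsq hst in
theorem lvs_mem : ∀ (rest pre ms : List ℕ), Data.frame = pre ++ rest →
    List.Forall₂ (fun h m => Nat.testBit m (ev w h) = true) Data.looks ms →
      Data.frame.map (ev w) ∈ lvs e rest (pre.map (ev w)) ms := by
  intro rest
  induction rest with
  | nil => intro pre ms hf _; simp [lvs, hf]
  | cons b rest ih =>
    intro pre ms hf hms
    have hb : b < 240 := frame_lt b (by rw [hf]; simp)
    have hl : ∀ h ∈ Data.looks, h < 240 := by simpa [List.all_eq_true, Nat.blt_eq] using frame_orth.2.2.2.2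
    rw [lvs, List.mem_flatMap]
    refine ⟨ev w b, nextC_mem hw e hsq hst hf, ?_⟩
    rw [not_any_zero (step_bit hw hb _ _ hl hms), cond_false, show pre.map (ev w) ++ [ev w b] = (pre ++ [b]).map (ev w) by simp]
    exact ih _ _ (by rw [hf]; simp) (step_bit hw hb _ _ hl hms)

include hw hsq hst in
theorem lvsFrom_mem : Data.frame.map (ev w) ∈ lvsFrom e (ev w bZero) := by
  have hf : Data.frame = [] ++ bZero :: Data.frame.tail := rfl
  have hb : bZero < 240 := frame_lt _ (by rw [hf]; simp)
  have hl : ∀ h ∈ Data.looks, h < 240 := by simpa [List.all_eq_true, Nat.blt_eq] using frame_orth.2.2.2.2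
  have hm : List.Forall₂ (fun h m => Nat.testBit m (ev w h) = true) Data.looks (List.replicate 3 full) := by
    have : ∀ h ∈ Data.looks, Nat.testBit full (ev w h) = true := fun h hh => by
      rw [full, Nat.testBit_two_pow_sub_one, decide_eq_true_eq]
      exact ev_lt w (hl h hh)
    simp only [Data.looks, List.mem_cons, List.not_mem_nil, or_false, forall_eq_or_imp, forall_eq] at this
    exact List.Forall₂.cons this.1 (List.Forall₂.cons this.2.1 (List.Forall₂.cons this.2.2 List.Forall₂.nil))
  have h1 : (nextC e bZero []).any (Nat.beq (ev w bZero)) = true :=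
    List.any_eq_true.mpr ⟨_, nextC_mem hw e hsq hst hf, Nat.beq_refl _⟩
  rw [lvsFrom, h1, not_any_zero (step_bit hw hb _ _ hl hm), Bool.not_false, Bool.and_true, cond_true]
  exact lvs_mem hw e hsq hst _ [bZero] _ rfl (step_bit hw hb _ _ hl hm)

include hw hsq hst in
theorem classify_stab : ∃ v ∈ Wf, ∃ k < 7, ∃ s : Bool, v * w * v⁻¹ = sgP s * repP k := by
  have hc := hst bZero (by simp [bZero, Data.frame])
  obtain ⟨i, hi, hget⟩ := List.getElem_of_mem hc
  have hi16 : i < 16 := frame_orth.2.2.2.1 ▸ hi
  have hall : ∃ cs, fromOK e cs i = true := by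
    cases e
    · exact ⟨_, List.all_eq_true.mp minus_ok i (List.mem_range.mpr hi16)⟩
    · refine ⟨clsP, ?_⟩
      by_cases a : i < 4
      · exact List.all_eq_true.mp plus_ok0 i (List.mem_range'_1.mpr ⟨Nat.zero_le _, a⟩)
      by_cases b : i < 8
      · exact List.all_eq_true.mp plus_ok1 i (List.mem_range'_1.mpr ⟨by omega, by omega⟩)
      by_cases c : i < 12
      · exact List.all_eq_true.mp plus_ok2 i (List.mem_range'_1.mpr ⟨by omega, by omega⟩)
      exact List.all_eq_true.mp plus_ok3 i (List.mem_range'_1.mpr ⟨by omega, by omega⟩)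
  obtain ⟨cs, hcs⟩ := hall
  rw [fromOK, Bool.and_eq_true, List.getD_eq_getElem _ _ hi, hget, beq_iff] at hcs
  obtain ⟨j, hj, hje⟩ := List.getElem_of_mem (lvsFrom_mem hw e hsq hst)
  have hj' : j < (cs.getD i []).length := hcs.1 ▸ hj
  have hmem : (Data.frame.map (ev w), (cs.getD i [])[j]) ∈ (lvsFrom e (ev w bZero)).zip (cs.getD i []) :=
    List.mem_iff_getElem.mpr ⟨j, by rw [List.length_zip]; exact lt_min hj hj', by simp [hje]⟩
  have hcert := List.all_eq_true.mp hcs.2 _ hmem
  set c := (cs.getD i [])[j]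
  simp only [certOK, Bool.and_eq_true, List.all_eq_true, Nat.blt_eq, beq_iff] at hcert
  obtain ⟨⟨-, hk⟩, hp⟩ := hcert
  refine ⟨wP (wd c.2.2), wP_mem _, c.2.1 % 8, hk, Nat.blt c.2.1 8, mul_inv_eq_iff_eq_mul.mpr ?_⟩
  refine ext_base frame_sep (mul_mem (wP_mem _) hw) (mul_mem (mul_mem (sgP_mem _) (repP_mem _)) (wP_mem _)) ?_
  intro b hb
  have hb' := frame_lt b hb
  have h := hp (b, ev w b) (by
    rw [List.zip_map_right, List.zip_eq_zipWith, List.zipWith_self, List.map_map]
    exact List.mem_map.mpr ⟨b, hb, rfl⟩)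
  simp only at h
  have e1 : wF (wd c.2.2) b < 240 := by rw [← ev_wP _ hb']; exact ev_lt _ hb'
  have e2 : ev (repP (c.2.1 % 8)) (wF (wd c.2.2) b) < 240 := ev_lt _ e1
  rw [ev_mul, ev_mul, ev_mul, ev_wP _ (ev_lt w hb'), ev_wP _ hb', ev_sgP _ e2, h, repP, ev_wP _ e1]

end

/-- A symmetry with central square is conjugate to a representative, up to sign. -/
theorem classify {w : Perm (Fin 240)} (hw : w ∈ Wf) (h2 : w * w = 1 ∨ w * w = zeta) :
    ∃ v ∈ Wf, ∃ k < 7, ∃ s : Bool, v * w * v⁻¹ = sgP s * repP k := by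
  obtain ⟨L, hL, hfix⟩ := exists_fixed_frame hw h2
  obtain ⟨l, hin, hout⟩ := exists_frame_word hL
  set u := wP l
  have hu : u ∈ Wf := wP_mem l
  obtain ⟨e, he⟩ : ∃ e : Bool, w * w = sgP e := h2.elim (fun h => ⟨true, h⟩) fun h => ⟨false, h⟩
  have hsq : u * w * u⁻¹ * (u * w * u⁻¹) = sgP e := by
    rw [show u * w * u⁻¹ * (u * w * u⁻¹) = u * (w * w) * u⁻¹ by group, he]
    cases e
    · rw [show sgP false = zeta from rfl, ← zeta_comm hu, mul_inv_cancel_right]
    · simp [sgP]
  have hneg : ∀ x, x < 240 → x ∈ Data.frameSet → 239 - x ∈ Data.frameSet := fun x _ hx => by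
    have h1 := frameSet_ok.1
    simp only [List.all_eq_true, List.any_eq_true, Bool.and_eq_true, beq_iff, Nat.blt_eq] at h1
    obtain ⟨y, hy, e⟩ := (h1 x hx).2
    exact e ▸ hy
  have key : ∀ x, x < 240 → ln x ∈ L → ev u x ∈ Data.frameSet := fun x hx hl => by
    rcases min_choice x (239 - x) with e | e
    · exact hin x (by rwa [ln, e] at hl)
    · rw [ln, e] at hl
      have := hneg _ (ev_lt u (by omega)) (hin _ hl)
      rwa [ev_neg hu hx, Nat.sub_sub_self (by have := ev_lt u hx; omega)] at this
  obtain ⟨v, hv, k, hk, s, hs⟩ := classify_stab (mul_mem (mul_mem hu hw) (inv_mem hu)) e hsq fun b hb => by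
    have hb' := frame_lt b hb
    have hx := ev_lt (u⁻¹) hb'
    rw [ev_mul, ev_mul]
    refine key _ (ev_lt w hx) ?_
    have hl : ∀ a ∈ L, a < 240 := fun a ha => by have := frames_lt hL ha; omega
    rw [← hfix, mem_img hl]
    exact ⟨_, hout b hb, ln_ev_ln hw hx⟩
  exact ⟨v * u, mul_mem hv hu, k, hk, s, by rw [← hs]; group⟩

end CfsgLib.O8Two
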