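/-
The types of the symmetries with central square.
-/
import Cfsg.Agent.Lib.StdO8Two.Classify

set_option autoImplicit false
set_option maxRecDepth 20000

namespace CfsgLib.O8Two

open Equiv

/-- `w` is conjugate to the representative `k`: 1 a reflection, 2 and 3 products of two and three orthogonal
reflections, 4 and 5 the two products of four, 6 a square root of minus one. -/
def Ty (k : ℕ) (w : Perm (Fin 240)) : Prop := ∃ v ∈ Wf, v * w * v⁻¹ = repP k

/-- The numbers of fixed and negated roots of the representatives. -/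
def repSig : List (ℕ × ℕ) := [(240, 0), (126, 2), (60, 4), (26, 6), (24, 24), (8, 8), (0, 0)]

/-- Words turning three representatives into their opposites. -/
def negW : List ℕ := [115824228719622, 1661557766, 117776868577626]

theorem reps_ok : ((List.range 7).all fun k =>
    Nat.beq (sF (wF (wd (Data.repW.getD k 0)))).1 (repSig.getD k (0, 0)).1 &&
      Nat.beq (sF (wF (wd (Data.repW.getD k 0)))).2 (repSig.getD k (0, 0)).2 &&
      (wd (Data.repW.getD k 0)).all (fun a => Nat.blt a 240)) = true ∧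
    ([1, 2, 3, 4, 5].all fun k => Data.frame.all fun b =>
      Nat.beq (rnW 0 (wF (wd (Data.repW.getD k 0)) b)) (wF (wd (Data.repW.getD k 0)) (rnW 0 b))) = true ∧
    ([4, 5, 6].all fun k => (wd (negW.getD (k - 4) 0)).all (fun a => Nat.blt a 240) &&
      Data.frame.all fun b => Nat.beq (wF (wd (negW.getD (k - 4) 0)) (239 - wF (wd (Data.repW.getD k 0)) b))
        (wF (wd (Data.repW.getD k 0)) (wF (wd (negW.getD (k - 4) 0)) b))) = true := by decide +kernel

theorem sig_repP {k : ℕ} (hk : k < 7) : sig (repP k) = repSig.getD k (0, 0) := by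
  have h := List.all_eq_true.mp reps_ok.1 k (List.mem_range.mpr hk)
  rw [Bool.and_eq_true, Bool.and_eq_true, beq_iff, beq_iff] at h
  rw [repP, sig_wP]
  exact Prod.ext h.1.1 h.1.2

theorem repP_zero : repP 0 = 1 := by
  have : wd (Data.repW.getD 0 0) = [] := rfl
  rw [repP, this]
  simp [wP]

theorem sig_one : sig (1 : Perm (Fin 240)) = (240, 0) := by
  rw [← repP_zero]; exact sig_repP (by norm_num)

theorem ty_sig {k : ℕ} {w : Perm (Fin 240)} (hk : k < 7) (h : Ty k w) : sig w = repSig.getD k (0, 0) := by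
  obtain ⟨v, hv, e⟩ := h
  rw [← sig_conj (g := w) hv, e, sig_repP hk]

theorem ty_conj {k : ℕ} {w u : Perm (Fin 240)} (hu : u ∈ Wf) (h : Ty k w) : Ty k (u * w * u⁻¹) := by
  obtain ⟨v, hv, e⟩ := h
  exact ⟨v * u⁻¹, mul_mem hv (inv_mem hu), by rw [← e]; group⟩

theorem ty_mem {k : ℕ} {w : Perm (Fin 240)} (h : Ty k w) : w ∈ Wf := by
  obtain ⟨v, hv, e⟩ := h
  have : w = v⁻¹ * repP k * v := by rw [← e]; group
  rw [this]
  exact mul_mem (mul_mem (inv_mem hv) (repP_mem k)) hv

theorem neg_rep {k : ℕ} (hk : k ∈ [4, 5, 6]) :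
    wP (wd (negW.getD (k - 4) 0)) * (zeta * repP k) * (wP (wd (negW.getD (k - 4) 0)))⁻¹ = repP k := by
  have h := List.all_eq_true.mp reps_ok.2.2 k hk
  rw [Bool.and_eq_true, List.all_eq_true, List.all_eq_true] at h
  rw [mul_inv_eq_iff_eq_mul]
  refine ext_base frame_sep (mul_mem (wP_mem _) (mul_mem zeta_mem (repP_mem _)))
    (mul_mem (repP_mem _) (wP_mem _)) fun b hb => ?_
  have hb' := frame_lt b hb
  have e := Nat.eq_of_beq_eq_true (h.2 b hb)
  have h1 : ev (repP k) b < 240 := ev_lt _ hb'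
  rw [ev_mul, ev_mul, ev_mul, ev_zeta h1, ev_wP _ (show 239 - ev (repP k) b < 240 by omega), repP, ev_wP _ hb',
    ev_wP _ hb', ev_wP _ (by rw [← ev_wP _ hb']; exact ev_lt _ hb'), e]

theorem ty_zeta {k : ℕ} (hk : k ∈ [4, 5, 6]) {w : Perm (Fin 240)} (h : Ty k w) : Ty k (zeta * w) := by
  obtain ⟨v, hv, e⟩ := h
  set n := wP (wd (negW.getD (k - 4) 0))
  refine ⟨n * v, mul_mem (wP_mem _) hv, ?_⟩
  rw [mul_inv_rev, show n * v * (zeta * w) * (v⁻¹ * n⁻¹) = n * (v * zeta * w * v⁻¹) * n⁻¹ by group,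
    ← zeta_comm hv, show zeta * v * w * v⁻¹ = zeta * (v * w * v⁻¹) by group, e]
  exact neg_rep hk

theorem sign_rep {k : ℕ} (hk : k < 7) : Perm.sign (repP k) = (-1) ^ (wd (Data.repW.getD k 0)).length := by
  have h := List.all_eq_true.mp reps_ok.1 k (List.mem_range.mpr hk)
  rw [Bool.and_eq_true, List.all_eq_true] at h
  exact sign_wP fun a ha => by simpa [Nat.blt_eq] using h.2 a ha

theorem sign_table : ((List.range 7).all fun k =>
    Nat.beq ((wd (Data.repW.getD k 0)).length % 2) (bif Nat.beq k 1 || Nat.beq k 3 then 1 else 0)) = true := by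
  decide +kernel

theorem ty_sign {k : ℕ} (hk : k < 7) {w : Perm (Fin 240)} (h : Ty k w) :
    Perm.sign w = if k = 1 ∨ k = 3 then -1 else 1 := by
  obtain ⟨v, -, e⟩ := h
  have h1 : Perm.sign (repP k) = Perm.sign w := by
    rw [← e, map_mul, map_mul, map_inv, mul_comm (Perm.sign v), mul_inv_cancel_right]
  have h2 := Nat.eq_of_beq_eq_true (List.all_eq_true.mp sign_table k (List.mem_range.mpr hk))
  rw [← h1, sign_rep hk]
  by_cases hc : k = 1 ∨ k = 3
  · rw [if_pos hc]
    refine (Nat.odd_iff.mpr ?_).neg_one_pow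
    rcases hc with rfl | rfl <;> simpa [Nat.beq] using h2
  · rw [if_neg hc]
    refine (Nat.even_iff.mpr ?_).neg_one_pow
    have : (Nat.beq k 1 || Nat.beq k 3) = false := by
      rw [← Bool.not_eq_true, Bool.or_eq_true, beq_iff, beq_iff]; exact hc
    simpa [this] using h2

/-- Representatives with a commuting reflection: conjugacy under all symmetries is conjugacy under the even
ones. -/
theorem ty_W0 {k : ℕ} (hk : k ∈ [1, 2, 3, 4, 5]) {w u : Perm (Fin 240)} (hw : Ty k w) (hu : Ty k u) :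
    ∃ g ∈ W0, g * w * g⁻¹ = u := by
  obtain ⟨v, hv, e⟩ := hw
  obtain ⟨x, hx, e'⟩ := hu
  have hc : rP 0 * repP k = repP k * rP 0 := by
    refine ext_base frame_sep (mul_mem (rP_mem 0) (repP_mem k)) (mul_mem (repP_mem k) (rP_mem 0)) fun b hb => ?_
    have hb' := frame_lt b hb
    have h := Nat.eq_of_beq_eq_true (List.all_eq_true.mp (List.all_eq_true.mp reps_ok.2.1 k hk) b hb)
    have hr : rP 0 = rPn 0 := by simp [rPn]
    have h1 : rnW 0 b < 240 := by rw [← ev_rPn 0 hb']; exact ev_lt _ hb'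
    rw [ev_mul, ev_mul, hr, repP, ev_wP _ hb', ev_rPn 0 hb', ev_wP _ h1,
      ev_rPn 0 (by rw [← ev_wP _ hb']; exact ev_lt _ hb'), h]
  have hstep : ∀ t, t * repP k * t⁻¹ = repP k → (x⁻¹ * t * v) * w * (x⁻¹ * t * v)⁻¹ = u := fun t ht => by
    rw [show x⁻¹ * t * v * w * (x⁻¹ * t * v)⁻¹ = x⁻¹ * (t * (v * w * v⁻¹) * t⁻¹) * x by group, e, ht, ← e']
    group
  rcases Int.units_eq_one_or (Perm.sign (x⁻¹ * v)) with h | h
  · refine ⟨x⁻¹ * 1 * v, mem_W0.mpr ⟨by rw [mul_one]; exact mul_mem (inv_mem hx) hv, by rwa [mul_one]⟩,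
      hstep 1 (by simp)⟩
  · refine ⟨x⁻¹ * rP 0 * v, mem_W0.mpr ⟨mul_mem (mul_mem (inv_mem hx) (rP_mem 0)) hv, ?_⟩,
      hstep _ (by rw [hc, mul_inv_cancel_right])⟩
    rw [map_mul, map_mul, sign_rP]
    rw [map_mul] at h
    rw [mul_comm (Perm.sign x⁻¹) (-1), mul_assoc, h]
    simp

/-- The symmetries with central square: six types and three of opposite sign. -/
theorem cases_sq {w : Perm (Fin 240)} (hw : w ∈ Wf) (h2 : w * w = 1 ∨ w * w = zeta) :
    w = 1 ∨ w = zeta ∨ Ty 1 w ∨ Ty 2 w ∨ Ty 3 w ∨ Ty 4 w ∨ Ty 5 w ∨ Ty 6 w ∨ Ty 1 (zeta * w) ∨ Ty 2 (zeta * w) ∨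
      Ty 3 (zeta * w) := by
  obtain ⟨v, hv, k, hk, s, e⟩ := classify hw h2
  cases s
  · have e' : Ty k (zeta * w) := ⟨v, hv, by
      rw [show v * (zeta * w) * v⁻¹ = v * zeta * (w * v⁻¹) by group, ← zeta_comm hv,
        show zeta * v * (w * v⁻¹) = zeta * (v * w * v⁻¹) by group, e,
        show sgP false = zeta from rfl, ← mul_assoc, zeta_sq, one_mul]⟩
    have hz : ∀ j ∈ [4, 5, 6], Ty j (zeta * w) → Ty j w := fun j hj h => by
      have := ty_zeta hj h
      rwa [← mul_assoc, zeta_sq, one_mul] at this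
    interval_cases k
    · obtain ⟨v', hv', e0⟩ := e'
      rw [repP_zero, conj_eq_one_iff] at e0
      exact Or.inr (Or.inl (by rw [eq_inv_of_mul_eq_one_right e0, inv_eq_of_mul_eq_one_right zeta_sq]))
    all_goals first
      | simp only [e', true_or, or_true]
      | simp only [hz _ (by simp) e', true_or, or_true]
  · have e' : Ty k w := ⟨v, hv, by rw [e]; exact one_mul _⟩
    interval_cases k
    · obtain ⟨v', hv', e0⟩ := e'
      rw [repP_zero, conj_eq_one_iff] at e0
      exact Or.inl e0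
    all_goals simp only [e', true_or, or_true]

end CfsgLib.O8Two
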