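/-
What commutes with elements of order five and three.
-/
import Cfsg.Agent.Lib.StdO8Two.Cent
import Cfsg.Agent.Lib.StdO8Two.Five
import Cfsg.Agent.Lib.StdO8Two.Types

set_option autoImplicit false
set_option maxRecDepth 20000

namespace CfsgLib.O8Two

open Equiv

theorem bitsAux_mem : ∀ (k off m i : ℕ), i < 2 ^ k → Nat.testBit m i = true → off + i ∈ bitsAux k off m := by
  intro k
  induction k with
  | zero =>
    intro off m i hi h
    have : i = 0 := by simpa using hi
    subst this
    have : Nat.beq m 0 = false := by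
      rw [← Bool.not_eq_true, beq_iff]; rintro rfl; simp at h
    simp [bitsAux, this]
  | succ k ih =>
    intro off m i hi h
    have hm : Nat.beq m 0 = false := by
      rw [← Bool.not_eq_true, beq_iff]; rintro rfl; simp at h
    rw [bitsAux, hm, cond_false, force_eq, force_eq, List.mem_append]
    by_cases hlo : i < 2 ^ k
    · exact Or.inl (ih off _ i hlo (by rw [Nat.testBit_mod_two_pow, h, decide_eq_true hlo]; rfl))
    · refine Or.inr ?_
      have := ih (off + 2 ^ k) (m >>> 2 ^ k) (i - 2 ^ k) (by rw [pow_succ] at hi; omega)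
        (by rw [Nat.testBit_shiftRight, show 2 ^ k + (i - 2 ^ k) = i by omega, h])
      rwa [show off + 2 ^ k + (i - 2 ^ k) = off + i by omega] at this

theorem cvs_mem {d : List ℕ} {g : Perm (Fin 240)} (hg : g ∈ Wf) (hd : g * wP d = wP d * g) :
    ∀ (rest : List (ℕ × ℕ × ℕ)) (pre : List ℕ), (∀ b ∈ pre, b < 240) →
      (∀ j (hj : j < rest.length), (rest[j]).1 < 240 ∧ Nat.testBit (rest[j]).2.2 (ev g (rest[j]).1) = true ∧
        ((rest[j]).2.1 = 0 ∨ (rest[j]).2.1 ≤ pre.length + j ∧
          (rest[j]).1 = wF d ((pre ++ rest.map Prod.fst).getD ((rest[j]).2.1 - 1) 0))) →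
      (pre ++ rest.map Prod.fst).map (ev g) ∈ cvs d rest pre (pre.map (ev g)) := by
  intro rest
  induction rest with
  | nil => intro pre _ _; simp [cvs]
  | cons x rest ih =>
    obtain ⟨b, l, dom⟩ := x
    intro pre hp hall
    obtain ⟨hb, hdom, hl⟩ := hall 0 (by simp)
    simp only [List.getElem_cons_zero] at hb hdom hl
    have him : ∀ c ∈ pre.map (ev g), c < 240 := fun c hc => by
      obtain ⟨a, ha, rfl⟩ := List.mem_map.mp hc; exact ev_lt g (hp a ha)
    have hm : Nat.testBit (Nat.land dom (key pre (pre.map (ev g)) b)) (ev g b) = true := by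
      show Nat.testBit (dom &&& _) _ = true
      rw [Nat.testBit_and, hdom, Bool.true_and, key_bit pre _ hp him ⟨b, hb⟩]
      refine ⟨ev_lt g hb, fun p hp' => ?_⟩
      rw [List.zip_map_right, List.zip_eq_zipWith, List.zipWith_self, List.map_map] at hp'
      obtain ⟨a, ha, rfl⟩ := List.mem_map.mp hp'
      exact qn_ev hg (hp a ha) hb
    have hmem : ev g b ∈ cands d pre (pre.map (ev g)) b l dom := by
      rw [cands, force_eq]
      rcases hl with rfl | ⟨hle, hbe⟩
      · have := bitsAux_mem 8 0 _ (ev g b) (lt_trans (ev_lt g hb) (by norm_num)) hm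
        simpa [Nat.beq] using this
      · by_cases h0 : l = 0
        · subst h0
          have := bitsAux_mem 8 0 _ (ev g b) (lt_trans (ev_lt g hb) (by norm_num)) hm
          simpa [Nat.beq] using this
        · have hl1 : l - 1 < pre.length := by omega
          rw [List.getD_eq_getElem _ _ (by simp; omega), List.getElem_append_left hl1] at hbe
          have hb0 : pre[l - 1] < 240 := hp _ (List.getElem_mem hl1)
          have himg : wF d ((pre.map (ev g)).getD (l - 1) 0) = ev g b := by
            rw [List.getD_eq_getElem _ _ (by simpa using hl1), List.getElem_map, hbe,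
              ← ev_wP d (ev_lt g hb0), ← ev_wP d hb0, ← ev_mul, ← ev_mul, hd]
          have : Nat.beq l 0 = false := by rw [← Bool.not_eq_true, beq_iff]; exact h0
          rw [this, himg, hm]
          simp
    rw [cvs, List.mem_flatMap]
    refine ⟨ev g b, hmem, ?_⟩
    have h' := ih (pre ++ [b]) (fun a ha => by
      rcases List.mem_append.mp ha with ha | ha
      exacts [hp a ha, by rw [List.mem_singleton] at ha; omega]) fun j hj => by
        obtain ⟨h1, h2, h3⟩ := hall (j + 1) (by simp; omega)
        simp only [List.getElem_cons_succ] at h1 h2 h3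
        refine ⟨h1, h2, h3.imp id fun h => ⟨by simp; omega, ?_⟩⟩
        simpa [List.append_assoc] using h.2
    simpa [List.append_assoc] using h'

theorem place_spec {d : List ℕ} {pl : List (ℕ × ℕ × ℕ)} {st : Bool} (h : placeOK d pl st = true) {g : Perm (Fin 240)}
    (hg : g ∈ Wf) (hd : g * wP d = wP d * g) (hlen : pl.length = 8) (hlt : ∀ p ∈ pl, p.1 < 240)
    (hfull : st = false → ∀ p ∈ pl, p.2.2 = full) :
    (pl.map Prod.fst).map (ev g) ∈ cvs d pl [] [] := by
  refine cvs_mem hg hd pl [] (by simp) fun j hj => ?_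
  have hj8 : j < 8 := hlen ▸ hj
  have h' := List.all_eq_true.mp h j (List.mem_range.mpr hj8)
  rw [List.getD_eq_getElem _ _ hj] at h'
  simp only [Bool.and_eq_true, Bool.or_eq_true, Nat.blt_eq, beq_iff, Bool.not_eq_true'] at h'
  obtain ⟨⟨h1, h2⟩, h3⟩ := h'
  have hb := hlt _ (List.getElem_mem hj)
  refine ⟨hb, ?_, h2.imp id fun e => ⟨by simp; omega, ?_⟩⟩
  · cases st
    · rw [hfull rfl _ (List.getElem_mem hj), full, Nat.testBit_two_pow_sub_one, decide_eq_true_eq]
      exact ev_lt g hb
    · have h4 := List.all_eq_true.mp (h3.resolve_left (by simp)) (ev g pl[j].1) (List.mem_range.mpr (ev_lt g hb))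
      rw [Bool.or_eq_true] at h4
      refine h4.resolve_left ?_
      rw [Bool.not_eq_true', ← Bool.not_eq_true, not_not, beq_iff]
      have e : wF d (ev g pl[j].1) = ev g (wF d pl[j].1) := by
        rw [← ev_wP d hb, ← ev_mul, hd, ev_mul, ev_wP d (ev_lt g hb)]
      rw [e, qn_ev hg hb (by rw [← ev_wP d hb]; exact ev_lt _ hb)]
  · rw [e, List.nil_append]
    by_cases hl : pl[j].2.1 = 0
    · have : pl[j].2.1 - 1 = 0 := by omega
      rw [this, List.getD_eq_getElem _ _ (by omega : 0 < pl.length), List.getD_eq_getElem _ _ (by simp; omega)]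
      simp
    · rw [List.getD_eq_getElem _ _ (by omega : pl[j].2.1 - 1 < pl.length),
        List.getD_eq_getElem _ _ (by simp; omega)]
      simp

theorem one_mem_list {g : Perm (Fin 240)} (hg : g ∈ Wf) (hd : g * dOne = dOne * g) :
    Data.baseOne.map (ev g) ∈ cvs (wd Data.dOneW) plOne [] [] := by
  have h : plOne.map Prod.fst = Data.baseOne := rfl
  have hl : ∀ b ∈ Data.baseOne, b < 240 := sep_lt bases_ok.1
  rw [← h]
  refine place_spec places_ok'.1 hg hd rfl (fun p hp => hl p.1 (h ▸ List.mem_map_of_mem hp)) fun _ p hp => ?_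
  simp only [plOne, places3, Data.baseOne, Data.linkOne, List.replicate, List.zip_cons_cons, List.zip_nil_right,
    List.mem_cons, List.not_mem_nil, or_false] at hp
  rcases hp with rfl | rfl | rfl | rfl | rfl | rfl | rfl | rfl <;> rfl

theorem two_mem_list {g : Perm (Fin 240)} (hg : g ∈ Wf) (hd : g * dTwo = dTwo * g) :
    Data.baseTwo.map (ev g) ∈ cvs (wd Data.dTwoW) plTwo [] [] := by
  have h : plTwo.map Prod.fst = Data.baseTwo := rfl
  have hl : ∀ b ∈ Data.baseTwo, b < 240 := sep_lt bases_ok.2.1
  rw [← h]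
  refine place_spec places_ok'.2.1 hg hd rfl (fun p hp => hl p.1 (h ▸ List.mem_map_of_mem hp)) fun _ p hp => ?_
  simp only [plTwo, places3, Data.baseTwo, Data.linkTwo, List.replicate, List.zip_cons_cons, List.zip_nil_right,
    List.mem_cons, List.not_mem_nil, or_false] at hp
  rcases hp with rfl | rfl | rfl | rfl | rfl | rfl | rfl | rfl <;> rfl

theorem zip_map_self (bs : List ℕ) (f : ℕ → ℕ) : bs.zip (bs.map f) = bs.map fun b => (b, f b) := by
  rw [List.zip_map_right, List.zip_eq_zipWith, List.zipWith_self, List.map_map]; rfl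

theorem sqIs_eq {bs : List ℕ} (hs : sepOK bs = true) {g : Perm (Fin 240)} (hg : g ∈ Wf) (f : ℕ → ℕ)
    (h : ∀ b ∈ bs, ev g (ev g b) = f b) : sqIs bs (bs.map (ev g)) f = true := by
  rw [sqIs, zip_map_self, List.all_eq_true]
  intro p hp
  obtain ⟨b, hb, rfl⟩ := List.mem_map.mp hp
  rw [gAt_eq hs hg (ev_lt g (sep_lt hs b hb)), h b hb]
  exact Nat.beq_refl _

theorem sF_gIm {bs : List ℕ} (hs : sepOK bs = true) {g : Perm (Fin 240)} (hg : g ∈ Wf) :
    sF (gIm bs (bs.map (ev g))) = sig g := by
  unfold sig sF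
  refine Prod.ext ?_ ?_ <;> dsimp only <;> refine List.countP_congr fun i hi => ?_ <;>
    rw [gIm, gAt_eq hs hg (List.mem_range.mp hi)]

/-- The symmetries with central square commuting with an element of order five. -/
theorem five_commute {w d : Perm (Fin 240)} (hw : w ∈ Wf) (hd : d ∈ Wf) (h5 : d ^ 5 = 1) (h1 : d ≠ 1)
    (hc : w * d = d * w) (h2 : w * w = 1 ∨ w * w = zeta) :
    sig w ∈ [(240, 0), (0, 240), (126, 2), (2, 126), (60, 4), (4, 60), (0, 0)] := by
  obtain ⟨v, hv, hcase⟩ := five_classes hd h5 h1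
  rw [← sig_conj (g := w) hv]
  set u := v * w * v⁻¹
  have hu : u ∈ Wf := mul_mem (mul_mem hv hw) (inv_mem hv)
  have hcu : u * (v * d * v⁻¹) = (v * d * v⁻¹) * u := by
    rw [show u * (v * d * v⁻¹) = v * (w * d) * v⁻¹ by simp only [u]; group, hc]; simp only [u]; group
  have key : ∀ bs : List ℕ, sepOK bs = true → fiveOK bs (bs.map (ev u)) = true →
      sig u ∈ [(240, 0), (0, 240), (126, 2), (2, 126), (60, 4), (4, 60), (0, 0)] := fun bs hs hok => by
    have hsq : (sqIs bs (bs.map (ev u)) (fun b => b) || sqIs bs (bs.map (ev u)) (fun b => 239 - b)) = true := by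
      rw [Bool.or_eq_true]
      have e : u * u = v * (w * w) * v⁻¹ := by simp only [u]; group
      rcases h2 with h2 | h2
      · exact Or.inl (sqIs_eq hs hu _ fun b _ => by rw [← ev_mul, e, h2, mul_one, mul_inv_cancel, ev_one])
      · refine Or.inr (sqIs_eq hs hu _ fun b hb => ?_)
        rw [← ev_mul, e, h2, ← zeta_comm hv, mul_inv_cancel_right, ev_zeta (sep_lt hs b hb)]
    rw [fiveOK, hsq, cond_true, sF_gIm hs hu, fiveSig, List.any_eq_true] at hok
    obtain ⟨t, ht, e⟩ := hok
    rw [Bool.and_eq_true, beq_iff, beq_iff] at e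
    rwa [show sig u = t from Prod.ext e.1 e.2]
  rcases hcase with e | e <;> rw [e] at hcu
  · refine key _ bases_ok.1 ?_
    exact (Bool.and_eq_true_iff.mp (List.all_eq_true.mp one_ok _ (one_mem_list hu hcu))).1
  · exact key _ bases_ok.2.1 (List.all_eq_true.mp two_ok _ (two_mem_list hu hcu))

theorem wP_sixW : wP sixW = zeta * repP 2 := by
  rw [sixW, wP_append, repP]
  congr 1
  refine Equiv.ext fun i => Fin.ext ?_
  rw [zeta_val, ← ev_val (wP _), ev_wP _ i.2,
    Nat.eq_of_beq_eq_true (List.all_eq_true.mp zeta_word.1 i (List.mem_range.mpr i.2))]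

/-- No square root of the six-element commutes with the first element of order five. -/
theorem no_root {w : Perm (Fin 240)} (hw : w ∈ Wf) (hd : w * dOne = dOne * w)
    (hr : w * (zeta * repP 2) = zeta * repP 2 * w) : w * w ≠ zeta * repP 2 := by
  intro h
  have hs := bases_ok.1
  have hok := (Bool.and_eq_true_iff.mp (List.all_eq_true.mp one_ok _ (one_mem_list hw hd))).2
  rw [rootOK, sqIs_eq hs hw _ (fun b hb => by rw [← ev_mul, h, ← wP_sixW, ev_wP _ (sep_lt hs b hb)]), cond_true,
    Bool.not_eq_true', ← Bool.not_eq_true, zip_map_self, List.all_eq_true] at hok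
  refine hok fun p hp => ?_
  obtain ⟨b, hb, rfl⟩ := List.mem_map.mp hp
  have hb' := sep_lt hs b hb
  rw [← ev_wP _ hb', gAt_eq hs hw (ev_lt _ hb'), ← ev_wP _ (ev_lt w hb'), ← ev_mul, ← ev_mul, wP_sixW, hr]
  exact Nat.beq_refl _

theorem unpB_pack : ∀ l : List ℕ, (∀ a ∈ l, a < 256) → unpB l.length (packB l) = l := by
  intro l
  induction l with
  | nil => intro _; rfl
  | cons a l ih =>
    intro h
    have ha : a < 256 := h a (by simp)
    have e : packB (a :: l) = a + 256 * packB l := rfl
    rw [List.length_cons, unpB, e, show (a + 256 * packB l) % 256 = a by omega,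
      Nat.shiftRight_eq_div_pow, show (a + 256 * packB l) / 2 ^ 8 = packB l by omega,
      ih fun x hx => h x (by simp [hx])]

theorem four_mem {g : Perm (Fin 240)} (hg : g ∈ Wf) (hd : g * repP 5 = repP 5 * g) :
    ((!(cubeB (Data.baseFour.map (ev g))) ||
        Nat.beq (packB (Data.baseFour.map (ev g))) (packB Data.baseFour) ||
        cubes.any (Nat.beq (packB (Data.baseFour.map (ev g))))) = true) ∧
      ((!(mateB (Data.baseFour.map (ev g))) || mates.any (Nat.beq (packB (Data.baseFour.map (ev g))))) = true) := by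
  have h : plFour.map Prod.fst = Data.baseFour := rfl
  have hl : ∀ b ∈ Data.baseFour, b < 240 := sep_lt bases_ok.2.2
  have hm := place_spec places_ok'.2.2 hg (d := fourW) hd rfl
    (fun p hp => hl p.1 (h ▸ List.mem_map_of_mem hp)) (by simp)
  rw [h] at hm
  have e : plFour = (plFour.getD 0 (0, 0, 0)) :: plFour.tail := rfl
  rw [e, cvs, List.mem_flatMap] at hm
  obtain ⟨c, hc, hm⟩ := hm
  rw [List.nil_append, List.nil_append] at hm
  have hc' : c ∈ firstFour := hc
  have hall : fourOK c = true := by
    have hsp : firstFour = firstFour.take 16 ++ (firstFour.drop 16).take 16 ++ (firstFour.drop 32).take 16 ++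
        (firstFour.drop 48).take 16 := by
      have hlen := Nat.eq_of_beq_eq_true first_len
      refine List.ext_getElem (by simp [hlen]) fun i h1 h2 => ?_
      simp only [List.getElem_append, List.length_append, List.length_take, List.length_drop, hlen,
        List.getElem_take, List.getElem_drop]
      split_ifs <;> congr 1 <;> omega
    rw [hsp, List.mem_append, List.mem_append, List.mem_append] at hc'
    rcases hc' with ((hc | hc) | hc) | hc
    exacts [List.all_eq_true.mp four_ok0 c hc, List.all_eq_true.mp four_ok1 c hc, List.all_eq_true.mp four_ok2 c hc,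
      List.all_eq_true.mp four_ok3 c hc]
  exact Bool.and_eq_true_iff.mp (List.all_eq_true.mp hall _ hm)

/-- No element of order three commutes with such a triple of products of four reflections. -/
theorem no_triple {R A e : Perm (Fin 240)} (hR : Ty 4 R) (hA : Ty 5 A) (hRA : Ty 5 (R * A)) (hR2 : R * R = 1)
    (hcRA : R * A = A * R) (he : e ∈ Wf) (he3 : e ^ 3 = 1) (he1 : e ≠ 1) (heR : e * R = R * e)
    (heA : e * A = A * e) : False := by
  obtain ⟨v, hv, hA'⟩ := hA
  have cc : ∀ a b : Perm (Fin 240), a * b = b * a → v * a * v⁻¹ * (v * b * v⁻¹) = v * b * v⁻¹ * (v * a * v⁻¹) :=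
    fun a b h => by
      rw [show v * a * v⁻¹ * (v * b * v⁻¹) = v * (a * b) * v⁻¹ by group, h]; group
  have hs := bases_ok.2.2
  set e' := v * e * v⁻¹ with he'
  set R' := v * R * v⁻¹ with hR'
  have heW : e' ∈ Wf := mul_mem (mul_mem hv he) (inv_mem hv)
  have hRW : R' ∈ Wf := mul_mem (mul_mem hv (ty_mem hR)) (inv_mem hv)
  have c1 : e' * repP 5 = repP 5 * e' := hA' ▸ cc e A heA
  have c2 : R' * repP 5 = repP 5 * R' := hA' ▸ cc R A hcRA
  have hcube : cubeB (Data.baseFour.map (ev e')) = true := by
    rw [cubeB, zip_map_self, List.all_eq_true]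
    intro p hp
    obtain ⟨b, hb, rfl⟩ := List.mem_map.mp hp
    have hb' := sep_lt hs b hb
    have e3 : e' * e' * e' = 1 := by
      rw [he', show v * e * v⁻¹ * (v * e * v⁻¹) * (v * e * v⁻¹) = v * (e * e * e) * v⁻¹ by group,
        show e * e * e = e ^ 3 by rw [pow_succ, pow_two], he3, mul_one, mul_inv_cancel]
    rw [gAt_eq hs heW (ev_lt e' hb'), gAt_eq hs heW (ev_lt e' (ev_lt e' hb')), ← ev_mul, ← ev_mul, e3, ev_one]
    exact Nat.beq_refl _
  have hmate : mateB (Data.baseFour.map (ev R')) = true := by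
    rw [mateB, sqIs_eq hs hRW _ (fun b _ => by
      rw [← ev_mul, show R' * R' = v * (R * R) * v⁻¹ by simp only [hR']; group, hR2, mul_one, mul_inv_cancel,
        ev_one]), cond_true, force_eq, sF_gIm hs hRW, sig_conj hv, ty_sig (by norm_num) hR]
    have e2 : (sF fun i => gAt Data.baseFour (Data.baseFour.map (ev R')) (wF fourW i)) = sig (R' * repP 5) := by
      unfold sig sF
      refine Prod.ext ?_ ?_ <;> dsimp only <;> refine List.countP_congr fun i hi => ?_ <;>
        rw [List.mem_range] at hi <;>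
        rw [ev_mul, repP, ← ev_wP fourW hi, gAt_eq hs hRW (ev_lt _ hi), fourW]
    rw [e2, show R' * repP 5 = v * (R * A) * v⁻¹ by rw [← hA']; simp only [hR']; group, sig_conj hv,
      ty_sig (by norm_num) hRA]
    rfl
  have he_in : packB (Data.baseFour.map (ev e')) ∈ cubes := by
    have h := (four_mem heW c1).1
    rw [hcube, Bool.not_true, Bool.false_or, Bool.or_eq_true, beq_iff, List.any_eq_true] at h
    rcases h with h | ⟨c, hc, h⟩
    · exfalso
      have hu := congrArg (unpB 8) h
      have hlen : Data.baseFour.length = 8 := rfl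
      rw [← hlen] at hu
      conv_lhs at hu => arg 1; rw [← List.length_map (ev e')]
      rw [unpB_pack _ (fun a ha => by
        obtain ⟨b, hb, rfl⟩ := List.mem_map.mp ha
        exact lt_trans (ev_lt e' (sep_lt hs b hb)) (by norm_num)),
        unpB_pack _ (fun a ha => lt_trans (sep_lt hs a ha) (by norm_num))] at hu
      have : e' = 1 := ext_base hs heW (one_mem _) fun b hb => by
        rw [ev_one]
        obtain ⟨i, hi, rfl⟩ := List.getElem_of_mem hb
        have := List.getElem_of_eq hu (i := i) (by simpa using hi)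
        simpa using this
      exact he1 (by rwa [he', conj_eq_one_iff] at this)
    · rwa [Nat.eq_of_beq_eq_true h]
  have hr_in : packB (Data.baseFour.map (ev R')) ∈ mates := by
    have h := (four_mem hRW c2).2
    rw [hmate, Bool.not_true, Bool.false_or, List.any_eq_true] at h
    obtain ⟨c, hc, h⟩ := h
    rwa [Nat.eq_of_beq_eq_true h]
  have h := List.all_eq_true.mp (List.all_eq_true.mp apart_ok _ he_in) _ hr_in
  have hu : ∀ g : Perm (Fin 240), g ∈ Wf → unpB 8 (packB (Data.baseFour.map (ev g))) = Data.baseFour.map (ev g) :=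
    fun g _ => by
      have := unpB_pack (Data.baseFour.map (ev g)) (fun a ha => by
        obtain ⟨b, hb, rfl⟩ := List.mem_map.mp ha
        exact lt_trans (ev_lt g (sep_lt hs b hb)) (by norm_num))
      rwa [List.length_map] at this
  rw [hu e' heW, hu R' hRW, apartOK, List.zip_map', List.any_eq_true] at h
  obtain ⟨p, hp, h⟩ := h
  obtain ⟨b, hb, rfl⟩ := List.mem_map.mp hp
  have hb' := sep_lt hs b hb
  rw [Bool.not_eq_true', gAt_eq hs heW (ev_lt _ hb'), gAt_eq hs hRW (ev_lt _ hb'), ← ev_mul, ← ev_mul,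
    show e' * R' = R' * e' from cc e R heR, Nat.beq_refl] at h
  simp at h

end CfsgLib.O8Two
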