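/-
For each type, the group generated by the even symmetries of odd order commuting with it.
-/
import Cfsg.Agent.Lib.StdO8Two.Facts

set_option autoImplicit false
set_option maxRecDepth 20000

namespace CfsgLib.O8Two

open Equiv Subgroup

/-- The even symmetries of odd order commuting with `w` generate this group. -/
def OddC (w : Perm (Fin 240)) : Subgroup (Perm (Fin 240)) :=
  closure {d | d ∈ W0 ∧ Odd (orderOf d) ∧ d * w = w * d}

theorem oddC_le (w : Perm (Fin 240)) : OddC w ≤ W0 := (closure_le _).mpr fun _ h => h.1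

theorem oddC_comm {w x : Perm (Fin 240)} (h : x ∈ OddC w) : x * w = w * x := by
  have : OddC w ≤ centralizer {w} := (closure_le _).mpr fun _ h =>
    mem_centralizer_singleton_iff.mpr h.2.2
  exact mem_centralizer_singleton_iff.mp (this h)

theorem conj_W0 {v x : Perm (Fin 240)} (hv : v ∈ Wf) (hx : x ∈ W0) : v * x * v⁻¹ ∈ W0 := by
  refine mem_W0.mpr ⟨mul_mem (mul_mem hv (mem_W0.mp hx).1) (inv_mem hv), ?_⟩
  rw [map_mul, map_mul, (mem_W0.mp hx).2, mul_one, map_inv, mul_inv_cancel]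

theorem oddC_conj {v : Perm (Fin 240)} (hv : v ∈ Wf) {w x : Perm (Fin 240)} (h : x ∈ OddC w) :
    v * x * v⁻¹ ∈ OddC (v * w * v⁻¹) := by
  have : (OddC w).map (MulAut.conj v).toMonoidHom ≤ OddC (v * w * v⁻¹) := by
    rw [OddC, MonoidHom.map_closure, closure_le]
    rintro _ ⟨d, ⟨h1, h2, h3⟩, rfl⟩
    refine subset_closure ⟨conj_W0 hv h1, ?_, ?_⟩
    · rw [MulEquiv.coe_toMonoidHom, MulAut.conj_apply]
      rwa [show v * d * v⁻¹ = MulAut.conj v d from rfl, MulEquiv.orderOf_eq]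
    · simp only [MulEquiv.coe_toMonoidHom, MulAut.conj_apply]
      calc v * d * v⁻¹ * (v * w * v⁻¹) = v * (d * w) * v⁻¹ := by group
        _ = v * (w * d) * v⁻¹ := by rw [h3]
        _ = v * w * v⁻¹ * (v * d * v⁻¹) := by group
  exact this ⟨x, h, rfl⟩

theorem oddC_zeta {w : Perm (Fin 240)} : OddC (zeta * w) = OddC w := by
  have key : ∀ w, OddC w ≤ OddC (zeta * w) := fun w => (closure_le _).mpr fun d hd => subset_closure
    ⟨hd.1, hd.2.1, by rw [← mul_assoc, ← zeta_comm (mem_W0.mp hd.1).1, mul_assoc, hd.2.2, ← mul_assoc]⟩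
  refine le_antisymm ?_ (key w)
  have := key (zeta * w)
  rwa [← mul_assoc, zeta_sq, one_mul] at this

/-! ### Checked products -/

/-- Two words agree on the base. -/
def eqB (l m : List ℕ) : Bool := Data.B0.all fun c => Nat.beq (wF l c) (wF m c)

/-- The product of a list of words with orders. -/
def prodW (L : List (ℕ × ℕ)) : List ℕ := (L.map fun p => wd p.2).flatten

/-- The words are even, of odd order, and commute with `R`. -/
def listOK (R : List ℕ) (L : List (ℕ × ℕ)) : Bool :=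
  L.all fun p => evenOK p.2 && Nat.beq (p.1 % 2) 1 && eqB (powL (wd p.2) p.1) [] && eqB (wd p.2 ++ R) (R ++ wd p.2)

theorem odd_of_pow {G : Type*} [Group G] {x : G} {n : ℕ} (hn : Odd n) (h : x ^ n = 1) : Odd (orderOf x) :=
  hn.of_dvd_nat (orderOf_dvd_of_pow_eq_one h)

theorem oddC_of_list {R : List ℕ} {L : List (ℕ × ℕ)} (h : listOK R L = true) : wP (prodW L) ∈ OddC (wP R) := by
  induction L with
  | nil => simp [prodW, wP]
  | cons p L ih =>
    rw [listOK, List.all_cons, Bool.and_eq_true] at h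
    obtain ⟨h1, h2⟩ := h
    rw [show prodW (p :: L) = wd p.2 ++ prodW L from rfl, wP_append]
    refine mul_mem (subset_closure ?_) (ih h2)
    simp only [Bool.and_eq_true, beq_iff] at h1
    obtain ⟨⟨⟨h3, h4⟩, h5⟩, h6⟩ := h1
    refine ⟨wP_even h3, odd_of_pow (Nat.odd_iff.mpr h4) ?_, ?_⟩
    · rw [← wP_powL, eq_of_words h5]; simp [wP]
    · rw [← wP_append, ← wP_append]; exact eq_of_words h6

/-- The six-element as a word. -/
def rep6W : List ℕ := wd (Data.repW.getD 6 0)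

/-- Words whose product is the square root of minus one. -/
def iX : List (ℕ × ℕ) :=
  [(5, 515002067926325737956116), (5, 7883954974999323393), (3, 6415449215578825729)]

/-- The word of the representative `k`. -/
def rW (k : ℕ) : List ℕ := wd (Data.repW.getD k 0)

theorem six_ok : listOK sixW Data.sixX = true ∧ eqB (prodW Data.sixX) sixW = true ∧
    evenOK Data.dOneW = true ∧ eqB (wd Data.dOneW ++ sixW) (sixW ++ wd Data.dOneW) = true ∧
    eqB (powL (wd Data.dOneW) 5) [] = true ∧ eqB (wd Data.dOneW) [] = false := by decide +kernel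

theorem i_ok : listOK (rW 6) Data.iZ = true ∧ eqB (prodW Data.iZ) Data.frame = true ∧
    listOK (rW 6) iX = true ∧ eqB (prodW iX) (rW 6) = true := by decide +kernel

theorem rs_ok : listOK (rW 2) Data.sixX = true ∧ evenOK Data.rsA = true ∧
    eqB (wd Data.rsA ++ wd Data.rsA) [] = true ∧ eqB (wd Data.rsA ++ rW 2) (rW 2 ++ wd Data.rsA) = true ∧
    eqB (wd Data.rsAconj ++ wd Data.rsA) (rW 2 ++ wd Data.rsAconj) = true ∧
    evenOK Data.rsD = true ∧ eqB (powL (wd Data.rsD) 5) [] = true ∧ eqB (wd Data.rsD) [] = false ∧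
    eqB (wd Data.rsD ++ rW 2) (rW 2 ++ wd Data.rsD) = true ∧
    eqB (wd Data.rsD ++ wd Data.rsA) (wd Data.rsA ++ wd Data.rsD) = true ∧
    listOK (rW 2) Data.rsE = true ∧ eqB (prodW Data.rsE) (wd Data.rsEel) = true ∧
    eqB (wd Data.rsEel ++ wd Data.rsEel) [] = true ∧
    eqB (wd Data.rsEel ++ wd Data.rsD) (wd Data.rsD ++ wd Data.rsEel) = false := by decide +kernel

theorem rs_sigs : sF (wF (wd Data.rsA)) = (60, 4) ∧ sF (wF (rW 2 ++ wd Data.rsA)) = (60, 4) := by decide +kernel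

theorem four_ok : listOK (rW 4) Data.fourX = true ∧ eqB (prodW Data.fourX) (rW 4) = true ∧
    listOK (rW 4) Data.fourZ = true ∧ eqB (prodW Data.fourZ) Data.frame = true ∧
    listOK (rW 4) Data.fourAw = true ∧ eqB (prodW Data.fourAw) (wd Data.fourA) = true ∧
    eqB (wd Data.fourA ++ wd Data.fourA) [] = true ∧ eqB (wd Data.fourA ++ rW 4) (rW 4 ++ wd Data.fourA) = true ∧
    evenOK Data.fourH = true ∧ eqB (wd Data.fourH ++ rW 4) (rW 4 ++ wd Data.fourH) = true ∧
    eqB (wd Data.fourH ++ wd Data.fourA) (wd Data.fourA ++ rW 4 ++ wd Data.fourH) = true ∧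
    evenOK Data.fourD = true ∧ eqB (powL (wd Data.fourD) 3) [] = true ∧ eqB (wd Data.fourD) [] = false ∧
    eqB (wd Data.fourD ++ rW 4) (rW 4 ++ wd Data.fourD) = true ∧
    eqB (wd Data.fourD ++ wd Data.fourA) (wd Data.fourA ++ wd Data.fourD) = true ∧
    listOK (rW 4) Data.fourEw = true ∧ eqB (prodW Data.fourEw) (wd Data.fourE) = true ∧
    eqB (wd Data.fourE ++ wd Data.fourE) [] = true ∧
    eqB (wd Data.fourE ++ wd Data.fourD) (wd Data.fourD ++ wd Data.fourE) = false := by decide +kernel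

theorem four_sig : sF (wF (wd Data.fourA)) = (4, 60) := by decide +kernel

theorem two_ok' : listOK (rW 5) Data.twoX = true ∧ eqB (prodW Data.twoX) (rW 5) = true ∧
    listOK (rW 5) Data.twoZ = true ∧ eqB (prodW Data.twoZ) Data.frame = true ∧
    listOK (rW 5) Data.twoAw = true ∧ eqB (prodW Data.twoAw) (wd Data.twoA) = true ∧
    eqB (wd Data.twoA ++ wd Data.twoA) [] = true ∧ eqB (wd Data.twoA ++ rW 5) (rW 5 ++ wd Data.twoA) = true ∧
    evenOK Data.twoL = true ∧ eqB (wd Data.twoL ++ rW 5 ++ wd Data.twoA) (rW 5 ++ wd Data.twoL) = true := by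
  decide +kernel

theorem three_ok : listOK (rW 3) Data.threeAw = true ∧ eqB (prodW Data.threeAw) (wd Data.threeA) = true ∧
    eqB (wd Data.threeA ++ wd Data.threeA) [] = true ∧ eqB (wd Data.threeA ++ rW 3) (rW 3 ++ wd Data.threeA) = true ∧
    evenOK Data.threeL = true ∧ eqB (wd Data.threeL ++ rW 3 ++ wd Data.threeA) (rW 3 ++ wd Data.threeL) = true ∧
    sF (wF (wd Data.twoA)) = (24, 24) ∧ sF (wF (wd Data.threeA)) = (24, 24) := by decide +kernel

theorem neq_of_words {l m : List ℕ} (h : eqB l m = false) : wP l ≠ wP m := fun e => by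
  have : eqB l m = true := List.all_eq_true.mpr fun c hc => by
    have hc' := sep_lt places_ok.1 c hc
    rw [← ev_wP l hc', ← ev_wP m hc', e, Nat.beq_refl]
  rw [this] at h
  simp at h

theorem wP_frame : wP Data.frame = zeta := Equiv.ext fun i => Fin.ext (by
  rw [zeta_val, ← ev_val (wP _), ev_wP _ i.2,
    Nat.eq_of_beq_eq_true (List.all_eq_true.mp zeta_word.1 i (List.mem_range.mpr i.2))])

theorem wP_nil : wP [] = 1 := rfl

theorem two_eq {l m : List ℕ} (h : eqB (l ++ m) (m ++ l) = true) : wP l * wP m = wP m * wP l := by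
  rw [← wP_append, ← wP_append]; exact eq_of_words h

theorem sq_eq {l : List ℕ} (h : eqB (l ++ l) [] = true) : wP l * wP l = 1 := by
  rw [← wP_append]; exact eq_of_words h

/-- The type of a sign-free class from its numbers. -/
theorem ty_of_sig {w : Perm (Fin 240)} (hw : w ∈ Wf) (h2 : w * w = 1 ∨ w * w = zeta) {k : ℕ}
    (hk : k ∈ [1, 2, 3, 4, 5, 6]) (hs : sig w = repSig.getD k (0, 0)) : Ty k w := by
  have hz : ∀ j, j < 7 → Ty j (zeta * w) → sig w = (repSig.getD j (0, 0)).swap := fun j hj h => by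
    rw [← ty_sig hj h, sig_zeta_mul, Prod.swap_swap]
  have hone : sig w ≠ (240, 0) ∧ sig w ≠ (0, 240) := by
    rw [hs]; simp only [List.mem_cons, List.not_mem_nil, or_false] at hk
    rcases hk with rfl | rfl | rfl | rfl | rfl | rfl <;> decide
  rcases cases_sq hw h2 with rfl | rfl | h | h | h | h | h | h | h | h | h
  · exact absurd sig_one hone.1
  · exact absurd (by rw [← mul_one zeta, sig_zeta_mul, sig_one]; rfl) hone.2
  all_goals
    simp only [List.mem_cons, List.not_mem_nil, or_false] at hk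
    rcases hk with rfl | rfl | rfl | rfl | rfl | rfl <;>
    first
      | exact absurd (hs.symm.trans (ty_sig (by norm_num) h)) (by decide)
      | exact absurd (hs.symm.trans (hz _ (by norm_num) h)) (by decide)
      | exact h

/-! ### The facts -/

/-- An element of type `k` with a witness transported from the representative. -/
theorem pull {k : ℕ} {w : Perm (Fin 240)} (h : Ty k w) :
    ∃ v ∈ Wf, w = v * repP k * v⁻¹ := by
  obtain ⟨v, hv, e⟩ := h
  exact ⟨v⁻¹, inv_mem hv, by rw [← e]; group⟩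

theorem conj_sq {v a : Perm (Fin 240)} (h : a * a = 1) : v * a * v⁻¹ * (v * a * v⁻¹) = 1 := by
  rw [show v * a * v⁻¹ * (v * a * v⁻¹) = v * (a * a) * v⁻¹ by group, h]; group

theorem conj_comm {v a b : Perm (Fin 240)} (h : a * b = b * a) :
    v * a * v⁻¹ * (v * b * v⁻¹) = v * b * v⁻¹ * (v * a * v⁻¹) := by
  rw [show v * a * v⁻¹ * (v * b * v⁻¹) = v * (a * b) * v⁻¹ by group, h]; group

theorem conj_ne {v a : Perm (Fin 240)} (h : a ≠ 1) : v * a * v⁻¹ ≠ 1 := fun e => h (conj_eq_one_iff.mp e)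

theorem conj_zeta {v a : Perm (Fin 240)} (hv : v ∈ Wf) : v * (zeta * a) * v⁻¹ = zeta * (v * a * v⁻¹) := by
  rw [← mul_assoc v zeta, ← zeta_comm hv]; group

theorem six_fact {w : Perm (Fin 240)} (h : Ty 2 (zeta * w)) :
    w ∈ OddC w ∧ ∃ d ∈ W0, d ^ 5 = 1 ∧ d ≠ 1 ∧ d * w = w * d ∧
      ∀ u ∈ Wf, u * w = w * u → u * d = d * u → u * u ≠ w := by
  obtain ⟨v, hv, e⟩ := pull h
  have ew : w = v * (zeta * repP 2) * v⁻¹ := by
    rw [conj_zeta hv, ← e, ← mul_assoc, zeta_sq, one_mul]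
  obtain ⟨h1, h2, h3, h4, h5, h6⟩ := six_ok
  have hx := oddC_of_list h1
  rw [eq_of_words h2, wP_sixW] at hx
  refine ⟨ew ▸ oddC_conj hv hx, v * dOne * v⁻¹, conj_W0 hv (wP_even h3), ?_, conj_ne ?_, ?_, ?_⟩
  · rw [conj_pow, dOne, ← wP_powL, eq_of_words h5, wP_nil]; group
  · exact neq_of_words h6
  · rw [ew, ← wP_sixW]; exact conj_comm (two_eq h4)
  · intro u hu huw hud hsq
    have cj : ∀ a b : Perm (Fin 240), a * b = b * a → v⁻¹ * a * v * (v⁻¹ * b * v) = v⁻¹ * b * v * (v⁻¹ * a * v) :=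
      fun a b h => by rw [show v⁻¹ * a * v * (v⁻¹ * b * v) = v⁻¹ * (a * b) * v by group, h]; group
    refine no_root (mul_mem (mul_mem (inv_mem hv) hu) hv) ?_ ?_ ?_
    · have := cj u _ hud
      simpa [mul_assoc] using this
    · have := cj u _ huw
      rw [ew] at this
      simpa [mul_assoc] using this
    · rw [show v⁻¹ * u * v * (v⁻¹ * u * v) = v⁻¹ * (u * u) * v by group, hsq, ew]; group

theorem i_fact {w : Perm (Fin 240)} (h : Ty 6 w) : zeta ∈ OddC w ∧ w ∈ OddC w := by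
  obtain ⟨v, hv, rfl⟩ := pull h
  obtain ⟨h1, h2, h3, h4⟩ := i_ok
  have hz := oddC_conj hv (oddC_of_list h1)
  have hx := oddC_conj hv (oddC_of_list h3)
  rw [eq_of_words h2, wP_frame, ← zeta_comm hv, mul_inv_cancel_right] at hz
  rw [eq_of_words h4] at hx
  exact ⟨hz, hx⟩

theorem rs_fact {w : Perm (Fin 240)} (h : Ty 2 w) :
    zeta * w ∈ OddC w ∧ ∃ A ∈ W0, A * A = 1 ∧ A * w = w * A ∧ Ty 2 A ∧ Ty 2 (w * A) ∧
      ∃ d ∈ W0, d ^ 5 = 1 ∧ d ≠ 1 ∧ d * w = w * d ∧ d * A = A * d ∧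
        ∃ e ∈ OddC w, e * e = 1 ∧ e * d ≠ d * e := by
  obtain ⟨v, hv, rfl⟩ := pull h
  obtain ⟨h1, h2, h3, h4, h5, h6, h7, h8, h9, h10, h11, h12, h13, h14⟩ := rs_ok
  have hx := oddC_conj hv (oddC_of_list h1)
  rw [eq_of_words six_ok.2.1, wP_sixW, conj_zeta hv] at hx
  refine ⟨hx, v * wP (wd Data.rsA) * v⁻¹, conj_W0 hv (wP_even h2), conj_sq (sq_eq h3), conj_comm (two_eq h4),
    ty_conj hv ?_, ?_, v * wP (wd Data.rsD) * v⁻¹, conj_W0 hv (wP_even h6), ?_, conj_ne (neq_of_words h8),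
    conj_comm (two_eq h9), conj_comm (two_eq h10), v * wP (wd Data.rsEel) * v⁻¹, ?_, conj_sq (sq_eq h13), ?_⟩
  · exact ⟨wP (wd Data.rsAconj), wP_mem _, by
      rw [← wP_append, eq_of_words h5, wP_append, mul_inv_cancel_right]; rfl⟩
  · rw [show v * repP 2 * v⁻¹ * (v * wP (wd Data.rsA) * v⁻¹) = v * (repP 2 * wP (wd Data.rsA)) * v⁻¹ by group]
    refine ty_conj hv (ty_of_sig (mul_mem (repP_mem 2) (wP_mem _)) (Or.inl ?_) (by simp) ?_)
    · rw [show repP 2 * wP (wd Data.rsA) * (repP 2 * wP (wd Data.rsA)) =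
          repP 2 * (wP (wd Data.rsA) * repP 2) * wP (wd Data.rsA) by group,
        show wP (wd Data.rsA) * repP 2 = repP 2 * wP (wd Data.rsA) from two_eq h4, ← mul_assoc, mul_assoc (repP 2 * repP 2),
        sq_eq h3, mul_one]
      have : eqB (rW 2 ++ rW 2) [] = true := by decide +kernel
      exact sq_eq this
    · rw [show repP 2 * wP (wd Data.rsA) = wP (rW 2 ++ wd Data.rsA) by rw [wP_append]; rfl, sig_wP, rs_sigs.2]; rfl
  · rw [conj_pow, ← wP_powL, eq_of_words h7, wP_nil]; group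
  · have := oddC_conj hv (oddC_of_list h11)
    rwa [eq_of_words h12] at this
  · intro e
    have hne := neq_of_words h14
    rw [wP_append, wP_append] at hne
    apply hne
    have := congrArg (fun t => v⁻¹ * t * v) e
    simpa [mul_assoc] using this

theorem four_fact {w : Perm (Fin 240)} (h : Ty 4 w) :
    w ∈ OddC w ∧ zeta ∈ OddC w ∧ ∃ A ∈ OddC w, A * A = 1 ∧ A * w = w * A ∧ Ty 2 (zeta * A) ∧
      ∃ H ∈ W0, H * w = w * H ∧ H * A * H⁻¹ = A * w ∧
        ∃ d ∈ W0, d ^ 3 = 1 ∧ d ≠ 1 ∧ d * w = w * d ∧ d * A = A * d ∧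
          ∃ e ∈ OddC w, e * e = 1 ∧ e * d ≠ d * e := by
  obtain ⟨v, hv, rfl⟩ := pull h
  obtain ⟨h1, h2, h3, h4, h5, h6, h7, h8, h9, h10, h11, h12, h13, h14, h15, h16, h17, h18, h19, h20⟩ := four_ok
  have hx := oddC_conj hv (oddC_of_list h1)
  have hz := oddC_conj hv (oddC_of_list h3)
  have ha := oddC_conj hv (oddC_of_list h5)
  rw [eq_of_words h2] at hx
  rw [eq_of_words h4, wP_frame, ← zeta_comm hv, mul_inv_cancel_right] at hz
  rw [eq_of_words h6] at ha
  refine ⟨hx, hz, v * wP (wd Data.fourA) * v⁻¹, ha, conj_sq (sq_eq h7), conj_comm (two_eq h8), ?_,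
    v * wP (wd Data.fourH) * v⁻¹, conj_W0 hv (wP_even h9), conj_comm (two_eq h10), ?_,
    v * wP (wd Data.fourD) * v⁻¹, conj_W0 hv (wP_even h12), ?_, conj_ne (neq_of_words h14),
    conj_comm (two_eq h15), conj_comm (two_eq h16), v * wP (wd Data.fourE) * v⁻¹, ?_, conj_sq (sq_eq h19), ?_⟩
  · rw [← conj_zeta hv]
    refine ty_conj hv (ty_of_sig (mul_mem zeta_mem (wP_mem _)) (Or.inl ?_) (by simp) ?_)
    · rw [zeta_comm (wP_mem _), mul_assoc, ← mul_assoc zeta, zeta_comm (wP_mem _), mul_assoc, zeta_sq, mul_one,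
        sq_eq h7]
    · rw [sig_zeta_mul, sig_wP, four_sig]; rfl
  · have e := eq_of_words h11
    rw [wP_append, wP_append, wP_append, show wP (rW 4) = repP 4 from rfl] at e
    rw [show v * wP (wd Data.fourH) * v⁻¹ * (v * wP (wd Data.fourA) * v⁻¹) * (v * wP (wd Data.fourH) * v⁻¹)⁻¹ =
      v * (wP (wd Data.fourH) * wP (wd Data.fourA) * (wP (wd Data.fourH))⁻¹) * v⁻¹ by group, e]
    group
  · rw [conj_pow, ← wP_powL, eq_of_words h13, wP_nil]; group
  · have := oddC_conj hv (oddC_of_list h17)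
    rwa [eq_of_words h18] at this
  · intro e
    have hne := neq_of_words h20
    rw [wP_append, wP_append] at hne
    apply hne
    have := congrArg (fun t => v⁻¹ * t * v) e
    simpa [mul_assoc] using this

theorem five_fact {w : Perm (Fin 240)} (h : Ty 5 w) : w ∈ OddC w ∧ zeta ∈ OddC w := by
  obtain ⟨v, hv, rfl⟩ := pull h
  obtain ⟨h1, h2, h3, h4, -⟩ := two_ok'
  have hx := oddC_conj hv (oddC_of_list h1)
  have hz := oddC_conj hv (oddC_of_list h3)
  rw [eq_of_words h2] at hx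
  rw [eq_of_words h4, wP_frame, ← zeta_comm hv, mul_inv_cancel_right] at hz
  exact ⟨hx, hz⟩

theorem low_fact {k : ℕ} (hk : k = 3 ∨ k = 5) {w : Perm (Fin 240)} (h : Ty k w) :
    ∃ A ∈ OddC w, A * A = 1 ∧ A * w = w * A ∧ Ty 4 A ∧ ∃ l ∈ W0, l * w * l⁻¹ = w * A := by
  have main : ∀ (L : List (ℕ × ℕ)) (a l : ℕ), listOK (rW k) L = true → eqB (prodW L) (wd a) = true →
      eqB (wd a ++ wd a) [] = true → eqB (wd a ++ rW k) (rW k ++ wd a) = true → evenOK l = true →
      eqB (wd l ++ rW k ++ wd a) (rW k ++ wd l) = true → sF (wF (wd a)) = (24, 24) →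
      ∃ A ∈ OddC w, A * A = 1 ∧ A * w = w * A ∧ Ty 4 A ∧ ∃ l ∈ W0, l * w * l⁻¹ = w * A := by
    intro L a l h1 h2 h3 h4 h5 h6 h7
    obtain ⟨v, hv, rfl⟩ := pull h
    have hx := oddC_conj hv (oddC_of_list h1)
    rw [eq_of_words h2] at hx
    refine ⟨v * wP (wd a) * v⁻¹, hx, conj_sq (sq_eq h3), conj_comm (two_eq h4),
      ty_conj hv (ty_of_sig (wP_mem _) (Or.inl (sq_eq h3)) (by simp) (by rw [sig_wP, h7]; rfl)),
      (v * wP (wd l) * v⁻¹)⁻¹, inv_mem (conj_W0 hv (wP_even h5)), ?_⟩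
    have e := eq_of_words h6
    rw [wP_append, wP_append, wP_append, show wP (rW k) = repP k from rfl] at e
    calc (v * wP (wd l) * v⁻¹)⁻¹ * (v * repP k * v⁻¹) * ((v * wP (wd l) * v⁻¹)⁻¹)⁻¹
        = v * ((wP (wd l))⁻¹ * (repP k * wP (wd l))) * v⁻¹ := by group
      _ = v * ((wP (wd l))⁻¹ * (wP (wd l) * repP k * wP (wd a))) * v⁻¹ := by rw [e]
      _ = v * repP k * v⁻¹ * (v * wP (wd a) * v⁻¹) := by group
  rcases hk with rfl | rfl
  · obtain ⟨h1, h2, h3, h4, h5, h6, -, h7⟩ := three_ok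
    exact main _ _ _ h1 h2 h3 h4 h5 h6 h7
  · obtain ⟨-, -, -, -, h1, h2, h3, h4, h5, h6⟩ := two_ok'
    exact main _ _ _ h1 h2 h3 h4 h5 h6 three_ok.2.2.2.2.2.2.1

end CfsgLib.O8Two
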