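/-
Reflections, their commuting, and what the odd part of a centraliser keeps.
-/
import Cfsg.Agent.Lib.StdO8Two.Witness

set_option autoImplicit false
set_option maxRecDepth 20000

namespace CfsgLib.O8Two

open Equiv Subgroup

theorem rep_one : repP 1 = rP 0 ∧ repP 2 = rP 0 * rP 13 := by
  have h : eqB (rW 1) [0] = true ∧ eqB (rW 2) [0, 13] = true := by decide +kernel
  constructor
  · rw [show repP 1 = wP (rW 1) from rfl, eq_of_words h.1]; simp [wP, rPn]
  · rw [show repP 2 = wP (rW 2) from rfl, eq_of_words h.2]; simp [wP, rPn]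

theorem ty_one_iff {w : Perm (Fin 240)} : Ty 1 w ↔ ∃ a, w = rP a := by
  constructor
  · intro h
    obtain ⟨v, hv, rfl⟩ := pull h
    exact ⟨v 0, by rw [rep_one.1, conj_rP hv]⟩
  · rintro ⟨a, rfl⟩
    obtain ⟨g, hg, e⟩ := exists_W0_root a 0
    exact ⟨g, (mem_W0.mp hg).1, by rw [conj_rP (mem_W0.mp hg).1, e, rep_one.1]⟩

theorem Q_range (i j : Fin 240) : -2 ≤ Q i j ∧ Q i j ≤ 2 := by
  have := (pair_spec i j).2.1
  simp only [Q]; omega

theorem rP_orth_fix {a b : Fin 240} (h : Q a b = 0) : rP a b = b := eq_of_Q fun u => by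
  rw [rP_apply, Q_rfun, Q_symm b a, h]; ring

theorem rP_orth_comm {a b : Fin 240} (h : Q a b = 0) : rP a * rP b = rP b * rP a := by
  have := conj_rP (rP_mem a) b
  rw [rP_orth_fix h, mul_inv_eq_iff_eq_mul] at this
  exact this

theorem comm_rP {a b : Fin 240} (h : rP a * rP b = rP b * rP a) : Q a b = 0 ∨ b = a ∨ b = zeta a := by
  have e : rP (rP a b) = rP b := by rw [← conj_rP (rP_mem a), h, mul_inv_cancel_right]
  have key : Q (rP a b) b = 2 - Q a b * Q a b := by rw [rP_apply, Q_rfun, Q_self, Q_symm b a]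
  rcases rP_eq e with h1 | h1
  · rw [← h1, Q_self] at key
    exact Or.inl (mul_self_eq_zero.mp (by linarith))
  · have hq : Q (rP a b) (zeta (rP a b)) = -2 := by rw [Q_symm, Q_zeta, Q_self]
    rw [← h1] at hq
    rw [hq] at key
    have : (Q a b - 2) * (Q a b + 2) = 0 := by linarith
    rcases mul_eq_zero.mp this with e | e
    · exact Or.inr (Or.inl (eq_of_Q_two (by linarith)))
    · exact Or.inr (Or.inr (eq_zeta_of_Q (by linarith)))

theorem zeta_apply (i : Fin 240) : zeta (zeta i) = i := by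
  rw [← Perm.mul_apply, zeta_sq]; rfl

theorem zeta_ne_self (i : Fin 240) : zeta i ≠ i := fun h => by
  have := congrArg (fun j => Q j i) h
  simp only [Q_zeta, Q_self] at this
  norm_num at this

theorem rsR_neg {a b i : Fin 240} (hab : Q a b = 0) (h : (rP a * rP b) i = zeta i) :
    i = a ∨ i = zeta a ∨ i = b ∨ i = zeta b := by
  have e := congrArg (fun j => Q j i) h
  simp only [Perm.mul_apply, rP_apply, Q_rfun, Q_zeta, Q_self, Q_symm b a, hab] at e
  rw [Q_symm b i, Q_symm a i] at e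
  have h4 : Q i a * Q i a + Q i b * Q i b = 4 := by linarith
  obtain ⟨ha1, ha2⟩ := Q_range i a
  obtain ⟨hb1, hb2⟩ := Q_range i b
  have : Q i a = 2 ∨ Q i a = -2 ∨ Q i b = 2 ∨ Q i b = -2 := by
    interval_cases hA : Q i a <;> simp_all <;> (interval_cases hB : Q i b <;> simp_all)
  rcases this with h | h | h | h
  · exact Or.inl (eq_of_Q_two h).symm
  · exact Or.inr (Or.inl (by rw [eq_zeta_of_Q h, zeta_apply]))
  · exact Or.inr (Or.inr (Or.inl (eq_of_Q_two h).symm))
  · exact Or.inr (Or.inr (Or.inr (by rw [eq_zeta_of_Q h, zeta_apply])))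

theorem fixed_of_periods {α : Type*} {f : Perm α} {x : α} {n k : ℕ} (hf : f ^ n = 1) (hk : (f ^ k) x = x)
    (hcop : Nat.Coprime n k) : f x = x := by
  have h1 : Function.IsPeriodicPt f n x := by
    rw [Function.IsPeriodicPt, Function.IsFixedPt, ← Perm.coe_pow, hf]; rfl
  have h2 : Function.IsPeriodicPt f k x := by
    rw [Function.IsPeriodicPt, Function.IsFixedPt, ← Perm.coe_pow]; exact hk
  have h3 := h1.gcd h2
  rw [hcop] at h3
  exact h3

theorem odd_fix_one {a : Fin 240} {d : Perm (Fin 240)} (hd : d ∈ Wf) (ho : Odd (orderOf d))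
    (hc : d * rP a = rP a * d) : d a = a := by
  have e : rP (d a) = rP a := by rw [← conj_rP hd, hc, mul_inv_cancel_right]
  rcases rP_eq e with h | h
  · exact h.symm
  · refine fixed_of_periods (pow_orderOf_eq_one d) (k := 2) ?_ (Nat.coprime_two_right.mpr ho)
    have hz : d a = zeta a := by rw [← zeta_apply (d a), ← h]
    rw [pow_two, Perm.mul_apply, hz, ← Perm.mul_apply, ← zeta_comm hd, Perm.mul_apply, hz, zeta_apply]

theorem odd_fix_two {a b : Fin 240} (hab : Q a b = 0) {d : Perm (Fin 240)} (hd : d ∈ Wf) (ho : Odd (orderOf d))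
    (hc : d * (rP a * rP b) = rP a * rP b * d) : d a = a := by
  have hz : ∀ i, d (zeta i) = zeta (d i) := fun i => by rw [← Perm.mul_apply, ← zeta_comm hd, Perm.mul_apply]
  have hneg : ∀ i, (rP a * rP b) i = zeta i → (rP a * rP b) (d i) = zeta (d i) := fun i hi => by
    rw [← Perm.mul_apply, ← hc, Perm.mul_apply, hi, hz]
  have ha : (rP a * rP b) a = zeta a := by
    rw [Perm.mul_apply, rP_orth_fix (a := b) (b := a) (by rw [Q_symm]; exact hab), rP_self]
  have hb : (rP a * rP b) b = zeta b := by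
    rw [rP_orth_comm hab, Perm.mul_apply, rP_orth_fix hab, rP_self]
  refine fixed_of_periods (pow_orderOf_eq_one d) (k := 4) ?_ (Nat.Coprime.pow_right 2 (Nat.coprime_two_right.mpr ho))
  have h4 : (d ^ 4) a = d (d (d (d a))) := by simp [pow_succ, Perm.mul_apply]
  rw [h4]
  have hba : b ≠ a ∧ b ≠ zeta a := by
    constructor <;> rintro rfl
    · rw [Q_self] at hab; norm_num at hab
    · rw [Q_symm, Q_zeta, Q_self] at hab; norm_num at hab
  rcases rsR_neg hab (hneg a ha) with h1 | h1 | h1 | h1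
  · simp [h1]
  · simp [h1, hz, zeta_apply]
  all_goals
    have hdb : d b = a ∨ d b = zeta a := by
      rcases rsR_neg hab (hneg b hb) with h2 | h2 | h2 | h2
      · exact Or.inl h2
      · exact Or.inr h2
      all_goals
        exfalso
        first
          | exact hba.1 (d.injective (h2.trans h1.symm))
          | exact hba.2 (d.injective (by rw [h2, hz, h1, zeta_apply]))
          | exact hba.2 (d.injective (by rw [h2, hz, h1]))
    rcases hdb with h2 | h2 <;> simp [h1, h2, hz, zeta_apply]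

theorem oddC_fix {w : Perm (Fin 240)} {a : Fin 240}
    (h : ∀ d ∈ W0, Odd (orderOf d) → d * w = w * d → d a = a) {x : Perm (Fin 240)} (hx : x ∈ OddC w) : x a = a := by
  have hle : OddC w ≤ MulAction.stabilizer (Perm (Fin 240)) a := (closure_le _).mpr fun d hd =>
    MulAction.mem_stabilizer_iff.mpr (h d hd.1 hd.2.1 hd.2.2)
  exact MulAction.mem_stabilizer_iff.mp (hle hx)

theorem not_one {w : Perm (Fin 240)} (h : Ty 1 w) : zeta ∉ OddC w := fun hz => by
  obtain ⟨a, rfl⟩ := ty_one_iff.mp h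
  exact zeta_ne_self a (oddC_fix (fun d hd ho hc => odd_fix_one (mem_W0.mp hd).1 ho hc) hz)

theorem not_two {w : Perm (Fin 240)} (h : Ty 2 w) : zeta ∉ OddC w ∧ w ∉ OddC w := by
  obtain ⟨v, hv, rfl⟩ := pull h
  rw [rep_one.2]
  have h0 : Q 0 13 = 0 := by decide +kernel
  have e : v * (rP 0 * rP 13) * v⁻¹ = rP (v 0) * rP (v 13) := by
    rw [← conj_rP hv, ← conj_rP hv]; group
  rw [e]
  have hq : Q (v 0) (v 13) = 0 := (hv 0 13).trans h0
  have hfix : ∀ {x}, x ∈ OddC (rP (v 0) * rP (v 13)) → x (v 0) = v 0 := fun hx =>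
    oddC_fix (fun d hd ho hc => odd_fix_two hq (mem_W0.mp hd).1 ho hc) hx
  refine ⟨fun hz => zeta_ne_self _ (hfix hz), fun hx => ?_⟩
  have := hfix hx
  rw [Perm.mul_apply, rP_orth_fix (a := v 13) (b := v 0) (by rw [Q_symm]; exact hq), rP_self] at this
  exact zeta_ne_self _ this

/-- The six roots negated by the product of three reflections, in order. -/
def sixPts : List ℕ := [0, 13, 90, 149, 226, 239]

theorem six_ok' : ((List.range 240).all fun i =>
    (Nat.beq (wF (rW 3) i) (239 - i) == sixPts.any (Nat.beq i))) = true := by decide +kernel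

/-- One of the six roots. -/
def sp6 (j : Fin 6) : Fin 240 := Fin.ofNat 240 (sixPts.getD j 0)

/-- The place among the six roots. -/
def pos6 (i : Fin 240) : Fin 6 := Fin.ofNat 6 (sixPts.idxOf (i : ℕ))

theorem sp6_ok : ∀ j : Fin 6, pos6 (sp6 j) = j ∧ wF (rW 3) (sp6 j) = 239 - (sp6 j : ℕ) ∧
    (sp6 (Fin.rev j) : ℕ) = 239 - (sp6 j : ℕ) := by decide +kernel

theorem neg_sp6 {i : Fin 240} : repP 3 i = zeta i ↔ sp6 (pos6 i) = i := by
  have e : ((repP 3 i : Fin 240) : ℕ) = wF (rW 3) i := by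
    rw [← ev_val, show repP 3 = wP (rW 3) from rfl, ev_wP _ i.2]
  constructor
  · intro h
    have h' := List.all_eq_true.mp six_ok' i (List.mem_range.mpr i.2)
    rw [beq_iff_eq, ← e, h, zeta_val, Nat.beq_refl] at h'
    obtain ⟨c, hc, hc'⟩ := List.any_eq_true.mp h'.symm
    rw [beq_iff] at hc'
    refine Fin.ext ?_
    simp only [sixPts, List.mem_cons, List.not_mem_nil, or_false] at hc
    rcases hc with rfl | rfl | rfl | rfl | rfl | rfl <;>
      simp [sp6, pos6, sixPts, hc', List.idxOf, List.findIdx, List.findIdx.go]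
  · intro h
    refine Fin.ext ?_
    rw [e, zeta_val, ← h]
    exact (sp6_ok _).2.1

theorem zeta_sp6 (j : Fin 6) : zeta (sp6 j) = sp6 (Fin.rev j) :=
  Fin.ext (by rw [zeta_val, (sp6_ok j).2.2])

/-- The action of the centraliser on the six roots. -/
noncomputable def psi : ↥(Wf ⊓ centralizer {repP 3}) →* Perm (Fin 6) :=
  have hk : ∀ d : ↥(Wf ⊓ centralizer {repP 3}), ∀ j, sp6 (pos6 ((d : Perm (Fin 240)) (sp6 j))) = (d : Perm (Fin 240)) (sp6 j) :=
    fun d j => by
      obtain ⟨hd, hc⟩ := mem_inf.mp d.2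
      have hj : repP 3 (sp6 j) = zeta (sp6 j) := neg_sp6.mpr (by rw [(sp6_ok j).1])
      refine neg_sp6.mp ?_
      rw [← Perm.mul_apply, ← mem_centralizer_singleton_iff.mp hc, Perm.mul_apply, hj, ← Perm.mul_apply,
        ← zeta_comm hd, Perm.mul_apply]
  MonoidHom.mk' (fun d =>
    { toFun := fun j => pos6 ((d : Perm (Fin 240)) (sp6 j))
      invFun := fun j => pos6 ((d⁻¹ : ↥(Wf ⊓ centralizer {repP 3})).1 (sp6 j))
      left_inv := fun j => by simp [hk, (sp6_ok j).1]
      right_inv := fun j => by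
        have h := hk d⁻¹ j
        simp only [InvMemClass.coe_inv] at h ⊢
        rw [h]
        simp [(sp6_ok j).1] }) fun d e => Equiv.ext fun j => by
    show pos6 ((d * e).1 (sp6 j)) = pos6 (d.1 (sp6 (pos6 (e.1 (sp6 j)))))
    rw [hk e j]; rfl

theorem psi_apply (d : ↥(Wf ⊓ centralizer {repP 3})) (j : Fin 6) :
    psi d j = pos6 ((d : Perm (Fin 240)) (sp6 j)) := rfl

theorem not_three {w : Perm (Fin 240)} (h : Ty 3 w) : zeta ∉ OddC w := fun hz => by
  obtain ⟨v, hv, rfl⟩ := pull h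
  have hz' := oddC_conj (inv_mem hv) hz
  rw [inv_inv, show v⁻¹ * zeta * v = zeta by rw [mul_assoc, zeta_comm hv, inv_mul_cancel_left],
    show v⁻¹ * (v * repP 3 * v⁻¹) * v = repP 3 by group] at hz'
  have hle : OddC (repP 3) ≤ ((Perm.sign.comp psi).ker).map (Wf ⊓ centralizer {repP 3}).subtype :=
    (closure_le _).mpr fun d ⟨h1, h2, h3⟩ => by
      have hd : d ∈ Wf ⊓ centralizer {repP 3} :=
        mem_inf.mpr ⟨(mem_W0.mp h1).1, mem_centralizer_singleton_iff.mpr h3⟩
      refine ⟨⟨d, hd⟩, MonoidHom.mem_ker.mpr ?_, rfl⟩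
      have hp : (Perm.sign.comp psi) ⟨d, hd⟩ ^ orderOf d = 1 := by
        rw [← map_pow, show (⟨d, hd⟩ : ↥(Wf ⊓ centralizer {repP 3})) ^ orderOf d = 1 from
          Subtype.ext (by rw [SubmonoidClass.coe_pow, pow_orderOf_eq_one]; rfl), map_one]
      rcases Int.units_eq_one_or ((Perm.sign.comp psi) ⟨d, hd⟩) with e | e
      · exact e
      · rw [e, h2.neg_one_pow] at hp; simp at hp
  obtain ⟨d, hd, e⟩ := hle hz'
  have hrev : psi d = Fin.revPerm := Equiv.ext fun j => by
    rw [psi_apply, show (d : Perm (Fin 240)) = zeta from e, zeta_sp6, (sp6_ok _).1]; rfl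
  have h1 : Perm.sign (psi d) = 1 := MonoidHom.mem_ker.mp hd
  rw [hrev] at h1
  exact absurd h1 (by decide +kernel)

theorem refl_ok : ((List.range 240).all fun c =>
    !(eqB ([c] ++ rW 2) (rW 2 ++ [c])) ||
      (Nat.beq (sF (wF (rW 2 ++ [c]))).1 126 && Nat.beq (sF (wF (rW 2 ++ [c]))).2 2) ||
      (Nat.beq (sF (wF (rW 2 ++ [c]))).1 26 && Nat.beq (sF (wF (rW 2 ++ [c]))).2 6)) = true := by decide +kernel

theorem wP_single (c : Fin 240) : wP [(c : ℕ)] = rP c := by simp [wP, rPn]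

theorem rs_refl {w : Perm (Fin 240)} (h : Ty 2 w) {c : Fin 240} (hc : rP c * w = w * rP c) :
    sig (w * rP c) = (126, 2) ∨ sig (w * rP c) = (26, 6) := by
  obtain ⟨v, hv, rfl⟩ := pull h
  set c' := v⁻¹ c
  have ec : rP c = v * rP c' * v⁻¹ := by rw [conj_rP hv]; simp [c']
  rw [ec] at hc ⊢
  have hc' : rP c' * repP 2 = repP 2 * rP c' := by
    have := congrArg (fun t => v⁻¹ * t * v) hc
    simpa [mul_assoc] using this
  rw [show v * repP 2 * v⁻¹ * (v * rP c' * v⁻¹) = v * (repP 2 * rP c') * v⁻¹ by group, sig_conj hv,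
    show repP 2 * rP c' = wP (rW 2 ++ [(c' : ℕ)]) by rw [wP_append, wP_single]; rfl, sig_wP]
  have h0 := List.all_eq_true.mp refl_ok c' (List.mem_range.mpr c'.2)
  have hcb : eqB ([(c' : ℕ)] ++ rW 2) (rW 2 ++ [(c' : ℕ)]) = true := List.all_eq_true.mpr fun x hx => by
    have hx' := sep_lt places_ok.1 x hx
    rw [← ev_wP _ hx', ← ev_wP _ hx', wP_append, wP_append, wP_single, show wP (rW 2) = repP 2 from rfl, hc',
      Nat.beq_refl]
  rw [hcb, Bool.not_true, Bool.false_or, Bool.or_eq_true, Bool.and_eq_true, Bool.and_eq_true, beq_iff, beq_iff,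
    beq_iff, beq_iff] at h0
  exact h0.imp (fun h => Prod.ext h.1 h.2) fun h => Prod.ext h.1 h.2

end CfsgLib.O8Two
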