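/-
A standard double cover of the plus-type group in dimension eight over two elements, with cyclic centraliser
Sylow 2-subgroups: how the centraliser of the central involution acts on it.
-/
import Cfsg.Prelude.Def_Local
import Cfsg.Agent.Lib.StdO8Two.AutW
import Cfsg.Agent.Lib.StdO8Two.Fix

set_option autoImplicit false
set_option linter.unusedSectionVars false
set_option linter.style.haveILetI false

namespace CfsgLib.O8Two

open Equiv Subgroup

universe u

variable {G : Type u} [Group G] [Finite G]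

/-- The data of the configuration. -/
structure Setting (G : Type u) [Group G] [Finite G] where
  /-- The component. -/
  L : Subgroup G
  /-- Its central involution. -/
  z : G
  z_ne : z ≠ 1
  z_sq : z * z = 1
  zL : z ∈ L
  z_cent : ∀ l ∈ L, l * z = z * l
  cent : centralizer ({z} : Set G) = normalizer (L : Set G)
  /-- The component as the even symmetries. -/
  eps : ↥L ≃* ↥W0
  eps_z : eps ⟨z, zL⟩ = zW
  inv_K : ∀ k ∈ centralizer (L : Set G), k * k = 1 → k = 1 ∨ k = z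
  /-- The odd core of the centraliser. -/
  O : Subgroup G
  O_le : O ≤ centralizer (L : Set G)
  O_odd : ∀ o ∈ O, Odd (orderOf o)
  O_mem : ∀ k ∈ centralizer (L : Set G), Odd (orderOf k) → k ∈ O

theorem pow_odd_part {g : G} {a b : ℕ} (hcard : Nat.card G = 2 ^ a * b) (hb : Odd b) {m : ℕ} (hm : 2 ^ a ∣ m) :
    Odd (orderOf (g ^ m)) :=
  hb.of_dvd_nat (orderOf_dvd_of_pow_eq_one (by
    rw [← pow_mul]
    exact orderOf_dvd_iff_pow_eq_one.mp ((orderOf_dvd_natCard g).trans (hcard ▸ Nat.mul_dvd_mul hm dvd_rfl))))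

theorem orderOf_conj' (g d : G) : orderOf (g * d * g⁻¹) = orderOf d :=
  MulEquiv.orderOf_eq (MulAut.conj g) d

theorem eq_one_of_odd_two {g : G} (h : Odd (orderOf g)) {j : ℕ} (hj : g ^ (2 ^ j) = 1) : g = 1 := by
  obtain ⟨i, -, hi⟩ := (Nat.dvd_prime_pow Nat.prime_two).mp (orderOf_dvd_of_pow_eq_one hj)
  rw [hi] at h
  have : i = 0 := by
    by_contra h0
    exact (Nat.not_odd_iff_even.mpr (Nat.even_pow.mpr ⟨even_two, h0⟩)) h
  rw [← orderOf_eq_one_iff, hi, this, pow_zero]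

namespace Setting

variable (D : Setting G)

theorem N_iff {n : G} : n ∈ normalizer (D.L : Set G) ↔ n * D.z = D.z * n := by
  rw [← D.cent, mem_centralizer_singleton_iff]

theorem L_le_N : D.L ≤ normalizer (D.L : Set G) := le_normalizer

theorem conj_mem {n l : G} (hn : n * D.z = D.z * n) (hl : l ∈ D.L) : n * l * n⁻¹ ∈ D.L :=
  (mem_normalizer_iff.mp (D.N_iff.mpr hn) l).mp hl

theorem K_comm {k l : G} (hk : k ∈ centralizer (D.L : Set G)) (hl : l ∈ D.L) : l * k = k * l :=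
  mem_centralizer_iff.mp hk l hl

theorem K_z {k : G} (hk : k ∈ centralizer (D.L : Set G)) : k * D.z = D.z * k := (D.K_comm hk D.zL).symm

theorem z_mem_K : D.z ∈ centralizer (D.L : Set G) := mem_centralizer_iff.mpr fun l hl => D.z_cent l hl

theorem conj_K {n k : G} (hn : n * D.z = D.z * n) (hk : k ∈ centralizer (D.L : Set G)) :
    n * k * n⁻¹ ∈ centralizer (D.L : Set G) := by
  refine mem_centralizer_iff.mpr fun l hl => ?_
  have h : n⁻¹ * l * n ∈ D.L := (mem_normalizer_iff''.mp (D.N_iff.mpr hn) l).mp hl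
  calc l * (n * k * n⁻¹) = n * ((n⁻¹ * l * n) * k) * n⁻¹ := by group
    _ = n * (k * (n⁻¹ * l * n)) * n⁻¹ := by rw [D.K_comm hk h]
    _ = n * k * n⁻¹ * l := by group

theorem conj_O {n o : G} (hn : n * D.z = D.z * n) (ho : o ∈ D.O) : n * o * n⁻¹ ∈ D.O := by
  refine D.O_mem _ (D.conj_K hn (D.O_le ho)) ?_
  rw [orderOf_conj']
  exact D.O_odd o ho

theorem z_notin_O : D.z ∉ D.O := fun h =>
  D.z_ne (eq_one_of_odd_two (D.O_odd _ h) (j := 1) (by rw [pow_one, pow_two, D.z_sq]))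

/-! ### The component as symmetries -/

open Classical in
/-- The symmetry of an element of the component. -/
noncomputable def em (g : G) : Perm (Fin 240) := if h : g ∈ D.L then (D.eps ⟨g, h⟩ : Perm (Fin 240)) else 1

theorem em_coe (l : ↥D.L) : D.em l = (D.eps l : Perm (Fin 240)) := by
  rw [em, dif_pos l.2]

theorem em_mem {l : G} (hl : l ∈ D.L) : D.em l ∈ W0 := by
  rw [show l = ((⟨l, hl⟩ : ↥D.L) : G) from rfl, D.em_coe]; exact SetLike.coe_mem _

theorem em_Wf {l : G} (hl : l ∈ D.L) : D.em l ∈ Wf := (mem_W0.mp (D.em_mem hl)).1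

theorem em_mul {l m : G} (hl : l ∈ D.L) (hm : m ∈ D.L) : D.em (l * m) = D.em l * D.em m := by
  simp only [em, dif_pos hl, dif_pos hm, dif_pos (mul_mem hl hm)]
  rw [← Subgroup.coe_mul, ← map_mul]
  rfl

theorem em_one : D.em 1 = 1 := by
  rw [show (1 : G) = ((1 : ↥D.L) : G) from rfl, D.em_coe, map_one]; rfl

theorem em_inv {l : G} (hl : l ∈ D.L) : D.em l⁻¹ = (D.em l)⁻¹ := by
  refine eq_inv_of_mul_eq_one_left ?_
  rw [← D.em_mul (inv_mem hl) hl, inv_mul_cancel, D.em_one]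

theorem em_pow {l : G} (hl : l ∈ D.L) (n : ℕ) : D.em (l ^ n) = D.em l ^ n := by
  induction n with
  | zero => simp [D.em_one]
  | succ n ih => rw [pow_succ, pow_succ, D.em_mul (pow_mem hl n) hl, ih]

theorem em_z : D.em D.z = zeta := by
  rw [show D.z = ((⟨D.z, D.zL⟩ : ↥D.L) : G) from rfl, D.em_coe, D.eps_z]; rfl

theorem em_inj {l m : G} (hl : l ∈ D.L) (hm : m ∈ D.L) (h : D.em l = D.em m) : l = m := by
  rw [show l = ((⟨l, hl⟩ : ↥D.L) : G) from rfl, show m = ((⟨m, hm⟩ : ↥D.L) : G) from rfl, D.em_coe, D.em_coe] at h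
  exact congrArg Subtype.val (D.eps.injective (Subtype.ext h))

theorem em_surj {w : Perm (Fin 240)} (hw : w ∈ W0) : ∃ l ∈ D.L, D.em l = w :=
  ⟨(D.eps.symm ⟨w, hw⟩ : G), SetLike.coe_mem _, by rw [D.em_coe, MulEquiv.apply_symm_apply]⟩

theorem em_conj {l m : G} (hl : l ∈ D.L) (hm : m ∈ D.L) : D.em (m * l * m⁻¹) = D.em m * D.em l * (D.em m)⁻¹ := by
  rw [D.em_mul (mul_mem hm hl) (inv_mem hm), D.em_mul hm hl, D.em_inv hm]

theorem em_orderOf {l : G} (hl : l ∈ D.L) : orderOf (D.em l) = orderOf l := by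
  rw [show l = ((⟨l, hl⟩ : ↥D.L) : G) from rfl, D.em_coe, Subgroup.orderOf_coe, Subgroup.orderOf_coe]
  exact MulEquiv.orderOf_eq D.eps _

/-! ### The action -/

/-- `n` acts on the component as the symmetry `w`. -/
def Acts (n : G) (w : Perm (Fin 240)) : Prop :=
  w ∈ Wf ∧ ∀ l ∈ D.L, D.em (n * l * n⁻¹) = w * D.em l * w⁻¹

theorem act_exists {n : G} (hn : n * D.z = D.z * n) : ∃ w, D.Acts n w := by
  let N := normalizer (D.L : Set G)
  let c : ↥D.L ≃* ↥D.L :=
    { toFun := fun l => ⟨n * l * n⁻¹, D.conj_mem hn l.2⟩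
      invFun := fun l => ⟨n⁻¹ * l * n, (mem_normalizer_iff''.mp (D.N_iff.mpr hn) _).mp l.2⟩
      left_inv := fun l => Subtype.ext (by simp [mul_assoc])
      right_inv := fun l => Subtype.ext (by simp [mul_assoc])
      map_mul' := fun l m => Subtype.ext (by simp [mul_assoc]) }
  obtain ⟨v, hv, e⟩ := aut_W0 ((D.eps.symm.trans c).trans D.eps)
  refine ⟨v, hv, fun l hl => ?_⟩
  have := e (D.eps ⟨l, hl⟩)
  simp only [MulEquiv.trans_apply, MulEquiv.symm_apply_apply] at this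
  rw [show l = ((⟨l, hl⟩ : ↥D.L) : G) from rfl, D.em_coe, ← this,
    show n * ((⟨l, hl⟩ : ↥D.L) : G) * n⁻¹ = ((c ⟨l, hl⟩ : ↥D.L) : G) from rfl, D.em_coe]

theorem act_L {l : G} (hl : l ∈ D.L) : D.Acts l (D.em l) := ⟨D.em_Wf hl, fun _ hm => D.em_conj hm hl⟩

theorem act_K {k : G} (hk : k ∈ centralizer (D.L : Set G)) : D.Acts k 1 :=
  ⟨one_mem _, fun l hl => by rw [← D.K_comm hk hl, mul_inv_cancel_right, inv_one, one_mul, mul_one]⟩

theorem act_mul {n m : G} {v w : Perm (Fin 240)} (hm : m * D.z = D.z * m) (h1 : D.Acts n v) (h2 : D.Acts m w) :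
    D.Acts (n * m) (v * w) := by
  refine ⟨mul_mem h1.1 h2.1, fun l hl => ?_⟩
  rw [show n * m * l * (n * m)⁻¹ = n * (m * l * m⁻¹) * n⁻¹ by group, h1.2 _ (D.conj_mem hm hl), h2.2 l hl]
  group

theorem act_inv {n : G} {v : Perm (Fin 240)} (hn : n * D.z = D.z * n) (h : D.Acts n v) : D.Acts n⁻¹ v⁻¹ := by
  refine ⟨inv_mem h.1, fun l hl => ?_⟩
  have hn' : n⁻¹ * D.z = D.z * n⁻¹ := (Commute.inv_left (show Commute n D.z from hn)).eq
  have := h.2 _ (D.conj_mem hn' hl)
  rw [show n * (n⁻¹ * l * n⁻¹⁻¹) * n⁻¹ = l by group] at this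
  rw [this]
  group

theorem act_zeta {n : G} {v : Perm (Fin 240)} (h : D.Acts n v) : D.Acts n (zeta * v) := by
  refine ⟨mul_mem zeta_mem h.1, fun l hl => ?_⟩
  rw [h.2 l hl]
  have hw : v * D.em l * v⁻¹ ∈ Wf := mul_mem (mul_mem h.1 (D.em_Wf hl)) (inv_mem h.1)
  rw [show zeta * v * D.em l * (zeta * v)⁻¹ = zeta * (v * D.em l * v⁻¹) * zeta⁻¹ by group, zeta_comm hw,
    mul_inv_cancel_right]

theorem act_unique {n : G} {v w : Perm (Fin 240)} (h1 : D.Acts n v) (h2 : D.Acts n w) : w = v ∨ w = zeta * v := by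
  have hc : ∀ g ∈ W0, v⁻¹ * w * g = g * (v⁻¹ * w) := fun g hg => by
    obtain ⟨l, hl, rfl⟩ := D.em_surj hg
    have e := (h1.2 l hl).symm.trans (h2.2 l hl)
    calc v⁻¹ * w * D.em l = v⁻¹ * (w * D.em l * w⁻¹) * w := by group
      _ = v⁻¹ * (v * D.em l * v⁻¹) * w := by rw [e]
      _ = D.em l * (v⁻¹ * w) := by group
  rcases eq_pm_of_commute (mul_mem (inv_mem h1.1) h2.1) hc with e | e
  · exact Or.inl (by rw [inv_mul_eq_one] at e; exact e.symm)
  · exact Or.inr (by rw [zeta_comm h1.1, ← e, mul_inv_cancel_left])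

theorem act_one_K {n : G} (hn : n * D.z = D.z * n) (h : D.Acts n 1) : n ∈ centralizer (D.L : Set G) := by
  refine mem_centralizer_iff.mpr fun l hl => ?_
  have := D.em_inj (D.conj_mem hn hl) hl (by rw [h.2 l hl]; group)
  exact (mul_inv_eq_iff_eq_mul.mp this).symm

theorem act_pm_K {n : G} (hn : n * D.z = D.z * n) {w : Perm (Fin 240)} (h : D.Acts n w) (hw : w = 1 ∨ w = zeta) :
    n ∈ centralizer (D.L : Set G) := by
  rcases hw with rfl | rfl
  · exact D.act_one_K hn h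
  · refine D.act_one_K hn ?_
    have := D.act_zeta h
    rwa [zeta_sq] at this

theorem comm_of_act {n l : G} {w : Perm (Fin 240)} (h : D.Acts n w) (hl : l ∈ D.L)
    (hnl : n * l = l * n) : w * D.em l = D.em l * w := by
  have := h.2 l hl
  rw [show n * l * n⁻¹ = l by rw [hnl, mul_inv_cancel_right]] at this
  exact (eq_mul_inv_iff_mul_eq.mp this).symm

theorem act_comm {n l : G} {w : Perm (Fin 240)} (hn : n * D.z = D.z * n) (h : D.Acts n w) (hl : l ∈ D.L)
    (hc : w * D.em l = D.em l * w) : n * l = l * n := by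
  refine mul_inv_eq_iff_eq_mul.mp (D.em_inj (D.conj_mem hn hl) hl ?_)
  rw [h.2 l hl, hc, mul_inv_cancel_right]

/-- An inner symmetry comes from the component times its centraliser. -/
theorem inner {n : G} {w : Perm (Fin 240)} (hn : n * D.z = D.z * n) (h : D.Acts n w) (hw : w ∈ W0) :
    ∃ l ∈ D.L, ∃ k ∈ centralizer (D.L : Set G), n = l * k ∧ D.em l = w := by
  obtain ⟨l, hl, rfl⟩ := D.em_surj hw
  refine ⟨l, hl, l⁻¹ * n, ?_, by group, rfl⟩
  refine D.act_one_K ?_ ?_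
  · rw [mul_assoc, hn, ← mul_assoc, ← mul_assoc, D.z_cent _ (inv_mem hl)]
  · have := D.act_mul hn (D.act_L (inv_mem hl)) h
    rwa [D.em_inv hl, inv_mul_cancel] at this

theorem K_inv_L {k : G} (hkL : k ∈ D.L) (hk : k ∈ centralizer (D.L : Set G)) : k = 1 ∨ k = D.z := by
  have hc : ∀ g ∈ W0, D.em k * g = g * D.em k := fun g hg => by
    obtain ⟨l, hl, rfl⟩ := D.em_surj hg
    rw [← D.em_mul hkL hl, ← D.em_mul hl hkL, D.K_comm hk hl]
  rcases eq_pm_of_commute (D.em_Wf hkL) hc with e | e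
  · exact Or.inl (D.em_inj hkL (one_mem _) (by rw [e, D.em_one]))
  · exact Or.inr (D.em_inj hkL D.zL (by rw [e, D.em_z]))

/-- The symmetry of an involution has central square. -/
theorem act_sq {x : G} {w : Perm (Fin 240)} (hx : x * D.z = D.z * x) (hx2 : x * x = 1) (h : D.Acts x w) :
    w * w = 1 ∨ w * w = zeta := by
  have h1 := D.act_mul hx h h
  rw [hx2] at h1
  have h0 := D.act_L (one_mem D.L)
  rw [D.em_one] at h0
  rcases D.act_unique h0 h1 with e | e
  · exact Or.inl e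
  · exact Or.inr (by rw [e, mul_one])

/-- An involution acting as an inner involution lies in the component. -/
theorem inv_inner {x : G} {w : Perm (Fin 240)} (hx : x * D.z = D.z * x) (hx2 : x * x = 1) (h : D.Acts x w)
    (hw : w ∈ W0) (hw2 : w * w = 1) : x ∈ D.L ∧ (D.em x = w ∨ D.em x = zeta * w) := by
  obtain ⟨l, hl, k, hk, rfl, hlw⟩ := D.inner hx h hw
  have hlk : l * k = k * l := D.K_comm hk hl
  have hll : l * l = 1 := D.em_inj (mul_mem hl hl) (one_mem _) (by rw [D.em_mul hl hl, hlw, hw2, D.em_one])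
  have hkk : k * k = 1 := by
    rw [← hx2, show l * k * (l * k) = l * (k * l) * k by group, ← hlk, show l * (l * k) * k = l * l * (k * k) by group,
      hll, one_mul]
  rcases D.inv_K k hk hkk with rfl | rfl
  · rw [mul_one]; exact ⟨hl, Or.inl hlw⟩
  · exact ⟨mul_mem hl D.zL, Or.inr (by rw [D.em_mul hl D.zL, hlw, D.em_z, zeta_comm (hlw ▸ D.em_Wf hl)])⟩

/-! ### Odd elements -/

theorem odd_dec {d : G} (hdz : d * D.z = D.z * d) (hd : Odd (orderOf d)) :
    ∃ l ∈ D.L, ∃ o ∈ D.O, d = l * o ∧ Odd (orderOf l) := by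
  obtain ⟨w, hw⟩ := D.act_exists hdz
  have hpow : ∀ n : ℕ, D.Acts (d ^ n) (w ^ n) := fun n => by
    induction n with
    | zero =>
      rw [pow_zero, pow_zero]
      exact D.act_K (one_mem _)
    | succ n ih => rw [pow_succ, pow_succ]; exact D.act_mul hdz ih hw
  have h1 := hpow (orderOf d)
  rw [pow_orderOf_eq_one] at h1
  have hsgn : Perm.sign w = 1 := by
    have e : Perm.sign w ^ orderOf d = 1 := by
      rw [← map_pow]
      rcases D.act_unique (D.act_K (one_mem _)) h1 with e | e <;> rw [e]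
      · exact map_one _
      · rw [mul_one, sign_zeta]
    rcases Int.units_eq_one_or (Perm.sign w) with e' | e'
    · exact e'
    · rw [e', hd.neg_one_pow] at e; simp at e
  obtain ⟨l, hl, k, hk, hdk, -⟩ := D.inner hdz hw (mem_W0.mpr ⟨hw.1, hsgn⟩)
  obtain ⟨a, b, hb, hcard⟩ := Nat.exists_eq_pow_mul_and_not_dvd (Nat.card_pos (α := G)).ne' 2 (by norm_num)
  have hbo : Odd b := Nat.odd_iff.mpr (Nat.two_dvd_ne_zero.mp hb)
  have hcop : Nat.Coprime (orderOf d) (2 ^ a) := (Nat.coprime_two_right.mpr hd).pow_right a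
  obtain ⟨m, hm1, hm2⟩ := Nat.chineseRemainder hcop 1 0
  have hm : 2 ^ a ∣ m := Nat.modEq_zero_iff_dvd.mp hm2
  have hdm : d ^ m = d := by
    rw [pow_eq_pow_mod m (pow_orderOf_eq_one d), hm1, ← pow_eq_pow_mod 1 (pow_orderOf_eq_one d), pow_one]
  refine ⟨l ^ m, pow_mem hl m, k ^ m, D.O_mem _ (pow_mem hk m) (pow_odd_part hcard hbo hm), ?_,
    pow_odd_part hcard hbo hm⟩
  rw [← (show Commute l k from D.K_comm hk hl).mul_pow, ← hdk, hdm]

theorem dec_unique {l l' o o' : G} (hl : l ∈ D.L) (hl' : l' ∈ D.L) (ho : o ∈ D.O) (ho' : o' ∈ D.O)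
    (h : l * o = l' * o') : l = l' ∧ o = o' := by
  have e : l'⁻¹ * l = o' * o⁻¹ := by
    rw [inv_mul_eq_iff_eq_mul, ← mul_assoc, ← h, mul_inv_cancel_right]
  rcases D.K_inv_L (mul_mem (inv_mem hl') hl) (e ▸ mul_mem (D.O_le ho') (inv_mem (D.O_le ho))) with e1 | e1
  · have hll : l' = l := inv_mul_eq_one.mp e1
    subst hll
    exact ⟨rfl, mul_left_cancel h⟩
  · exfalso
    have := mul_mem ho' (inv_mem ho)
    rw [← e, e1] at this
    exact D.z_notin_O this

theorem dec_comm {n l o : G} (hn : n * D.z = D.z * n) (hl : l ∈ D.L) (ho : o ∈ D.O)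
    (h : n * (l * o) = l * o * n) : n * l = l * n ∧ n * o = o * n := by
  have e : n * l * n⁻¹ * (n * o * n⁻¹) = l * o := by
    rw [show n * l * n⁻¹ * (n * o * n⁻¹) = n * (l * o) * n⁻¹ by group, h, mul_inv_cancel_right]
  obtain ⟨e1, e2⟩ := D.dec_unique (D.conj_mem hn hl) hl (D.conj_O hn ho) ho e
  exact ⟨mul_inv_eq_iff_eq_mul.mp e1, mul_inv_eq_iff_eq_mul.mp e2⟩

/-- The subgroup generated by the elements of odd order centralising `z` and `x`. -/
def Dg (x : G) : Subgroup G :=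
  closure {d | Odd (orderOf d) ∧ d * D.z = D.z * d ∧ d * x = x * d}

theorem Dg_comm {x y : G} (h : y ∈ D.Dg x) : y * D.z = D.z * y ∧ y * x = x * y := by
  have : D.Dg x ≤ centralizer {D.z} ⊓ centralizer {x} := (closure_le _).mpr fun d hd =>
    mem_inf.mpr ⟨mem_centralizer_singleton_iff.mpr hd.2.1, mem_centralizer_singleton_iff.mpr hd.2.2⟩
  obtain ⟨h1, h2⟩ := mem_inf.mp (this h)
  exact ⟨mem_centralizer_singleton_iff.mp h1, mem_centralizer_singleton_iff.mp h2⟩

theorem Dg_conj {g x y : G} (hg : g * x * g⁻¹ = D.z) (h : y ∈ D.Dg x) :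
    g * y * g⁻¹ ∈ D.Dg (g * D.z * g⁻¹) := by
  have : (D.Dg x).map (MulAut.conj g).toMonoidHom ≤ D.Dg (g * D.z * g⁻¹) := by
    rw [Dg, MonoidHom.map_closure, closure_le]
    rintro _ ⟨d, ⟨h1, h2, h3⟩, rfl⟩
    refine subset_closure ?_
    simp only [MulEquiv.coe_toMonoidHom, MulAut.conj_apply, Set.mem_setOf_eq]
    refine ⟨by rwa [orderOf_conj'], ?_, ?_⟩
    · rw [← hg, show g * d * g⁻¹ * (g * x * g⁻¹) = g * (d * x) * g⁻¹ by group, h3]; group
    · rw [show g * d * g⁻¹ * (g * D.z * g⁻¹) = g * (d * D.z) * g⁻¹ by group, h2]; group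
  exact this ⟨y, h, rfl⟩

theorem Dg_dec {x : G} {w : Perm (Fin 240)} (hxz : x * D.z = D.z * x) (hx : D.Acts x w) {y : G} (hy : y ∈ D.Dg x) :
    ∃ l ∈ D.L, ∃ o ∈ D.O, y = l * o ∧ D.em l ∈ OddC w := by
  induction hy using closure_induction with
  | mem d hd =>
    obtain ⟨l, hl, o, ho, rfl, hlo⟩ := D.odd_dec hd.2.1 hd.1
    refine ⟨l, hl, o, ho, rfl, subset_closure ⟨D.em_mem hl, by rwa [D.em_orderOf hl], ?_⟩⟩
    exact (D.comm_of_act hx hl (D.dec_comm hxz hl ho hd.2.2.symm).1).symm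
  | one => exact ⟨1, one_mem _, 1, one_mem _, (one_mul 1).symm, by rw [D.em_one]; exact one_mem _⟩
  | mul a b _ _ ha hb =>
    obtain ⟨l, hl, o, ho, rfl, h⟩ := ha
    obtain ⟨l', hl', o', ho', rfl, h'⟩ := hb
    refine ⟨l * l', mul_mem hl hl', o * o', mul_mem ho ho', ?_, by rw [D.em_mul hl hl']; exact mul_mem h h'⟩
    rw [show l * o * (l' * o') = l * (o * l') * o' by group, ← D.K_comm (D.O_le ho) hl']
    group
  | inv a _ ha =>
    obtain ⟨l, hl, o, ho, rfl, h⟩ := ha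
    refine ⟨l⁻¹, inv_mem hl, o⁻¹, inv_mem ho, ?_, by rw [D.em_inv hl]; exact inv_mem h⟩
    rw [D.K_comm (D.O_le ho) hl, mul_inv_rev]

theorem Dg_L {x : G} {w : Perm (Fin 240)} (hxz : x * D.z = D.z * x) (hx : D.Acts x w) {y : G} (hy : y ∈ D.Dg x)
    (hyL : y ∈ D.L) : D.em y ∈ OddC w := by
  obtain ⟨l, hl, o, ho, e, h⟩ := D.Dg_dec hxz hx hy
  obtain ⟨rfl, -⟩ := D.dec_unique hyL hl (one_mem _) ho (by rw [mul_one]; exact e)
  exact h

theorem Dg_two {x : G} {w : Perm (Fin 240)} (hxz : x * D.z = D.z * x) (hx : D.Acts x w) {y : G} (hy : y ∈ D.Dg x)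
    {j : ℕ} (hj : y ^ (2 ^ j) = 1) : y ∈ D.L := by
  obtain ⟨l, hl, o, ho, rfl, -⟩ := D.Dg_dec hxz hx hy
  rw [(show Commute l o from D.K_comm (D.O_le ho) hl).mul_pow] at hj
  obtain ⟨-, e⟩ := D.dec_unique (pow_mem hl _) (one_mem _) (pow_mem ho _) (one_mem _) (by rw [hj, one_mul])
  rw [eq_one_of_odd_two (D.O_odd o ho) e, mul_one]
  exact hl

theorem Dg_of {x : G} {w : Perm (Fin 240)} (hxz : x * D.z = D.z * x) (hx : D.Acts x w) {l : G} (hl : l ∈ D.L)
    (h : D.em l ∈ OddC w) : l ∈ D.Dg x := by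
  suffices ∀ p ∈ OddC w, ∃ m ∈ D.L, D.em m = p ∧ m ∈ D.Dg x by
    obtain ⟨m, hm, e, hmD⟩ := this _ h
    rwa [D.em_inj hm hl e] at hmD
  intro p hp
  induction hp using closure_induction with
  | mem d hd =>
    obtain ⟨m, hm, rfl⟩ := D.em_surj hd.1
    refine ⟨m, hm, rfl, subset_closure ⟨by rw [← D.em_orderOf hm]; exact hd.2.1, D.z_cent m hm, ?_⟩⟩
    exact (D.act_comm hxz hx hm hd.2.2.symm).symm
  | one => exact ⟨1, one_mem _, D.em_one, one_mem _⟩
  | mul a b _ _ ha hb =>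
    obtain ⟨m, hm, rfl, hmD⟩ := ha
    obtain ⟨m', hm', rfl, hmD'⟩ := hb
    exact ⟨m * m', mul_mem hm hm', D.em_mul hm hm', mul_mem hmD hmD'⟩
  | inv a _ ha =>
    obtain ⟨m, hm, rfl, hmD⟩ := ha
    exact ⟨m⁻¹, inv_mem hm, D.em_inv hm, inv_mem hmD⟩

end Setting

/-- The configuration of the statement. -/
theorem exists_setting (L : Subgroup G) (hL : Cfsg.IsStandardSubgroup L) {F : Type*} [Field F] [Fintype F]
    (hF : Fintype.card F = 2) (hZ : Nat.card ↥(Subgroup.center ↥L) = 2)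
    (hLX : Nonempty ((↥L ⧸ Subgroup.center ↥L) ≃* Cfsg.POmega F (Cfsg.quadFormPlus 4 F)))
    (hR : ∀ R : Sylow 2 ↥(Subgroup.centralizer (L : Set G)),
      IsCyclic ↥(R : Subgroup ↥(Subgroup.centralizer (L : Set G)))) :
    ∃ D : Setting G, D.L = L := by
  classical
  obtain ⟨hq, hte, -, hN⟩ := hL
  obtain ⟨e0⟩ := hLX
  obtain ⟨e1⟩ := StemSylow.OEight.equiv_small hF
  let f : ↥L →* ↥Sg := (e0.trans e1).toMonoidHom.comp (QuotientGroup.mk' (Subgroup.center ↥L))
  have hfk : f.ker = Subgroup.center ↥L := by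
    rw [MonoidHom.ker_comp_of_injective _ _ (e0.trans e1).injective, QuotientGroup.ker_mk']
  have hperf : commutator ↥L = ⊤ := by
    haveI := hq.1
    exact Group.IsPerfect.commutator_eq_top
  obtain ⟨eps⟩ := iso_W0 f ⟨(e0.trans e1).surjective.comp (QuotientGroup.mk'_surjective _), hfk.le,
    fun x _ => hperf ▸ mem_top x⟩ (by rw [hfk, hZ])
  let z0 : ↥L := eps.symm zW
  have hcen : ∀ l : ↥L, l ∈ Subgroup.center ↥L ↔ l = 1 ∨ l = z0 := fun l => by
    have : l ∈ Subgroup.center ↥L ↔ eps l ∈ Subgroup.center ↥W0 := by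
      simp only [mem_center_iff]
      refine ⟨fun h g => ?_, fun h g => eps.injective (by rw [map_mul, map_mul, h])⟩
      obtain ⟨g, rfl⟩ := eps.surjective g
      rw [← map_mul, ← map_mul, h]
    rw [this, center_W0, MulEquiv.map_eq_one_iff, MulEquiv.eq_symm_apply]
  have hzne : (z0 : G) ≠ 1 := fun h => by
    have h0 : eps z0 = 1 := by rw [show z0 = 1 from Subtype.ext h, map_one]
    rw [show eps z0 = zW from eps.apply_symm_apply zW] at h0
    exact zeta_ne (congrArg Subtype.val h0)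
  have hzsq : (z0 : G) * z0 = 1 := by
    rw [← Subgroup.coe_mul, show z0 * z0 = 1 from eps.injective (by
      rw [map_mul, map_one, show eps z0 = zW from eps.apply_symm_apply zW]; exact Subtype.ext zeta_sq)]
    rfl
  have hzc : ∀ l ∈ L, l * (z0 : G) = z0 * l := fun l hl =>
    congrArg Subtype.val (mem_center_iff.mp ((hcen z0).mpr (Or.inr rfl)) ⟨l, hl⟩)
  set K := centralizer (L : Set G) with hK
  have hzK : (z0 : G) ∈ K := mem_centralizer_iff.mpr hzc
  have hz2 : orderOf (z0 : G) = 2 := orderOf_eq_prime (by rw [pow_two]; exact hzsq) hzne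
  have hcent : centralizer ({(z0 : G)} : Set G) = normalizer (L : Set G) := by
    refine le_antisymm ?_ ?_
    · intro g hg
      rw [hN]
      by_contra hgn
      have hodd := hte.2 g hgn
      have hmem : (z0 : G) ∈ K ⊓ K.map (MulAut.conj g).toMonoidHom := by
        refine mem_inf.mpr ⟨hzK, ⟨z0, hzK, ?_⟩⟩
        simp [MulAut.conj_apply, mem_centralizer_singleton_iff.mp hg]
      have h2 : 2 ∣ Nat.card ↥(K ⊓ K.map (MulAut.conj g).toMonoidHom) := by
        have h := Subgroup.orderOf_dvd_natCard _ hmem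
        rwa [hz2] at h
      exact (Nat.not_even_iff_odd.mpr hodd) (even_iff_two_dvd.mpr h2)
    · intro n hn
      refine mem_centralizer_singleton_iff.mpr ?_
      let c : ↥L ≃* ↥L :=
        { toFun := fun l => ⟨n * l * n⁻¹, (mem_normalizer_iff.mp hn _).mp l.2⟩
          invFun := fun l => ⟨n⁻¹ * l * n, (mem_normalizer_iff''.mp hn _).mp l.2⟩
          left_inv := fun l => Subtype.ext (by simp [mul_assoc])
          right_inv := fun l => Subtype.ext (by simp [mul_assoc])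
          map_mul' := fun l m => Subtype.ext (by simp [mul_assoc]) }
      have hc : c z0 ∈ Subgroup.center ↥L := mem_center_iff.mpr fun l => by
        obtain ⟨l, rfl⟩ := c.surjective l
        rw [← map_mul, ← map_mul, mem_center_iff.mp ((hcen z0).mpr (Or.inr rfl)) l]
      rcases (hcen _).mp hc with h | h
      · rw [MulEquiv.map_eq_one_iff] at h
        exact absurd (congrArg Subtype.val h) hzne
      · exact mul_inv_eq_iff_eq_mul.mp (congrArg Subtype.val h : n * (z0 : G) * n⁻¹ = z0)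
  have hinv : ∀ k ∈ K, k * k = 1 → k = 1 ∨ k = (z0 : G) := by
    intro k hk hk2
    by_cases h1 : k = 1
    · exact Or.inl h1
    refine Or.inr ?_
    have hkz : Commute k (z0 : G) := (mem_centralizer_iff.mp hk _ z0.2).symm
    have hk0 : orderOf k = 2 := orderOf_eq_prime (by rw [pow_two]; exact hk2) h1
    set a' : ↥K := ⟨k, hk⟩
    set b' : ↥K := ⟨(z0 : G), hzK⟩
    have h2 : ∀ {x : ↥K}, orderOf (x : G) = 2 → IsPGroup 2 ↥(zpowers x) := fun {x} hx => by
      refine IsPGroup.of_card (n := 1) ?_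
      rw [Nat.card_zpowers, ← Subgroup.orderOf_coe, hx, pow_one]
    have hn : zpowers a' ≤ normalizer (zpowers b' : Set ↥K) := by
      refine le_trans ?_ (Subgroup.centralizer_le_normalizer _)
      rw [zpowers_le]
      refine mem_centralizer_iff.mpr fun x hx => ?_
      obtain ⟨i, rfl⟩ := mem_zpowers_iff.mp hx
      exact ((show Commute a' b' from Subtype.ext hkz.eq).zpow_right i).eq.symm
    obtain ⟨R, hRle⟩ := ((h2 (x := a') hk0).to_sup_of_normal_right' (h2 (x := b') hz2) hn).exists_le_sylow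
    haveI := hR R
    let A : ↥(R : Subgroup ↥K) := ⟨a', hRle (mem_sup_left (mem_zpowers _))⟩
    let B : ↥(R : Subgroup ↥K) := ⟨b', hRle (mem_sup_right (mem_zpowers _))⟩
    have hA : orderOf A = 2 := by rw [← Subgroup.orderOf_coe, ← Subgroup.orderOf_coe]; exact hk0
    have hB : orderOf B = 2 := by rw [← Subgroup.orderOf_coe, ← Subgroup.orderOf_coe]; exact hz2
    haveI := Fintype.ofFinite ↥(R : Subgroup ↥K)
    have h1' : (Finset.univ.filter fun x : ↥(R : Subgroup ↥K) => orderOf x = 2).card = 1 := by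
      rw [IsCyclic.card_orderOf_eq_totient (by have h2 := orderOf_dvd_card (x := A); rwa [hA] at h2)]; rfl
    exact congrArg (fun x : ↥(R : Subgroup ↥K) => ((x : ↥K) : G))
      (Finset.card_le_one.mp h1'.le A (by simp [hA]) B (by simp [hB]))
  haveI : Fact (Nat.Prime 2) := ⟨Nat.prime_two⟩
  have hmin : (Nat.card ↥K).minFac = 2 := (Nat.minFac_eq_two_iff _).mpr (even_iff_two_dvd.mp hte.1)
  obtain ⟨P⟩ : Nonempty (Sylow 2 ↥K) := inferInstance
  have hcompl := IsCyclic.isComplement' hmin (hR P)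
  set T := (MonoidHom.transferSylow P ((hR P).normalizer_le_centralizer hmin)).ker with hT
  have hTodd : Odd (Nat.card ↥T) := by
    rw [← hcompl.index_eq_card]
    exact Nat.odd_iff.mpr (Nat.two_dvd_ne_zero.mp P.not_dvd_index)
  refine ⟨⟨L, z0, hzne, hzsq, z0.2, hzc, hcent, eps, eps.apply_symm_apply zW, hinv, T.map K.subtype,
    map_subtype_le _, ?_, ?_⟩, rfl⟩
  · rintro _ ⟨o, ho, rfl⟩
    rw [Subgroup.coe_subtype, Subgroup.orderOf_coe]
    exact hTodd.of_dvd_nat (Subgroup.orderOf_dvd_natCard _ ho)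
  · intro k hk hodd
    refine ⟨⟨k, hk⟩, MonoidHom.mem_ker.mpr ?_, rfl⟩
    have h1 : orderOf (MonoidHom.transferSylow P ((hR P).normalizer_le_centralizer hmin) ⟨k, hk⟩) ∣ orderOf k :=
      (orderOf_map_dvd _ _).trans (Subgroup.orderOf_mk k hk).dvd
    obtain ⟨j, hj⟩ := P.2 (MonoidHom.transferSylow P ((hR P).normalizer_le_centralizer hmin) ⟨k, hk⟩)
    exact eq_one_of_odd_two (hodd.of_dvd_nat h1) hj

end CfsgLib.O8Two
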