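/-
A standard double cover of the plus-type group in dimension eight over two elements: the conjugates of the central
involution commuting with it act on the component as reflections.
-/
import Cfsg.Agent.Lib.StdO8Two.Setting

set_option autoImplicit false
set_option linter.unusedSectionVars false
set_option linter.style.haveILetI false

namespace CfsgLib.O8Two

open Equiv Subgroup

universe u

theorem sq_table : ([1, 2, 3, 4, 5].all fun k => eqB (rW k ++ rW k) []) = true ∧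
    eqB (rW 6 ++ rW 6) Data.frame = true := by decide +kernel

theorem ty_sq {k : ℕ} (hk : k ∈ [1, 2, 3, 4, 5]) {w : Perm (Fin 240)} (h : Ty k w) : w * w = 1 := by
  obtain ⟨v, -, rfl⟩ := pull h
  exact conj_sq (sq_eq (List.all_eq_true.mp sq_table.1 k hk))

theorem ty_six_sq {w : Perm (Fin 240)} (h : Ty 6 w) : w * w = zeta := by
  obtain ⟨v, hv, rfl⟩ := pull h
  have e := eq_of_words sq_table.2
  rw [wP_append, show wP (rW 6) = repP 6 from rfl, wP_frame] at e
  rw [show v * repP 6 * v⁻¹ * (v * repP 6 * v⁻¹) = v * (repP 6 * repP 6) * v⁻¹ by group, e, ← zeta_comm hv,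
    mul_inv_cancel_right]

theorem ty_inner {k : ℕ} (hk : k ∈ [2, 4, 5, 6]) {w : Perm (Fin 240)} (h : Ty k w) : w ∈ W0 := by
  refine mem_W0.mpr ⟨ty_mem h, ?_⟩
  simp only [List.mem_cons, List.not_mem_nil, or_false] at hk
  rcases hk with rfl | rfl | rfl | rfl <;> rw [ty_sign (by norm_num) h] <;> norm_num

theorem sig_zeta : sig zeta = (0, 240) := by rw [← mul_one zeta, sig_zeta_mul, sig_one]; rfl

theorem zz (w : Perm (Fin 240)) : zeta * (zeta * w) = w := by rw [← mul_assoc, zeta_sq, one_mul]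

theorem conj_commute {G : Type*} [Group G] (g : G) {a b : G} (h : a * b = b * a) :
    g * a * g⁻¹ * (g * b * g⁻¹) = g * b * g⁻¹ * (g * a * g⁻¹) := by
  simpa only [MulAut.conj_apply, map_mul] using congrArg (MulAut.conj g) h

variable {G : Type u} [Group G] [Finite G]

namespace Setting

variable (D : Setting G)

/-- The conjugates of the central involution. -/
def Om (x : G) : Prop := ∃ g : G, g * x * g⁻¹ = D.z

/-- The other conjugates commuting with the central involution. -/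
structure Mem (x : G) : Prop where
  om : D.Om x
  comm : x * D.z = D.z * x
  ne : x ≠ D.z

theorem om_z : D.Om D.z := ⟨1, by group⟩

theorem om_conj {x : G} (g : G) (h : D.Om x) : D.Om (g * x * g⁻¹) := by
  obtain ⟨k, hk⟩ := h
  exact ⟨k * g⁻¹, by rw [← hk]; group⟩

theorem om_conj_iff {x : G} (g : G) : D.Om (g * x * g⁻¹) ↔ D.Om x :=
  ⟨fun h => by have := D.om_conj g⁻¹ h; rwa [show g⁻¹ * (g * x * g⁻¹) * g⁻¹⁻¹ = x by group] at this, D.om_conj g⟩

theorem om_sq {x : G} (h : D.Om x) : x * x = 1 := by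
  obtain ⟨g, hg⟩ := h
  rw [show x = g⁻¹ * D.z * g by rw [← hg]; group,
    show g⁻¹ * D.z * g * (g⁻¹ * D.z * g) = g⁻¹ * (D.z * D.z) * g by group, D.z_sq]
  group

theorem sq_em {l : G} (hl : l ∈ D.L) (h : D.em l * D.em l = 1) : l * l = 1 :=
  D.em_inj (mul_mem hl hl) (one_mem _) (by rw [D.em_mul hl hl, h, D.em_one])

theorem comm_em {l m : G} (hl : l ∈ D.L) (hm : m ∈ D.L) (h : D.em l * D.em m = D.em m * D.em l) : l * m = m * l :=
  D.em_inj (mul_mem hl hm) (mul_mem hm hl) (by rw [D.em_mul hl hm, D.em_mul hm hl, h])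

theorem em_comm {l m : G} (hl : l ∈ D.L) (hm : m ∈ D.L) (h : l * m = m * l) :
    D.em l * D.em m = D.em m * D.em l := by rw [← D.em_mul hl hm, h, D.em_mul hm hl]

theorem em_z_mul {l : G} (hl : l ∈ D.L) : D.em (D.z * l) = zeta * D.em l := by rw [D.em_mul D.zL hl, D.em_z]

theorem mem_of_L {l : G} (hl : l ∈ D.L) (ho : D.Om l) (hne : D.em l ≠ zeta) : D.Mem l :=
  ⟨ho, D.z_cent l hl, fun e => hne (by rw [e, D.em_z])⟩

theorem om_of_ty {k : ℕ} (hk : k ∈ [1, 2, 3, 4, 5]) {l m : G} (hl : l ∈ D.L) (hm : m ∈ D.L)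
    (htl : Ty k (D.em l)) (htm : Ty k (D.em m)) (ho : D.Om l) : D.Om m := by
  obtain ⟨v, hv, e⟩ := ty_W0 hk htl htm
  obtain ⟨t, ht, rfl⟩ := D.em_surj hv
  have : t * l * t⁻¹ = m := D.em_inj (mul_mem (mul_mem ht hl) (inv_mem ht)) hm (by rw [D.em_conj hl ht, e])
  exact this ▸ D.om_conj t ho

/-! ### The mate -/

theorem mate {x g : G} (h : D.Mem x) (hg : g * x * g⁻¹ = D.z) : D.Mem (g * D.z * g⁻¹) := by
  refine ⟨D.om_conj g D.om_z, ?_, fun e => ?_⟩
  · have := conj_commute g h.comm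
    rw [hg] at this
    exact this.symm
  · exact h.ne (mul_left_cancel (mul_right_cancel (hg.trans e.symm)))

theorem Dg_iff {x g y : G} (hg : g * x * g⁻¹ = D.z) :
    g * y * g⁻¹ ∈ D.Dg (g * D.z * g⁻¹) ↔ y ∈ D.Dg x := by
  refine ⟨fun h => ?_, D.Dg_conj hg⟩
  have := D.Dg_conj (g := g⁻¹) (show g⁻¹ * (g * D.z * g⁻¹) * g⁻¹⁻¹ = D.z by group) h
  rwa [show g⁻¹ * (g * y * g⁻¹) * g⁻¹⁻¹ = y by group, show g⁻¹ * D.z * g⁻¹⁻¹ = x by rw [← hg]; group] at this

theorem mate_z {x g : G} (hg : g * x * g⁻¹ = D.z) : D.z ∈ D.Dg (g * D.z * g⁻¹) ↔ x ∈ D.Dg x := by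
  conv_lhs => arg 2; rw [← hg]
  exact D.Dg_iff hg

theorem mate_self {x g : G} (hg : g * x * g⁻¹ = D.z) :
    g * D.z * g⁻¹ ∈ D.Dg (g * D.z * g⁻¹) ↔ D.z ∈ D.Dg x := D.Dg_iff hg

theorem z_oddC {x : G} {w : Perm (Fin 240)} (h : D.Mem x) (hw : D.Acts x w) (hz : D.z ∈ D.Dg x) :
    zeta ∈ OddC w := D.em_z ▸ D.Dg_L h.comm hw hz D.zL

theorem z_Dg {x : G} {w : Perm (Fin 240)} (h : D.Mem x) (hw : D.Acts x w) (hz : zeta ∈ OddC w) :
    D.z ∈ D.Dg x := D.Dg_of h.comm hw D.zL (by rw [D.em_z]; exact hz)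

/-- The image of an element of odd order commuting with `x`. -/
theorem image_dec {x g d : G} (h : D.Mem x) (hg : g * x * g⁻¹ = D.z) (hdx : d * x = x * d)
    {p : ℕ} (hp : Odd p) (hdp : d ^ p = 1) :
    ∃ l ∈ D.L, ∃ o ∈ D.O, g * d * g⁻¹ = l * o ∧ l ^ p = 1 ∧
      (∀ n, n * D.z = D.z * n → n * (g * d * g⁻¹) = g * d * g⁻¹ * n → n * l = l * n ∧ n * o = o * n) ∧
      (∀ e ∈ D.Dg x, e * e = 1 → e * d ≠ d * e → l ≠ 1) := by
  have hodd : Odd (orderOf (g * d * g⁻¹)) := by rw [orderOf_conj']; exact odd_of_pow hp hdp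
  have hc : g * d * g⁻¹ * D.z = D.z * (g * d * g⁻¹) := hg ▸ conj_commute g hdx
  obtain ⟨l, hl, o, ho, e, -⟩ := D.odd_dec hc hodd
  refine ⟨l, hl, o, ho, e, ?_, fun n hn hnd => D.dec_comm hn hl ho (e ▸ hnd), fun t ht ht2 hne h1 => hne ?_⟩
  · have h1 : (g * d * g⁻¹) ^ p = 1 := by rw [conj_pow, hdp, mul_one, mul_inv_cancel]
    rw [e, (show Commute l o from D.K_comm (D.O_le ho) hl).mul_pow] at h1
    exact (D.dec_unique (pow_mem hl p) (one_mem _) (pow_mem ho p) (one_mem _) (by rw [h1, one_mul])).1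
  · obtain ⟨w, hw⟩ := D.act_exists (D.mate h hg).comm
    have hL : g * t * g⁻¹ ∈ D.L := D.Dg_two (D.mate h hg).comm hw ((D.Dg_iff hg).mpr ht) (j := 1)
      (by rw [pow_one, pow_two, show g * t * g⁻¹ * (g * t * g⁻¹) = g * (t * t) * g⁻¹ by group, ht2]; group)
    rw [h1, one_mul] at e
    have hk := D.K_comm (D.O_le ho) hL
    rw [← e] at hk
    have := congrArg (fun y => g⁻¹ * y * g) hk
    simpa [mul_assoc] using this

/-! ### The possibilities -/

theorem kinds {x : G} (h : D.Mem x) :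
    (x ∈ D.L ∧ (Ty 2 (D.em x) ∨ Ty 2 (zeta * D.em x) ∨ Ty 4 (D.em x) ∨ Ty 5 (D.em x))) ∨
      (x ∉ D.L ∧ ∃ w, D.Acts x w ∧ (Ty 1 w ∨ Ty 3 w ∨ Ty 6 w)) := by
  have hx2 := D.om_sq h.om
  obtain ⟨w, hw⟩ := D.act_exists h.comm
  have hne : ¬(w = 1 ∨ w = zeta) := fun e => by
    rcases D.inv_K x (D.act_pm_K h.comm hw e) hx2 with e | e
    · obtain ⟨g, hg⟩ := h.om
      exact D.z_ne (by rw [← hg, e]; group)
    · exact h.ne e
  have inn : ∀ {u : Perm (Fin 240)}, D.Acts x u → ∀ k ∈ [2, 4, 5], Ty k u →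
      (x ∈ D.L ∧ (Ty 2 (D.em x) ∨ Ty 2 (zeta * D.em x) ∨ Ty 4 (D.em x) ∨ Ty 5 (D.em x))) := fun {u} hu k hk ht => by
    simp only [List.mem_cons, List.not_mem_nil, or_false] at hk
    obtain ⟨hxL, e⟩ := D.inv_inner h.comm hx2 hu
      (ty_inner (k := k) (by rcases hk with rfl | rfl | rfl <;> simp) ht)
      (ty_sq (k := k) (by rcases hk with rfl | rfl | rfl <;> simp) ht)
    refine ⟨hxL, ?_⟩
    rcases e with e | e
    · rw [e]; rcases hk with rfl | rfl | rfl <;> simp [ht]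
    · rw [e, zz]
      rcases hk with rfl | rfl | rfl
      · exact Or.inr (Or.inl ht)
      · exact Or.inr (Or.inr (Or.inl (ty_zeta (by simp) ht)))
      · exact Or.inr (Or.inr (Or.inr (ty_zeta (by simp) ht)))
  have out : ∀ {u : Perm (Fin 240)}, D.Acts x u → (Ty 1 u ∨ Ty 3 u ∨ Ty 6 u) →
      (x ∉ D.L ∧ ∃ w, D.Acts x w ∧ (Ty 1 w ∨ Ty 3 w ∨ Ty 6 w)) := fun {u} hu ht => by
    refine ⟨fun hxL => ?_, u, hu, ht⟩
    have hsq : D.em x * D.em x = 1 := by rw [← D.em_mul hxL hxL, hx2, D.em_one]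
    have hs := (mem_W0.mp (D.em_mem hxL)).2
    rcases D.act_unique (D.act_L hxL) hu with e | e <;> subst e <;> rcases ht with ht | ht | ht
    · rw [ty_sign (by norm_num) ht] at hs; simp at hs
    · rw [ty_sign (by norm_num) ht] at hs; simp at hs
    · exact zeta_ne ((ty_six_sq ht).symm.trans hsq)
    · have := ty_sign (by norm_num) ht
      rw [map_mul, sign_zeta, one_mul, hs] at this; simp at this
    · have := ty_sign (by norm_num) ht
      rw [map_mul, sign_zeta, one_mul, hs] at this; simp at this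
    · have e := ty_six_sq ht
      rw [mul_assoc, ← mul_assoc (D.em x) zeta, ← zeta_comm (D.em_Wf hxL), mul_assoc, hsq, mul_one, zeta_sq] at e
      exact zeta_ne e.symm
  rcases cases_sq hw.1 (D.act_sq h.comm hx2 hw) with e | e | t | t | t | t | t | t | t | t | t
  · exact absurd (Or.inl e) hne
  · exact absurd (Or.inr e) hne
  · exact Or.inr (out hw (Or.inl t))
  · exact Or.inl (inn hw 2 (by simp) t)
  · exact Or.inr (out hw (Or.inr (Or.inl t)))
  · exact Or.inl (inn hw 4 (by simp) t)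
  · exact Or.inl (inn hw 5 (by simp) t)
  · exact Or.inr (out hw (Or.inr (Or.inr t)))
  · exact Or.inr (out (D.act_zeta hw) (Or.inl t))
  · exact Or.inl (inn (D.act_zeta hw) 2 (by simp) t)
  · exact Or.inr (out (D.act_zeta hw) (Or.inr (Or.inl t)))

/-! ### The six roots -/

theorem no_six {x : G} (h : D.Mem x) (hxL : x ∈ D.L) : ¬ Ty 2 (zeta * D.em x) := by
  intro ht
  obtain ⟨g, hg⟩ := h.om
  have h' := D.mate h hg
  set x' := g * D.z * g⁻¹ with hx'
  have hx := D.act_L hxL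
  obtain ⟨hw, d, hd, hd5, hd1, hdw, hlast⟩ := six_fact ht
  have hzx' : D.z ∈ D.Dg x' := (D.mate_z hg).mpr (D.Dg_of h.comm hx hxL hw)
  have hxx' : x' ∉ D.Dg x' := fun e => (not_two ht).1 (by
    rw [oddC_zeta]; exact D.z_oddC h hx ((D.mate_self hg).mp e))
  rcases D.kinds h' with ⟨hL', t⟩ | ⟨-, w', hw', t⟩
  · have hz := D.z_oddC h' (D.act_L hL') hzx'
    rcases t with t | t | t | t
    · exact (not_two t).1 hz
    · exact (not_two t).1 (by rw [oddC_zeta]; exact hz)
    · exact hxx' (D.Dg_of h'.comm (D.act_L hL') hL' (four_fact t).1)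
    · exact hxx' (D.Dg_of h'.comm (D.act_L hL') hL' (five_fact t).1)
  · rcases t with t | t | t
    · exact not_one t (D.z_oddC h' hw' hzx')
    · exact not_three t (D.z_oddC h' hw' hzx')
    · obtain ⟨l, hl, k, hk, e, hlw⟩ := D.inner h'.comm hw' (ty_inner (by simp) t)
      have hlD : l ∈ D.Dg x' := D.Dg_of h'.comm hw' hl (hlw ▸ (i_fact t).2)
      have hll : l * l = D.z := D.em_inj (mul_mem hl hl) D.zL (by rw [D.em_mul hl hl, hlw, D.em_z, ty_six_sq t])
      set u := g⁻¹ * l * g with hu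
      have hlu : g * u * g⁻¹ = l := by rw [hu]; group
      have huD : u ∈ D.Dg x := (D.Dg_iff hg).mp (by rw [hlu]; exact hlD)
      have huu : u * u = x := by
        rw [hu, show g⁻¹ * l * g * (g⁻¹ * l * g) = g⁻¹ * (l * l) * g by group, hll, ← hg]; group
      have huL : u ∈ D.L := D.Dg_two h.comm hx huD (j := 2) (by
        rw [show u ^ (2 ^ 2) = u * u * (u * u) by simp [pow_succ, mul_assoc], huu, D.om_sq h.om])
      obtain ⟨d0, hd0, rfl⟩ := D.em_surj hd
      have hd5' : d0 ^ 5 = 1 := D.em_inj (pow_mem hd0 5) (one_mem _) (by rw [D.em_pow hd0, hd5, D.em_one])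
      have hd0x : d0 * x = x * d0 := D.comm_em hd0 hxL hdw
      obtain ⟨l5, hl5, o, ho, ed, -, hcomm, -⟩ := D.image_dec h hg hd0x (p := 5) (by decide) hd5'
      have hx'd : x' * (g * d0 * g⁻¹) = g * d0 * g⁻¹ * x' := conj_commute g (D.z_cent d0 hd0).symm
      have h5 : l * l5 = l5 * l :=
        D.comm_em hl hl5 (by rw [hlw]; exact D.comm_of_act hw' hl5 (hcomm x' h'.comm hx'd).1)
      have hld : l * (g * d0 * g⁻¹) = g * d0 * g⁻¹ * l := by
        rw [ed, ← mul_assoc, h5, mul_assoc, D.K_comm (D.O_le ho) hl, mul_assoc]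
      have hud : u * d0 = d0 * u := by
        have := conj_commute g⁻¹ hld
        rwa [show g⁻¹ * (g * d0 * g⁻¹) * g⁻¹⁻¹ = d0 by group, show g⁻¹ * l * g⁻¹⁻¹ = u by rw [hu]; group] at this
      exact hlast (D.em u) (D.em_Wf huL) (D.em_comm huL hxL (D.Dg_comm huD).2) (D.em_comm huL hd0 hud)
        (by rw [← D.em_mul huL huL, huu])

theorem no_i {x : G} (h : D.Mem x) {w : Perm (Fin 240)} (hw : D.Acts x w) : ¬ Ty 6 w := by
  intro t
  obtain ⟨g, hg⟩ := h.om
  have h' := D.mate h hg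
  obtain ⟨w', hw'⟩ := D.act_exists h'.comm
  have hx2 := D.om_sq h.om
  have hxL : x ∉ D.L := by
    rcases D.kinds h with ⟨hL, t'⟩ | ⟨hL, -⟩
    · exfalso
      rcases D.act_unique (D.act_L hL) hw with e | e
      · exact zeta_ne ((ty_six_sq t).symm.trans (by rw [e, ← D.em_mul hL hL, hx2, D.em_one]))
      · have e6 := ty_six_sq (ty_zeta (by simp) t)
        rw [e, zz, ← D.em_mul hL hL, hx2, D.em_one] at e6
        exact zeta_ne e6.symm
    · exact hL
  have hxD : x ∉ D.Dg x := fun e => hxL (D.Dg_two h.comm hw e (j := 1) (by rw [pow_one, pow_two, hx2]))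
  have hD' : g * D.z * g⁻¹ ∈ D.Dg (g * D.z * g⁻¹) := (D.mate_self hg).mpr (D.z_Dg h hw (i_fact t).1)
  have hzD : D.z ∉ D.Dg (g * D.z * g⁻¹) := fun e => hxD ((D.mate_z hg).mp e)
  have hL' : g * D.z * g⁻¹ ∈ D.L :=
    D.Dg_two h'.comm hw' hD' (j := 1) (by rw [pow_one, pow_two, D.om_sq h'.om])
  have ha := D.act_L hL'
  rcases D.kinds h' with ⟨-, t'⟩ | ⟨hn, -⟩
  · rcases t' with t' | t' | t' | t'
    · exact (not_two t').2 (D.Dg_L h'.comm ha hD' hL')
    · exact D.no_six h' hL' t'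
    · exact hzD (D.z_Dg h' ha (four_fact t').2.1)
    · exact hzD (D.z_Dg h' ha (five_fact t').2)
  · exact hn hL'

theorem not_om_six {l : G} (hl : l ∈ D.L) (ht : Ty 2 (zeta * D.em l)) : ¬ D.Om l := fun ho =>
  D.no_six (D.mem_of_L hl ho fun e => by
    rw [e, zeta_sq] at ht
    exact absurd (sig_one.symm.trans (ty_sig (by norm_num) ht)) (by decide)) hl ht

/-! ### Two reflections -/

theorem no_rs {x : G} (h : D.Mem x) (hxL : x ∈ D.L) : ¬ Ty 2 (D.em x) := by
  intro ht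
  obtain ⟨g, hg⟩ := h.om
  have h' := D.mate h hg
  set x' := g * D.z * g⁻¹ with hx'
  have hx := D.act_L hxL
  have hx2 := D.om_sq h.om
  obtain ⟨hzw, A, hA, hA2, hAw, tA, twA, d, hd, hd5, hd1, hdw, hdA, e, he, he2, hed⟩ := rs_fact ht
  have hzxD : D.z * x ∈ D.Dg x :=
    D.Dg_of h.comm hx (mul_mem D.zL hxL) (by rw [D.em_z_mul hxL]; exact hzw)
  have hzD : D.z ∉ D.Dg x := fun e => (not_two ht).1 (D.z_oddC h hx e)
  have hxz' : x' * D.z ∈ D.Dg x' := by
    have := (D.Dg_iff hg).mpr hzxD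
    rwa [show g * (D.z * x) * g⁻¹ = x' * (g * x * g⁻¹) by rw [hx']; group, hg] at this
  obtain ⟨w', hw'⟩ := D.act_exists h'.comm
  have hL' : x' ∈ D.L := by
    have h1 : x' * D.z ∈ D.L := D.Dg_two h'.comm hw' hxz' (j := 1) (by
      rw [pow_one, pow_two, show x' * D.z * (x' * D.z) = x' * (D.z * x') * D.z by group, ← h'.comm,
        show x' * (x' * D.z) * D.z = x' * x' * (D.z * D.z) by group, D.om_sq h'.om, D.z_sq, mul_one])
    have := mul_mem h1 D.zL
    rwa [mul_assoc, D.z_sq, mul_one] at this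
  have hxx' : x' ∉ D.Dg x' := fun e => hzD ((D.mate_self hg).mp e)
  have ha' := D.act_L hL'
  have hR : Ty 2 (D.em x') := by
    rcases D.kinds h' with ⟨-, t | t | t | t⟩ | ⟨hn, -⟩
    · exact t
    · exact absurd t (D.no_six h' hL')
    · exact absurd (D.Dg_of h'.comm ha' hL' (four_fact t).1) hxx'
    · exact absurd (D.Dg_of h'.comm ha' hL' (five_fact t).1) hxx'
    · exact absurd hL' hn
  obtain ⟨a, ha, rfl⟩ := D.em_surj hA
  have hax : a * x = x * a := D.comm_em ha hxL hAw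
  have haz : a * D.z = D.z * a := D.z_cent a ha
  have haO : D.Om a := D.om_of_ty (by simp) hxL ha ht tA h.om
  have txa : Ty 2 (D.em (x * a)) := by rw [D.em_mul hxL ha]; exact twA
  have hxaO : D.Om (x * a) := D.om_of_ty (by simp) hxL (mul_mem hxL ha) ht txa h.om
  have hzaO : ¬ D.Om (D.z * a) := D.not_om_six (mul_mem D.zL ha) (by rw [D.em_z_mul ha, zz]; exact tA)
  have hzxaO : ¬ D.Om (D.z * (x * a)) := D.not_om_six (mul_mem D.zL (mul_mem hxL ha))
    (by rw [D.em_z_mul (mul_mem hxL ha), zz]; exact txa)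
  have hane : a ≠ x := fun e => by
    rw [e, hx2, D.em_one] at txa
    exact absurd (sig_one.symm.trans (ty_sig (by norm_num) txa)) (by decide)
  set a' := g * a * g⁻¹ with ha'd
  have hm : D.Mem a' := ⟨D.om_conj g haO, hg ▸ conj_commute g hax,
    fun e => hane (mul_left_cancel (mul_right_cancel (e.trans hg.symm)))⟩
  have hza'O : D.Om (D.z * a') := by
    have := D.om_conj g hxaO
    rwa [show g * (x * a) * g⁻¹ = g * x * g⁻¹ * a' by rw [ha'd]; group, hg] at this
  have hxa'O : ¬ D.Om (x' * a') := by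
    rw [show x' * a' = g * (D.z * a) * g⁻¹ by rw [hx', ha'd]; group, D.om_conj_iff]
    exact hzaO
  have hzxa'O : ¬ D.Om (D.z * (x' * a')) := by
    rw [show D.z * (x' * a') = g * (x * (D.z * a)) * g⁻¹ by
        conv_lhs => rw [← hg]
        rw [hx', ha'd]; group,
      D.om_conj_iff, ← mul_assoc, h.comm, mul_assoc]
    exact hzxaO
  have hx'a' : x' * a' = a' * x' := conj_commute g haz.symm
  obtain ⟨d0, hd0, rfl⟩ := D.em_surj hd
  obtain ⟨e0, he0, rfl⟩ := D.em_surj (oddC_le _ he)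
  have hd5' : d0 ^ 5 = 1 := D.em_inj (pow_mem hd0 5) (one_mem _) (by rw [D.em_pow hd0, hd5, D.em_one])
  obtain ⟨l5, hl5, o, ho, ed, hl55, hcomm, hne5⟩ :=
    D.image_dec h hg (D.comm_em hd0 hxL hdw) (p := 5) (by decide) hd5'
  have hl5ne : l5 ≠ 1 := hne5 e0 (D.Dg_of h.comm hx he0 he) (D.sq_em he0 he2)
    (fun c => hed (D.em_comm he0 hd0 c))
  have hR5 : x' * l5 = l5 * x' := (hcomm x' h'.comm (conj_commute g (D.z_cent d0 hd0).symm)).1
  have ha5 : a' * l5 = l5 * a' := (hcomm a' hm.comm (conj_commute g (D.comm_em ha hd0 hdA.symm))).1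
  have hD5 : D.em l5 ^ 5 = 1 := by rw [← D.em_pow hl5, hl55, D.em_one]
  have hD1 : D.em l5 ≠ 1 := fun e => hl5ne (D.em_inj hl5 (one_mem _) (e.trans D.em_one.symm))
  have five : ∀ {v : Perm (Fin 240)}, v ∈ Wf → v * D.em l5 = D.em l5 * v → v * v = 1 →
      sig v ∈ [(240, 0), (0, 240), (126, 2), (2, 126), (60, 4), (4, 60), (0, 0)] :=
    fun hv hc h2 => five_commute hv (D.em_Wf hl5) hD5 hD1 hc (Or.inl h2)
  rcases D.kinds hm with ⟨haL, t⟩ | ⟨haL, v, hv, t⟩
  · have hc := D.em_comm haL hl5 ha5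
    rcases t with t | t | t | t
    · exact D.not_om_six (mul_mem D.zL haL) (by rw [D.em_z_mul haL, zz]; exact t) hza'O
    · exact D.no_six hm haL t
    · have := five (ty_mem t) hc (ty_sq (by simp) t)
      rw [ty_sig (by norm_num) t] at this
      exact absurd this (by decide)
    · have := five (ty_mem t) hc (ty_sq (by simp) t)
      rw [ty_sig (by norm_num) t] at this
      exact absurd this (by decide)
  · have hc := D.comm_of_act hv hl5 ha5
    rcases t with t | t | t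
    · obtain ⟨c, rfl⟩ := ty_one_iff.mp t
      have hcR : rP c * D.em x' = D.em x' * rP c := D.comm_of_act hv hL' hx'a'.symm
      have hR2 := ty_sq (by simp) hR
      have hsq : D.em x' * rP c * (D.em x' * rP c) = 1 := by
        rw [show D.em x' * rP c * (D.em x' * rP c) = D.em x' * (rP c * D.em x') * rP c by group, hcR,
          show D.em x' * (D.em x' * rP c) * rP c = D.em x' * D.em x' * (rP c * rP c) by group, hR2, rP_sq, one_mul]
      have hcm : D.em x' * rP c * D.em l5 = D.em l5 * (D.em x' * rP c) := by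
        rw [mul_assoc, hc, ← mul_assoc, D.em_comm hL' hl5 hR5, mul_assoc]
      have hW := mul_mem (D.em_Wf hL') (rP_mem c)
      have ts : Ty 1 (D.em x' * rP c) := by
        rcases rs_refl hR hcR with s | s
        · exact ty_of_sig hW (Or.inl hsq) (by simp) s
        · have := five hW hcm hsq
          rw [s] at this
          exact absurd this (by decide)
      obtain ⟨b, hb⟩ := ty_one_iff.mp ts
      obtain ⟨m, hm0, hmc⟩ := exists_W0_root c b
      obtain ⟨l, hl, rfl⟩ := D.em_surj hm0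
      have hlz : l⁻¹ * D.z = D.z * l⁻¹ := D.z_cent _ (inv_mem hl)
      have hn1 : a' * l⁻¹ * D.z = D.z * (a' * l⁻¹) := by rw [mul_assoc, hlz, ← mul_assoc, hm.comm, mul_assoc]
      have hyz : x' * a' * D.z = D.z * (x' * a') := by rw [mul_assoc, hm.comm, ← mul_assoc, h'.comm, mul_assoc]
      have hnA : D.Acts (l * (a' * l⁻¹)) (rP b) := by
        have := D.act_mul hn1 (D.act_L hl) (D.act_mul hlz hv (D.act_inv (D.z_cent l hl) (D.act_L hl)))
        rwa [← mul_assoc (D.em l), conj_rP (D.em_Wf hl), hmc] at this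
      have hyA : D.Acts (x' * a') (rP b) := by
        have := D.act_mul hm.comm (D.act_L hL') hv
        rwa [hb] at this
      set k := l * (a' * l⁻¹) * (x' * a')⁻¹ with hk
      have hyi : (x' * a')⁻¹ * D.z = D.z * (x' * a')⁻¹ :=
        (Commute.inv_left (show Commute (x' * a') D.z from hyz)).eq
      have hkK : k ∈ centralizer (D.L : Set G) := by
        refine D.act_one_K ?_ ?_
        · exact (Commute.mul_left (Commute.mul_left (show Commute l D.z from D.z_cent l hl) hn1) hyi).eq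
        · have := D.act_mul hyi hnA (D.act_inv hyz hyA)
          rwa [mul_inv_cancel] at this
      have hkL : k ∈ D.L := by
        have h1 : l * (a' * l⁻¹ * a'⁻¹) * x'⁻¹ ∈ D.L :=
          mul_mem (mul_mem hl (D.conj_mem hm.comm (inv_mem hl))) (inv_mem hL')
        convert h1 using 1
        rw [hk, mul_inv_rev]; group
      have hno : D.Om (l * (a' * l⁻¹)) := by rw [← mul_assoc]; exact D.om_conj l hm.om
      rw [show l * (a' * l⁻¹) = k * (x' * a') by rw [hk]; group] at hno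
      rcases D.K_inv_L hkL hkK with e | e
      · exact hxa'O (by rwa [e, one_mul] at hno)
      · exact hzxa'O (e ▸ hno)
    · have := five (ty_mem t) hc (ty_sq (by simp) t)
      rw [ty_sig (by norm_num) t] at this
      exact absurd this (by decide)
    · exact D.no_i hm hv t

theorem not_om_rs {l : G} (hl : l ∈ D.L) (ht : Ty 2 (D.em l)) : ¬ D.Om l := fun ho =>
  D.no_rs (D.mem_of_L hl ho fun e => by
    rw [e] at ht
    exact absurd (sig_zeta.symm.trans (ty_sig (by norm_num) ht)) (by decide)) hl ht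

/-! ### Four reflections -/

/-- An involution conjugate to its product with the central one. -/
theorem self_swap {l : G} (hl : l ∈ D.L) (hl2 : l * l = 1) (h1 : l ≠ 1) (hz : l ≠ D.z) {u : Perm (Fin 240)}
    (hu : u ∈ Wf) (he : u * D.em l * u⁻¹ = zeta * D.em l) : Ty 4 (D.em l) ∨ Ty 5 (D.em l) := by
  have hsq : D.em l * D.em l = 1 := by rw [← D.em_mul hl hl, hl2, D.em_one]
  have hs : sig (D.em l) = (sig (D.em l)).swap := by rw [← sig_zeta_mul, ← he, sig_conj hu]
  have hsgn := (mem_W0.mp (D.em_mem hl)).2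
  have sgn : ∀ k ∈ [1, 3], ∀ v, Perm.sign v = 1 → ¬ Ty k v := fun k hk v hv t => by
    simp only [List.mem_cons, List.not_mem_nil, or_false] at hk
    rcases hk with rfl | rfl <;> (rw [ty_sign (by norm_num) t] at hv; simp at hv)
  have hsgz : Perm.sign (zeta * D.em l) = 1 := by rw [map_mul, sign_zeta, one_mul, hsgn]
  rcases cases_sq (D.em_Wf hl) (Or.inl hsq) with e | e | t | t | t | t | t | t | t | t | t
  · exact absurd (D.em_inj hl (one_mem _) (e.trans D.em_one.symm)) h1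
  · exact absurd (D.em_inj hl D.zL (e.trans D.em_z.symm)) hz
  · exact absurd t (sgn 1 (by simp) _ hsgn)
  · rw [ty_sig (by norm_num) t] at hs; exact absurd hs (by decide)
  · exact absurd t (sgn 3 (by simp) _ hsgn)
  · exact Or.inl t
  · exact Or.inr t
  · exact absurd ((ty_six_sq t).symm.trans hsq) zeta_ne
  · exact absurd t (sgn 1 (by simp) _ hsgz)
  · have h2 := ty_sig (by norm_num) t
    rw [sig_zeta_mul, ← hs] at h2
    rw [h2] at hs
    exact absurd hs (by decide)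
  · exact absurd t (sgn 3 (by simp) _ hsgz)

theorem no_four {x : G} (h : D.Mem x) (hxL : x ∈ D.L) : ¬ Ty 4 (D.em x) := by
  intro ht
  obtain ⟨g, hg⟩ := h.om
  have h' := D.mate h hg
  set x' := g * D.z * g⁻¹ with hx'
  have hx := D.act_L hxL
  obtain ⟨hw, hz, A, hA, hA2, hAw, tzA, H, hH, hHw, hHA, d, hd, hd3, hd1, hdw, hdA, e, he, he2, hed⟩ := four_fact ht
  have hxD : x ∈ D.Dg x := D.Dg_of h.comm hx hxL hw
  have hD' : x' ∈ D.Dg x' := (D.mate_self hg).mpr (D.z_Dg h hx hz)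
  have hzD' : D.z ∈ D.Dg x' := (D.mate_z hg).mpr hxD
  obtain ⟨w', hw'⟩ := D.act_exists h'.comm
  have hL' : x' ∈ D.L := D.Dg_two h'.comm hw' hD' (j := 1) (by rw [pow_one, pow_two, D.om_sq h'.om])
  obtain ⟨a, ha, rfl⟩ := D.em_surj (oddC_le _ hA)
  obtain ⟨h0, hh0, rfl⟩ := D.em_surj hH
  have haD : a ∈ D.Dg x := D.Dg_of h.comm hx ha hA
  have haz : a * D.z = D.z * a := D.z_cent a ha
  have hax : a * x = x * a := D.comm_em ha hxL hAw
  have ha2 : a * a = 1 := D.sq_em ha hA2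
  have hha : h0 * a * h0⁻¹ = a * x :=
    D.em_inj (mul_mem (mul_mem hh0 ha) (inv_mem hh0)) (mul_mem ha hxL) (by rw [D.em_conj ha hh0, hHA, D.em_mul ha hxL])
  have haO : ¬ D.Om a := D.not_om_six ha tzA
  have hzaO : ¬ D.Om (D.z * a) := D.not_om_rs (mul_mem D.zL ha) (by rw [D.em_z_mul ha]; exact tzA)
  have hxaO : ¬ D.Om (a * x) := by rw [← hha, D.om_conj_iff]; exact haO
  have hane : a ≠ 1 ∧ a ≠ x ∧ a ≠ D.z := by
    refine ⟨fun e => ?_, fun e => ?_, fun e => ?_⟩ <;> rw [e] at tzA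
    · rw [D.em_one, mul_one] at tzA
      exact absurd (sig_zeta.symm.trans (ty_sig (by norm_num) tzA)) (by decide)
    · exact absurd ((ty_sig (by norm_num) (ty_zeta (k := 4) (by simp) ht)).symm.trans (ty_sig (by norm_num) tzA))
        (by decide)
    · rw [D.em_z, zeta_sq] at tzA
      exact absurd (sig_one.symm.trans (ty_sig (by norm_num) tzA)) (by decide)
  set a' := g * a * g⁻¹ with ha'd
  have haz' : a' * D.z = D.z * a' := hg ▸ conj_commute g hax
  have haD' : a' ∈ D.Dg x' := (D.Dg_iff hg).mpr haD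
  have ha'2 : a' * a' = 1 := by
    rw [ha'd, show g * a * g⁻¹ * (g * a * g⁻¹) = g * (a * a) * g⁻¹ by group, ha2]; group
  have haL : a' ∈ D.L := D.Dg_two h'.comm hw' haD' (j := 1) (by rw [pow_one, pow_two, ha'2])
  set h1 := g * h0 * g⁻¹ with hh1
  have hh1z : h1 * D.z = D.z * h1 := hg ▸ conj_commute g (D.comm_em hh0 hxL hHw)
  obtain ⟨u, hu⟩ := D.act_exists hh1z
  have e1 : h1 * a' * h1⁻¹ = a' * D.z := by
    rw [hh1, ha'd, show g * h0 * g⁻¹ * (g * a * g⁻¹) * (g * h0 * g⁻¹)⁻¹ = g * (h0 * a * h0⁻¹) * g⁻¹ by group, hha,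
      show g * (a * x) * g⁻¹ = g * a * g⁻¹ * (g * x * g⁻¹) by group, hg]
  have s1 : u * D.em a' * u⁻¹ = zeta * D.em a' := by
    rw [← hu.2 a' haL, e1, haz', D.em_z_mul haL]
  have ha'ne : a' ≠ 1 ∧ a' ≠ D.z := ⟨fun e => hane.1 (conj_eq_one_iff.mp e),
    fun e => hane.2.1 (mul_left_cancel (mul_right_cancel (e.trans hg.symm)))⟩
  have t5 : Ty 5 (D.em a') := by
    rcases D.self_swap haL ha'2 ha'ne.1 ha'ne.2 hu.1 s1 with t | t
    · exact absurd ((D.om_conj_iff g).mp (D.om_of_ty (by simp) hxL haL ht t h.om)) haO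
    · exact t
  have hR : Ty 4 (D.em x') := by
    have hz' := D.z_oddC h' (D.act_L hL') hzD'
    rcases D.kinds h' with ⟨-, t | t | t | t⟩ | ⟨hn, -⟩
    · exact absurd hz' (not_two t).1
    · exact absurd t (D.no_six h' hL')
    · exact t
    · exact absurd ((D.om_conj_iff g).mp (D.om_of_ty (by simp) hL' haL t t5 h'.om)) haO
    · exact absurd hL' hn
  have hx'a' : x' * a' = a' * x' := conj_commute g haz.symm
  set r := x' * a' with hr
  have hrL : r ∈ D.L := mul_mem hL' haL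
  have er : r = g * (D.z * a) * g⁻¹ := by rw [hr, hx', ha'd]; group
  have hr2 : r * r = 1 := by
    rw [hr, show x' * a' * (x' * a') = x' * (a' * x') * a' by group, ← hx'a',
      show x' * (x' * a') * a' = x' * x' * (a' * a') by group, D.om_sq h'.om, ha'2, mul_one]
  have hr1 : r ≠ 1 ∧ r ≠ D.z := by
    refine ⟨fun e => ?_, fun e => ?_⟩ <;> rw [er] at e
    · refine hane.2.2 ?_
      have := conj_eq_one_iff.mp e
      rw [mul_eq_one_iff_inv_eq, inv_eq_of_mul_eq_one_right D.z_sq] at this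
      exact this.symm
    · have e' : D.z * a = x := mul_left_cancel (mul_right_cancel (e.trans hg.symm))
      have h4 := ty_sig (by norm_num) ht
      rw [← e', D.em_z_mul ha, ty_sig (by norm_num) tzA] at h4
      exact absurd h4 (by decide)
  have e2 : h1 * r * h1⁻¹ = r * D.z := by
    rw [hh1, er, show g * h0 * g⁻¹ * (g * (D.z * a) * g⁻¹) * (g * h0 * g⁻¹)⁻¹ =
        g * (h0 * D.z * a * h0⁻¹) * g⁻¹ by group, D.z_cent h0 hh0,
      show D.z * h0 * a * h0⁻¹ = D.z * (h0 * a * h0⁻¹) by group, hha,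
      show g * (D.z * (a * x)) * g⁻¹ = g * (D.z * a) * g⁻¹ * (g * x * g⁻¹) by group, hg]
  have s2 : u * D.em r * u⁻¹ = zeta * D.em r := by
    rw [← hu.2 r hrL, e2, D.z_cent r hrL, D.em_z_mul hrL]
  have t5' : Ty 5 (D.em x' * D.em a') := by
    rw [← D.em_mul hL' haL]
    rcases D.self_swap hrL hr2 hr1.1 hr1.2 hu.1 s2 with t | t
    · refine absurd ?_ hzaO
      have := D.om_of_ty (by simp) hxL hrL ht t h.om
      rwa [er, D.om_conj_iff] at this
    · exact t
  obtain ⟨d0, hd0, rfl⟩ := D.em_surj hd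
  obtain ⟨e0, he0, rfl⟩ := D.em_surj (oddC_le _ he)
  have hd3' : d0 ^ 3 = 1 := D.em_inj (pow_mem hd0 3) (one_mem _) (by rw [D.em_pow hd0, hd3, D.em_one])
  obtain ⟨l3, hl3, o, ho, ed, hl33, hcomm, hne3⟩ :=
    D.image_dec h hg (D.comm_em hd0 hxL hdw) (p := 3) (by decide) hd3'
  have hl3ne : l3 ≠ 1 := hne3 e0 (D.Dg_of h.comm hx he0 he) (D.sq_em he0 he2)
    (fun c => hed (D.em_comm he0 hd0 c))
  refine no_triple hR t5 t5' (ty_sq (by simp) hR) (D.em_comm hL' haL hx'a') (D.em_Wf hl3)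
    (by rw [← D.em_pow hl3, hl33, D.em_one]) (fun e => hl3ne (D.em_inj hl3 (one_mem _) (e.trans D.em_one.symm)))
    (D.em_comm hl3 hL' (hcomm x' h'.comm (conj_commute g (D.z_cent d0 hd0).symm)).1.symm)
    (D.em_comm hl3 haL (hcomm a' haz' (conj_commute g (D.comm_em ha hd0 hdA.symm))).1.symm)

theorem not_om_four {l : G} (hl : l ∈ D.L) (ht : Ty 4 (D.em l)) : ¬ D.Om l := fun ho =>
  D.no_four (D.mem_of_L hl ho fun e => by
    rw [e] at ht
    exact absurd (sig_zeta.symm.trans (ty_sig (by norm_num) ht)) (by decide)) hl ht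

/-! ### Three reflections and two quadruples -/

theorem no_low {x : G} (h : D.Mem x) {w : Perm (Fin 240)} (hw : D.Acts x w) {k : ℕ} (hk : k = 3 ∨ k = 5) :
    ¬ Ty k w := by
  intro ht
  obtain ⟨g, hg⟩ := h.om
  have h' := D.mate h hg
  set x' := g * D.z * g⁻¹ with hx'
  have hx2 := D.om_sq h.om
  obtain ⟨A, hA, hA2, hAw, tA, m, hm0, hmw⟩ := low_fact hk ht
  obtain ⟨a, ha, rfl⟩ := D.em_surj (oddC_le _ hA)
  obtain ⟨l, hl, rfl⟩ := D.em_surj hm0
  have haD : a ∈ D.Dg x := D.Dg_of h.comm hw ha hA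
  have haO : ¬ D.Om a := D.not_om_four ha tA
  have hxi : x⁻¹ * D.z = D.z * x⁻¹ := (Commute.inv_left (show Commute x D.z from h.comm)).eq
  have hxl : x⁻¹ * l * x⁻¹⁻¹ ∈ D.L := D.conj_mem hxi hl
  have key : x⁻¹ * l * x⁻¹⁻¹ * l⁻¹ = a := by
    refine D.em_inj (mul_mem hxl (inv_mem hl)) ha ?_
    rw [D.em_mul hxl (inv_mem hl), D.em_inv hl, (D.act_inv h.comm hw).2 l hl,
      show w⁻¹ * D.em l * w⁻¹⁻¹ * (D.em l)⁻¹ = w⁻¹ * (D.em l * w * (D.em l)⁻¹) by group, hmw, inv_mul_cancel_left]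
  have hxaO : D.Om (x * a) := by
    rw [← key, show x * (x⁻¹ * l * x⁻¹⁻¹ * l⁻¹) = l * x * l⁻¹ by group]
    exact D.om_conj l h.om
  set a' := g * a * g⁻¹ with ha'd
  obtain ⟨w', hw'⟩ := D.act_exists h'.comm
  have haL : a' ∈ D.L := D.Dg_two h'.comm hw' ((D.Dg_iff hg).mpr haD) (j := 1) (by
    rw [pow_one, pow_two, ha'd, show g * a * g⁻¹ * (g * a * g⁻¹) = g * (a * a) * g⁻¹ by group, D.sq_em ha hA2]
    group)
  have hzaL : D.z * a' ∈ D.L := mul_mem D.zL haL
  have hzaO : D.Om (D.z * a') := by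
    have := D.om_conj g hxaO
    rwa [show g * (x * a) * g⁻¹ = g * x * g⁻¹ * a' by rw [ha'd]; group, hg] at this
  have hm : D.Mem (D.z * a') := by
    refine ⟨hzaO, D.z_cent _ hzaL, fun e => ?_⟩
    have ha1 : a = 1 := conj_eq_one_iff.mp (mul_left_cancel (e.trans (mul_one D.z).symm))
    rw [ha1, D.em_one] at tA
    exact absurd (sig_one.symm.trans (ty_sig (by norm_num) tA)) (by decide)
  rcases D.kinds hm with ⟨-, t | t | t | t⟩ | ⟨hn, -⟩
  · exact D.no_rs hm hzaL t
  · exact D.no_six hm hzaL t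
  · exact D.no_four hm hzaL t
  · have t' : Ty 5 (D.em a') := by
      have := ty_zeta (by simp) t
      rwa [D.em_z_mul haL, zz] at this
    exact haO ((D.om_conj_iff g).mp (D.om_of_ty (by simp) hzaL haL t t' hzaO))
  · exact hn hzaL

/-- Every other conjugate commuting with the central involution acts as a reflection. -/
theorem reflection {x : G} (h : D.Mem x) : x ∉ D.L ∧ ∃ c, D.Acts x (rP c) := by
  rcases D.kinds h with ⟨hL, t | t | t | t⟩ | ⟨hL, w, hw, t | t | t⟩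
  · exact absurd t (D.no_rs h hL)
  · exact absurd t (D.no_six h hL)
  · exact absurd t (D.no_four h hL)
  · exact absurd t (D.no_low h (D.act_L hL) (Or.inr rfl))
  · obtain ⟨c, rfl⟩ := ty_one_iff.mp t
    exact ⟨hL, c, hw⟩
  · exact absurd t (D.no_low h hw (Or.inl rfl))
  · exact absurd t (D.no_i h hw)

end Setting

end CfsgLib.O8Two
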