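/-
Eight orthogonal lines: fourteen of the seventy quads have two non-orthogonal roots orthogonal to them.
-/
import Cfsg.Agent.Lib.StdO8Two.Frames

set_option autoImplicit false
set_option maxRecDepth 20000

namespace CfsgLib.O8Two

open Equiv

/-- Two roots in different lines, not orthogonal, orthogonal to the roots of the places in `s`. -/
def SpQuad (a : Fin 8 → Fin 240) (s : Finset (Fin 8)) : Prop :=
  ∃ c d : Fin 240, (∀ j ∈ s, Q c (a j) = 0 ∧ Q d (a j) = 0) ∧ Q c d ≠ 0 ∧ d ≠ c ∧ d ≠ zeta c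

/-- A root of the standard frame. -/
def fR (j : Fin 8) : Fin 240 := Fin.ofNat 240 (Data.frame.getD j 0)

/-- The roots orthogonal to the roots of some places of the standard frame. -/
def comN (s : Finset (Fin 8)) : List ℕ :=
  force ((List.finRange 8).foldr (fun j m => bif decide (j ∈ s) then Nat.land (mk (fR j) 2) m else m) full)
    fun m => (List.range 240).filter fun c => Nat.testBit m c

/-- Whether a quad of the standard frame is special. -/
def spB (s : Finset (Fin 8)) : Bool :=
  (comN s).any fun c => (comN s).any fun d =>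
    !(Nat.beq (qn c d) 2) && !(Nat.beq d c) && !(Nat.beq d (239 - c))

/-- A quad is either special or has only the other lines orthogonal to it. -/
def quadOK (s : Finset (Fin 8)) : Bool :=
  spB s || (comN s).all fun c => (List.finRange 8).any fun j =>
    !(decide (j ∈ s)) && (Nat.beq c (fR j) || Nat.beq c (239 - (fR j : ℕ)))

theorem quads_ok : (∀ s ∈ Finset.powersetCard 4 (Finset.univ : Finset (Fin 8)), quadOK s = true) ∧
    ((Finset.powersetCard 4 (Finset.univ : Finset (Fin 8))).filter fun s => spB s = true).card = 14 ∧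
    (∀ i j : Fin 8, i ≠ j → qn (fR i) (fR j) = 2) ∧
    (Data.frameSet.all fun x => (List.finRange 8).any fun j =>
      Nat.beq x (fR j) || Nat.beq x (239 - (fR j : ℕ))) = true := by decide +kernel

theorem foldr_bit (s : Finset (Fin 8)) (c : ℕ) : ∀ l : List (Fin 8),
    Nat.testBit (l.foldr (fun j m => bif decide (j ∈ s) then Nat.land (mk (fR j) 2) m else m) full) c = true ↔
      c < 240 ∧ ∀ j ∈ l, j ∈ s → qn (fR j) c = 2 := by
  intro l
  induction l with
  | nil => simp [full, -Nat.reducePow, Nat.testBit_two_pow_sub_one]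
  | cons j l ih =>
    rw [List.foldr_cons]
    by_cases hj : j ∈ s
    · rw [decide_eq_true hj, cond_true, show Nat.land (mk (fR j) 2) _ = mk (fR j) 2 &&& _ from rfl, Nat.testBit_and,
        Bool.and_eq_true, ih, mk_bit (by norm_num)]
      simp only [List.forall_mem_cons]
      exact ⟨fun h => ⟨h.1.1, fun _ => h.1.2, h.2.2⟩, fun h => ⟨⟨h.1, h.2.1 hj⟩, h.1, h.2.2⟩⟩
    · rw [decide_eq_false hj, cond_false, ih]
      simp [hj]

theorem mem_comN {s : Finset (Fin 8)} {c : ℕ} : c ∈ comN s ↔ c < 240 ∧ ∀ j ∈ s, qn (fR j) c = 2 := by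
  rw [comN, force_eq, List.mem_filter, foldr_bit, List.mem_range]
  simp

theorem Q_zero_iff {i j : Fin 240} : Q i j = 0 ↔ qn i j = 2 := by simp only [Q]; omega

theorem spQuad_frame (s : Finset (Fin 8)) : SpQuad fR s ↔ spB s = true := by
  simp only [spB, List.any_eq_true, Bool.and_eq_true, Bool.not_eq_true', ← Bool.not_eq_true, beq_iff]
  constructor
  · rintro ⟨c, d, h, h1, h2, h3⟩
    refine ⟨c, mem_comN.mpr ⟨c.2, fun j hj => ?_⟩, d, mem_comN.mpr ⟨d.2, fun j hj => ?_⟩, ⟨?_, ?_⟩, ?_⟩
    · rw [qn_symm]; exact Q_zero_iff.mp (h j hj).1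
    · rw [qn_symm]; exact Q_zero_iff.mp (h j hj).2
    · exact fun e => h1 (Q_zero_iff.mpr e)
    · exact fun e => h2 (Fin.ext e)
    · exact fun e => h3 (Fin.ext (by rw [zeta_val]; exact e))
  · rintro ⟨c, hc, d, hd, ⟨h1, h2⟩, h3⟩
    obtain ⟨hc1, hc2⟩ := mem_comN.mp hc
    obtain ⟨hd1, hd2⟩ := mem_comN.mp hd
    refine ⟨⟨c, hc1⟩, ⟨d, hd1⟩, fun j hj => ⟨?_, ?_⟩, fun e => h1 (Q_zero_iff.mp e),
      fun e => h2 (congrArg Fin.val e), fun e => h3 ?_⟩
    · rw [Q_zero_iff, qn_symm]; exact hc2 j hj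
    · rw [Q_zero_iff, qn_symm]; exact hd2 j hj
    · have := congrArg Fin.val e
      rwa [zeta_val] at this

theorem Q_zeta_right (i j : Fin 240) : Q i (zeta j) = - Q i j := by rw [Q_symm, Q_zeta, Q_symm]

theorem spQuad_map {v : Perm (Fin 240)} (hv : v ∈ Wf) {a b : Fin 8 → Fin 240} {π : Perm (Fin 8)}
    (h : ∀ j, v (a j) = b (π j) ∨ v (a j) = zeta (b (π j))) (s : Finset (Fin 8)) :
    SpQuad a s ↔ SpQuad b (s.map π.toEmbedding) := by
  have hq : ∀ c j, (Q c (a j) = 0 ↔ Q (v c) (b (π j)) = 0) := fun c j => by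
    rw [← hv c (a j)]
    rcases h j with e | e <;> rw [e]
    rw [Q_zeta_right, neg_eq_zero]
  have hz : ∀ c, v (zeta c) = zeta (v c) := fun c => by rw [← Perm.mul_apply, ← zeta_comm hv, Perm.mul_apply]
  constructor
  · rintro ⟨c, d, h1, h2, h3, h4⟩
    refine ⟨v c, v d, fun j hj => ?_, by rwa [hv], fun e => h3 (v.injective e), fun e => h4 ?_⟩
    · obtain ⟨i, hi, rfl⟩ := Finset.mem_map.mp hj
      exact ⟨(hq c i).mp (h1 i hi).1, (hq d i).mp (h1 i hi).2⟩
    · rw [← hz] at e; exact v.injective e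
  · rintro ⟨c, d, h1, h2, h3, h4⟩
    obtain ⟨c, rfl⟩ := v.surjective c
    obtain ⟨d, rfl⟩ := v.surjective d
    rw [hv] at h2
    refine ⟨c, d, fun j hj => ?_, h2, fun e => h3 (by rw [e]), fun e => h4 (by rw [e, hz])⟩
    have h' := h1 (π j) (Finset.mem_map.mpr ⟨j, hj, rfl⟩)
    exact ⟨(hq c j).mpr h'.1, (hq d j).mpr h'.2⟩

/-- Eight orthogonal lines are carried to the standard frame. -/
theorem octet_std {a : Fin 8 → Fin 240} (ha : ∀ i j, i ≠ j → Q (a i) (a j) = 0) :
    ∃ v ∈ Wf, ∃ π : Perm (Fin 8), ∀ j, v (a j) = fR (π j) ∨ v (a j) = zeta (fR (π j)) := by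
  classical
  let L := (List.range 120).filter fun c => decide (∃ j, ln (a j : ℕ) = c)
  have hmem : ∀ c, c ∈ L ↔ ∃ j, ln (a j : ℕ) = c := fun c => by
    simp only [L, List.mem_filter, List.mem_range, decide_eq_true_eq]
    exact ⟨fun h => h.2, fun ⟨j, hj⟩ => ⟨by have := (a j).2; rw [← hj, ln]; omega, j, hj⟩⟩
  have hlt : ∀ c ∈ L, c < 240 := fun c hc => by
    obtain ⟨j, rfl⟩ := (hmem c).mp hc
    have := (a j).2
    simp only [ln]; omega
  have horth : ∀ i j, i ≠ j → qn (ln (a i : ℕ)) (ln (a j : ℕ)) = 2 := fun i j hij =>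
    (orth_ln (a i).2 (a j).2).mpr (Q_zero_iff.mp (ha i j hij))
  have hinj : Function.Injective fun j => ln (a j : ℕ) := fun i j e => by
    by_contra hij
    have := horth i j hij
    rw [show ln (a i : ℕ) = ln (a j : ℕ) from e,
      qn_self (show ln (a j : ℕ) < 240 by have := (a j).2; simp only [ln]; omega)] at this
    omega
  have hnd : L.Nodup := List.nodup_range.filter _
  have hL : L ∈ frames := by
    refine mem_frames.mpr ⟨List.filter_sublist, List.pairwise_iff_forall_sublist.mpr fun {c d} hcd => ?_, ?_⟩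
    · obtain ⟨i, rfl⟩ := (hmem c).mp (hcd.subset (by simp))
      obtain ⟨j, rfl⟩ := (hmem d).mp (hcd.subset (by simp))
      refine orthB_iff.mpr (horth i j fun e => ?_)
      subst e
      simpa using hnd.sublist hcd
    · rw [← List.toFinset_card_of_nodup hnd, show L.toFinset = Finset.univ.image (fun j => ln (a j : ℕ)) from by
        ext c; simp [hmem], Finset.card_image_of_injective _ hinj]
      simp
  obtain ⟨l, hl, -⟩ := exists_frame_word hL
  set v := wP l
  have hv : v ∈ Wf := wP_mem l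
  have hj : ∀ j, ∃ i, v (a j) = fR i ∨ v (a j) = zeta (fR i) := fun j => by
    have h := hl _ ((hmem _).mpr ⟨j, rfl⟩)
    have hx := List.all_eq_true.mp quads_ok.2.2.2 _ h
    obtain ⟨i, -, hi⟩ := List.any_eq_true.mp hx
    rw [Bool.or_eq_true, beq_iff, beq_iff] at hi
    refine ⟨i, ?_⟩
    have hval : (v (a j) : ℕ) = ev v (a j : ℕ) := (ev_val v (a j)).symm
    rcases min_choice (a j : ℕ) (239 - (a j : ℕ)) with e | e <;> rw [ln, e] at hi
    · exact hi.imp (fun h => Fin.ext (by rw [hval, h])) fun h => Fin.ext (by rw [hval, h, zeta_val])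
    · rw [ev_neg hv (a j).2, ← hval] at hi
      have := (v (a j)).2
      have := (fR i).2
      rcases hi with h | h
      · exact Or.inr (Fin.ext (by rw [zeta_val]; omega))
      · exact Or.inl (Fin.ext (by omega))
  choose π hπ using hj
  have hπi : Function.Injective π := fun i j e => by
    by_contra hij
    have h0 := ha i j hij
    rw [← hv] at h0
    rcases hπ i with e1 | e1 <;> rcases hπ j with e2 | e2 <;>
      simp [e1, e2, e, Q_zeta, Q_zeta_right, Q_self] at h0
  exact ⟨v, hv, Equiv.ofBijective π (Finite.injective_iff_bijective.mp hπi), hπ⟩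

/-- Fourteen quads are special; orthogonal to any other are only the four other lines. -/
theorem octet_quads {a : Fin 8 → Fin 240} (ha : ∀ i j, i ≠ j → Q (a i) (a j) = 0) :
    Set.ncard {s : Finset (Fin 8) | s.card = 4 ∧ SpQuad a s} = 14 ∧
      ∀ s : Finset (Fin 8), s.card = 4 → ¬ SpQuad a s → ∀ c, (∀ j ∈ s, Q c (a j) = 0) →
        ∃ j, j ∉ s ∧ (c = a j ∨ c = zeta (a j)) := by
  classical
  obtain ⟨v, hv, π, hπ⟩ := octet_std ha
  refine ⟨?_, fun s hs hns c hc => ?_⟩
  · have e : {s : Finset (Fin 8) | s.card = 4 ∧ SpQuad a s} =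
        (fun s : Finset (Fin 8) => s.map π.symm.toEmbedding) ''
          ↑((Finset.powersetCard 4 (Finset.univ : Finset (Fin 8))).filter fun s => spB s = true) := by
      ext s
      simp only [Set.mem_setOf_eq, Set.mem_image, Finset.coe_filter, Finset.mem_powersetCard, Finset.subset_univ,
        true_and]
      constructor
      · rintro ⟨h1, h2⟩
        refine ⟨s.map π.toEmbedding, ⟨by simpa using h1, (spQuad_frame _).mp ((spQuad_map hv hπ s).mp h2)⟩, ?_⟩
        ext x; simp
      · rintro ⟨t, ⟨h1, h2⟩, rfl⟩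
        refine ⟨by simpa using h1, (spQuad_map hv hπ _).mpr ?_⟩
        rw [show (t.map π.symm.toEmbedding).map π.toEmbedding = t from by ext x; simp]
        exact (spQuad_frame t).mpr h2
    rw [e, Set.ncard_image_of_injective _ (Finset.map_injective _), Set.ncard_coe_finset, quads_ok.2.1]
  · have hs' : (s.map π.toEmbedding) ∈ Finset.powersetCard 4 (Finset.univ : Finset (Fin 8)) :=
      Finset.mem_powersetCard.mpr ⟨Finset.subset_univ _, by simpa using hs⟩
    have hok := quads_ok.1 _ hs'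
    have hsp : spB (s.map π.toEmbedding) = false := by
      rw [← Bool.not_eq_true, ← spQuad_frame, ← spQuad_map hv hπ]; exact hns
    rw [quadOK, hsp, Bool.false_or, List.all_eq_true] at hok
    have hmem : (v c : ℕ) ∈ comN (s.map π.toEmbedding) := mem_comN.mpr ⟨(v c).2, fun j hj => by
      obtain ⟨i, hi, rfl⟩ := Finset.mem_map.mp hj
      rw [qn_symm, ← Q_zero_iff]
      have := hc i hi
      rw [← hv] at this
      rcases hπ i with e | e <;> rw [e] at this
      · exact this
      · rwa [Q_zeta_right, neg_eq_zero] at this⟩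
    obtain ⟨j, -, h⟩ := List.any_eq_true.mp (hok _ hmem)
    rw [Bool.and_eq_true, Bool.or_eq_true, beq_iff, beq_iff, Bool.not_eq_true', decide_eq_false_iff_not] at h
    obtain ⟨i, rfl⟩ := π.surjective j
    refine ⟨i, fun hi => h.1 (Finset.mem_map.mpr ⟨i, hi, rfl⟩), ?_⟩
    have hz : ∀ c, v (zeta c) = zeta (v c) := fun c => by rw [← Perm.mul_apply, ← zeta_comm hv, Perm.mul_apply]
    have hzz : ∀ x, zeta (zeta x) = x := fun x => by rw [← Perm.mul_apply, zeta_sq]; rfl
    have hfr : v c = fR (π i) ∨ v c = zeta (fR (π i)) :=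
      h.2.imp (fun e => Fin.ext e) fun e => Fin.ext (by rw [zeta_val]; exact e)
    rcases hfr with e | e <;> rcases hπ i with e' | e'
    · exact Or.inl (v.injective (e.trans e'.symm))
    · exact Or.inr (v.injective (by rw [hz, e', hzz, e]))
    · exact Or.inr (v.injective (by rw [hz, e', e]))
    · exact Or.inl (v.injective (e.trans e'.symm))

end CfsgLib.O8Two
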