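/-
A standard double cover of the plus-type group in dimension eight over two elements: nine pairwise commuting
conjugates of the central involution cannot exist, so the central involution is isolated.
-/
import Cfsg.Agent.Lib.StdO8Two.Cases
import Cfsg.Agent.Lib.StdO8Two.Octet
import Cfsg.Prelude.Def_IsolatedElements

set_option autoImplicit false
set_option linter.unusedSectionVars false
set_option linter.style.haveILetI false

namespace CfsgLib.O8Two

open Equiv Subgroup

universe u

theorem rP_ne_neg (a b : Fin 240) : rP a ≠ zeta * rP b := fun h => by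
  have h1 := ty_sig (by norm_num) (ty_one_iff.mpr ⟨a, rfl⟩)
  rw [h, sig_zeta_mul, ty_sig (by norm_num) (ty_one_iff.mpr ⟨b, rfl⟩)] at h1
  exact absurd h1 (by decide)

theorem sign_rP_mul (a b : Fin 240) : Perm.sign (rP a * rP b) = 1 := by
  rw [map_mul, sign_rP, sign_rP]; norm_num

theorem Q_zeta_self (a : Fin 240) : Q a (zeta a) = -2 := by rw [Q_symm, Q_zeta, Q_self]

theorem rP_eq_Q {a b : Fin 240} (h : rP a = rP b) : Q a b ≠ 0 := by
  rcases rP_eq h with rfl | rfl
  · rw [Q_self]; norm_num
  · rw [Q_zeta_self]; norm_num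

theorem orth_mul_sq {a b : Fin 240} (h : Q a b = 0) : rP a * rP b * (rP a * rP b) = 1 := by
  rw [show rP a * rP b * (rP a * rP b) = rP a * (rP b * rP a) * rP b by group, ← rP_orth_comm h,
    show rP a * (rP a * rP b) * rP b = rP a * rP a * (rP b * rP b) by group, rP_sq, rP_sq, one_mul]

theorem fR_orth : ∀ i j : Fin 8, i ≠ j → qn (fR i) (fR j) = 2 := by decide +kernel

variable {G : Type u} [Group G] [Finite G]

namespace Setting

variable (D : Setting G)

theorem acts_rP_unique {x : G} {a b : Fin 240} (h1 : D.Acts x (rP a)) (h2 : D.Acts x (rP b)) : rP a = rP b :=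
  (D.act_unique h1 h2).elim Eq.symm fun e => absurd e (rP_ne_neg b a)

/-- A conjugate under the component with prescribed line. -/
theorem lift {x : G} (h : D.Mem x) {a : Fin 240} (ha : D.Acts x (rP a)) (b : Fin 240) :
    ∃ l ∈ D.L, D.Mem (l * x * l⁻¹) ∧ D.Acts (l * x * l⁻¹) (rP b) ∧ l * x * l⁻¹ * x ∈ D.L := by
  obtain ⟨m, hm, hmab⟩ := exists_W0_root a b
  obtain ⟨l, hl, rfl⟩ := D.em_surj hm
  have hlz : l * D.z = D.z * l := D.z_cent l hl
  have hli : l⁻¹ * D.z = D.z * l⁻¹ := D.z_cent _ (inv_mem hl)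
  refine ⟨l, hl, ⟨D.om_conj l h.om, ?_, fun e => h.ne ?_⟩, ?_, ?_⟩
  · exact (Commute.mul_left (Commute.mul_left (show Commute l D.z from hlz) h.comm) hli).eq
  · have := congrArg (fun t => l⁻¹ * t * l) e
    simpa [mul_assoc, ← hlz] using this
  · have := D.act_mul hli (D.act_mul h.comm (D.act_L hl) ha) (D.act_inv hlz (D.act_L hl))
    rwa [conj_rP (D.em_Wf hl), hmab] at this
  · have hxi : x⁻¹ = x := inv_eq_of_mul_eq_one_right (D.om_sq h.om)
    have := mul_mem hl (D.conj_mem h.comm (inv_mem hl))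
    rw [hxi] at this
    convert this using 1
    group

theorem comm_lift {x y : G} (hx : D.Mem x) (hy : D.Mem y) {a b : Fin 240} (ha : D.Acts x (rP a))
    (hb : D.Acts y (rP b)) (hq : Q a b = 0) (hL : x * y ∈ D.L) : x * y = y * x := by
  have h2 : D.em (x * y) * D.em (x * y) = 1 := by
    rcases D.act_unique (D.act_mul hy.comm ha hb) (D.act_L hL) with e | e <;> rw [e]
    · exact orth_mul_sq hq
    · rw [show zeta * (rP a * rP b) * (zeta * (rP a * rP b)) = zeta * ((rP a * rP b) * zeta) * (rP a * rP b) by group,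
        ← zeta_comm (mul_mem (rP_mem a) (rP_mem b)), zz, orth_mul_sq hq]
  have := inv_eq_of_mul_eq_one_right (D.sq_em hL h2)
  rw [mul_inv_rev, inv_eq_of_mul_eq_one_right (D.om_sq hx.om), inv_eq_of_mul_eq_one_right (D.om_sq hy.om)] at this
  exact this.symm

/-- The product with the central involution is not conjugate to it. -/
theorem not_om_neg {x : G} (h : D.Mem x) : ¬ D.Om (D.z * x) := by
  intro hzx
  obtain ⟨-, a, ha⟩ := D.reflection h
  obtain ⟨m, hm, hm0⟩ := exists_W0_root 0 a
  have hab : Q a (m 13) = 0 := by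
    rw [← hm0, (mem_W0.mp hm).1]; decide +kernel
  obtain ⟨l, hl, hc, hcb, hcL⟩ := D.lift h ha (m 13)
  set c := l * x * l⁻¹ with hcd
  have hcx : c * x = x * c := D.comm_lift hc h hcb ha (by rw [Q_symm]; exact hab) hcL
  have hne : c ≠ x := fun e => rP_eq_Q (D.acts_rP_unique ha (e ▸ hcb)) hab
  have hne' : c ≠ D.z * x := fun e => by
    have hA := D.act_mul h.comm (D.act_K D.z_mem_K) ha
    rw [one_mul] at hA
    exact rP_eq_Q (D.acts_rP_unique hA (e ▸ hcb)) hab
  have hzcO : D.Om (D.z * c) := by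
    have := D.om_conj l hzx
    rwa [show l * (D.z * x) * l⁻¹ = D.z * c by rw [hcd, ← mul_assoc l, D.z_cent l hl]; group] at this
  obtain ⟨g, hg⟩ := h.om
  have h' := D.mate h hg
  have hc' : D.Mem (g * c * g⁻¹) := ⟨D.om_conj g hc.om, hg ▸ conj_commute g hcx,
    fun e => hne (mul_left_cancel (mul_right_cancel (e.trans hg.symm)))⟩
  obtain ⟨-, a', ha'⟩ := D.reflection h'
  obtain ⟨-, b', hb'⟩ := D.reflection hc'
  have hA := D.act_mul hc'.comm ha' hb'
  rw [show g * D.z * g⁻¹ * (g * c * g⁻¹) = g * (D.z * c) * g⁻¹ by group] at hA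
  have hzcx : D.z * c * x = x * (D.z * c) :=
    (Commute.mul_left (show Commute D.z x from h.comm.symm) hcx).eq
  by_cases hz : g * (D.z * c) * g⁻¹ = D.z
  · refine hne' ?_
    rw [← mul_left_cancel (mul_right_cancel (hz.trans hg.symm)), ← mul_assoc, D.z_sq, one_mul]
  · have hcz := conj_commute g hzcx
    rw [hg] at hcz
    obtain ⟨-, e, he⟩ := D.reflection ⟨D.om_conj g hzcO, hcz, hz⟩
    have h1 := sign_rP_mul a' b'
    rcases D.act_unique he hA with e' | e' <;> rw [e'] at h1
    · rw [sign_rP] at h1; simp at h1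
    · rw [map_mul, sign_zeta, sign_rP] at h1; simp at h1

theorem line_eq {x y : G} (hx : D.Mem x) (hy : D.Mem y) {a b : Fin 240} (ha : D.Acts x (rP a))
    (hb : D.Acts y (rP b)) (hab : rP a = rP b) (hc : x * y = y * x) : x = y := by
  have hA := D.act_mul hy.comm ha hb
  rw [hab, rP_sq] at hA
  have hk := D.act_one_K ((Commute.mul_left (show Commute x D.z from hx.comm) hy.comm).eq) hA
  have h2 : x * y * (x * y) = 1 := by
    rw [show x * y * (x * y) = x * (y * x) * y by group, ← hc,
      show x * (x * y) * y = x * x * (y * y) by group, D.om_sq hx.om, D.om_sq hy.om, one_mul]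
  rcases D.inv_K _ hk h2 with e | e
  · rw [eq_inv_of_mul_eq_one_left e, inv_eq_of_mul_eq_one_right (D.om_sq hy.om)]
  · refine absurd ?_ (D.not_om_neg hy)
    rw [← e, mul_assoc, D.om_sq hy.om, mul_one]
    exact hx.om

theorem comm_orth {x y : G} (hx : D.Mem x) (hy : D.Mem y) {a b : Fin 240} (ha : D.Acts x (rP a))
    (hb : D.Acts y (rP b)) (hc : x * y = y * x) (hne : x ≠ y) : Q a b = 0 ∧ x * y ∈ D.L := by
  have hA := D.act_mul hy.comm ha hb
  have hB := D.act_mul hx.comm hb ha
  rw [← hc] at hB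
  have hcr : rP a * rP b = rP b * rP a := by
    rcases D.act_unique hB hA with e | e
    · exact e
    · exfalso
      have e2 : rP (rP a b) = zeta * rP b := by
        rw [← conj_rP (rP_mem a), rP_inv, e, mul_assoc, mul_assoc, rP_sq, mul_one]
      exact rP_ne_neg _ _ e2
  have hq : Q a b = 0 := by
    rcases comm_rP hcr with e | e | e
    · exact e
    · exact absurd (D.line_eq hx hy ha hb (by rw [e]) hc) hne
    · exact absurd (D.line_eq hx hy ha hb (by rw [e, rP_zeta]) hc) hne
  refine ⟨hq, (D.inv_inner (Commute.mul_left (show Commute x D.z from hx.comm) hy.comm).eq ?_ hA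
    (mem_W0.mpr ⟨mul_mem (rP_mem a) (rP_mem b), sign_rP_mul a b⟩) (orth_mul_sq hq)).1⟩
  rw [show x * y * (x * y) = x * (y * x) * y by group, ← hc,
    show x * (x * y) * y = x * x * (y * y) by group, D.om_sq hx.om, D.om_sq hy.om, one_mul]

/-! ### Nine conjugates -/

/-- A set with two non-commuting common neighbours. -/
def Spec (S : Finset G) : Prop :=
  ∃ y y', D.Om y ∧ D.Om y' ∧ (∀ s ∈ S, y * s = s * y) ∧ (∀ s ∈ S, y' * s = s * y') ∧ y * y' ≠ y' * y

/-- Nine pairwise commuting conjugates. -/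
structure IsNine (T : Finset G) : Prop where
  card : T.card = 9
  om : ∀ t ∈ T, D.Om t
  comm : ∀ s ∈ T, ∀ t ∈ T, s * t = t * s

theorem exists_nine {x : G} (h : D.Mem x) : ∃ T, D.IsNine T := by
  classical
  obtain ⟨-, a, ha⟩ := D.reflection h
  have hex := fun i => D.lift h ha (fR i)
  choose l hl hm hA hL using hex
  set f := fun i => l i * x * (l i)⁻¹ with hf
  have horth : ∀ i j, i ≠ j → Q (fR i) (fR j) = 0 := fun i j hij => Q_zero_iff.mpr (fR_orth i j hij)
  have hfL : ∀ i j, f i * f j ∈ D.L := fun i j => by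
    have hxi : x⁻¹ = x := inv_eq_of_mul_eq_one_right (D.om_sq h.om)
    have hfi : (f j)⁻¹ = f j := inv_eq_of_mul_eq_one_right (D.om_sq (hm j).om)
    have := mul_mem (hL i) (inv_mem (hL j))
    rwa [show l j * x * (l j)⁻¹ = f j from rfl, mul_inv_rev, hfi, hxi, ← mul_assoc,
      mul_assoc _ x x, D.om_sq h.om, mul_one] at this
  have hinj : Function.Injective f := fun i j e => by
    by_contra hij
    have h2 := hA j
    rw [show l j * x * (l j)⁻¹ = l i * x * (l i)⁻¹ from e.symm] at h2
    exact rP_eq_Q (D.acts_rP_unique (hA i) h2) (horth i j hij)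
  refine ⟨insert D.z (Finset.univ.image f), ?_, ?_, ?_⟩
  · rw [Finset.card_insert_of_notMem, Finset.card_image_of_injective _ hinj]
    · rfl
    · simp only [Finset.mem_image, Finset.mem_univ, true_and, not_exists]
      exact fun i => (hm i).ne
  · simp only [Finset.mem_insert, Finset.mem_image, Finset.mem_univ, true_and]
    rintro t (rfl | ⟨i, rfl⟩)
    exacts [D.om_z, (hm i).om]
  · simp only [Finset.mem_insert, Finset.mem_image, Finset.mem_univ, true_and]
    rintro s (rfl | ⟨i, rfl⟩) t (rfl | ⟨j, rfl⟩)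
    · rfl
    · exact (hm j).comm.symm
    · exact (hm i).comm
    · by_cases hij : i = j
      · rw [hij]
      · exact D.comm_lift (hm i) (hm j) (hA i) (hA j) (horth i j hij) (hfL i j)

theorem count_z {T : Finset G} (hT : D.IsNine T) (hz : D.z ∈ T) :
    {S : Finset G | S ⊆ T ∧ S.card = 5 ∧ D.z ∈ S ∧ D.Spec S}.ncard = 14 := by
  classical
  have hU : (T.erase D.z).card = 8 := by rw [Finset.card_erase_of_mem hz, hT.card]
  let e := (T.erase D.z).equivFinOfCardEq hU
  set f : Fin 8 → G := fun i => (e.symm i : G) with hf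
  have hfT : ∀ i, f i ∈ T ∧ f i ≠ D.z := fun i =>
    ⟨Finset.mem_of_mem_erase (e.symm i).2, Finset.ne_of_mem_erase (e.symm i).2⟩
  have hfm : ∀ i, D.Mem (f i) := fun i => ⟨hT.om _ (hfT i).1, hT.comm _ (hfT i).1 _ hz, (hfT i).2⟩
  have hinj : Function.Injective f := Subtype.val_injective.comp e.symm.injective
  have hall : ∀ t ∈ T, t ≠ D.z → ∃ i, f i = t := fun t ht hne =>
    ⟨e ⟨t, Finset.mem_erase.mpr ⟨hne, ht⟩⟩, by simp [hf]⟩
  choose a ha using fun i => (D.reflection (hfm i)).2
  have hpair : ∀ i j, i ≠ j → Q (a i) (a j) = 0 ∧ f i * f j ∈ D.L := fun i j hij =>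
    D.comm_orth (hfm i) (hfm j) (ha i) (ha j) (hT.comm _ (hfT i).1 _ (hfT j).1) fun e => hij (hinj e)
  obtain ⟨hcount, hns⟩ := octet_quads (a := a) fun i j hij => (hpair i j hij).1
  have hfL : ∀ i j, f i * f j ∈ D.L := fun i j => by
    by_cases hij : i = j
    · rw [hij, D.om_sq (hfm j).om]; exact one_mem _
    · exact (hpair i j hij).2
  have bridge : ∀ {y : G} (i j : Fin 8), y * f i ∈ D.L → y * f j ∈ D.L := fun {y} i j hy => by
    have := mul_mem hy (hfL i j)
    rwa [← mul_assoc, mul_assoc y, D.om_sq (hfm i).om, mul_one] at this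
  have hspec : ∀ s : Finset (Fin 8), s.card = 4 → (D.Spec (insert D.z (s.image f)) ↔ SpQuad a s) := by
    intro s hs
    constructor
    · rintro ⟨y, y', hy, hy', hc, hc', hne⟩
      by_contra hns'
      have key : ∀ y, D.Om y → (∀ t ∈ insert D.z (s.image f), y * t = t * y) → y ∈ T := by
        intro y hy hc
        by_cases hyz : y = D.z
        · rw [hyz]; exact hz
        by_cases hin : ∃ i ∈ s, y = f i
        · obtain ⟨i, -, rfl⟩ := hin
          exact (hfT i).1
        push Not at hin
        have hm : D.Mem y := ⟨hy, hc _ (Finset.mem_insert_self _ _), hyz⟩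
        obtain ⟨-, c, hcA⟩ := D.reflection hm
        have ho : ∀ i ∈ s, Q c (a i) = 0 ∧ y * f i ∈ D.L := fun i hi =>
          D.comm_orth hm (hfm i) hcA (ha i) (hc _ (Finset.mem_insert_of_mem (Finset.mem_image_of_mem _ hi)))
            (hin i hi)
        obtain ⟨j, -, hj⟩ := hns s hs hns' c fun i hi => (ho i hi).1
        obtain ⟨q, hq⟩ : s.Nonempty := Finset.card_pos.mp (by omega)
        have hL := bridge q j (ho q hq).2
        have hA := D.act_mul (hfm j).comm hcA (ha j)
        have hr : rP c = rP (a j) := by rcases hj with rfl | rfl; exacts [rfl, rP_zeta _]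
        rw [hr, rP_sq] at hA
        rcases D.K_inv_L hL (D.act_one_K (D.z_cent _ hL) hA) with e | e
        · rw [eq_inv_of_mul_eq_one_left e, inv_eq_of_mul_eq_one_right (D.om_sq (hfm j).om)]
          exact (hfT j).1
        · refine absurd ?_ (D.not_om_neg (hfm j))
          rw [← e, mul_assoc, D.om_sq (hfm j).om, mul_one]
          exact hy
      exact hne (hT.comm _ (key y hy hc) _ (key y' hy' hc'))
    · rintro ⟨c, d, ho, hcd, hd1, hd2⟩
      obtain ⟨l, hl, hy, hyA, hyL⟩ := D.lift (hfm 0) (ha 0) c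
      obtain ⟨l', hl', hy', hy'A, hy'L⟩ := D.lift (hfm 0) (ha 0) d
      refine ⟨_, _, hy.om, hy'.om, ?_, ?_, fun he => ?_⟩
      · simp only [Finset.mem_insert, Finset.mem_image]
        rintro t (rfl | ⟨j, hj, rfl⟩)
        · exact hy.comm
        · exact D.comm_lift hy (hfm j) hyA (ha j) (ho j hj).1 (bridge 0 j hyL)
      · simp only [Finset.mem_insert, Finset.mem_image]
        rintro t (rfl | ⟨j, hj, rfl⟩)
        · exact hy'.comm
        · exact D.comm_lift hy' (hfm j) hy'A (ha j) (ho j hj).2 (bridge 0 j hy'L)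
      · by_cases heq : l * f 0 * l⁻¹ = l' * f 0 * l'⁻¹
        · rcases rP_eq (D.acts_rP_unique hyA (heq ▸ hy'A)) with e | e
          exacts [hd1 e, hd2 e]
        · exact hcd (D.comm_orth hy hy' hyA hy'A he heq).1
  have hset : {S : Finset G | S ⊆ T ∧ S.card = 5 ∧ D.z ∈ S ∧ D.Spec S} =
      (fun s : Finset (Fin 8) => insert D.z (s.image f)) '' {s : Finset (Fin 8) | s.card = 4 ∧ SpQuad a s} := by
    ext S
    simp only [Set.mem_setOf_eq, Set.mem_image]
    constructor
    · rintro ⟨hST, hS5, hzS, hsp⟩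
      have e : insert D.z ((Finset.univ.filter fun i => f i ∈ S).image f) = S := by
        ext t
        simp only [Finset.mem_insert, Finset.mem_image, Finset.mem_filter, Finset.mem_univ, true_and]
        refine ⟨?_, fun ht => ?_⟩
        · rintro (rfl | ⟨i, hi, rfl⟩)
          exacts [hzS, hi]
        · by_cases h0 : t = D.z
          · exact Or.inl h0
          · obtain ⟨i, rfl⟩ := hall t (hST ht) h0
            exact Or.inr ⟨i, ht, rfl⟩
      have hnot : D.z ∉ (Finset.univ.filter fun i => f i ∈ S).image f := by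
        simp only [Finset.mem_image, not_exists, not_and]
        exact fun i _ => (hfT i).2
      have h4 : (Finset.univ.filter fun i => f i ∈ S).card = 4 := by
        have := congrArg Finset.card e
        rw [Finset.card_insert_of_notMem hnot, Finset.card_image_of_injective _ hinj, hS5] at this
        omega
      exact ⟨_, ⟨h4, (hspec _ h4).mp (by rw [e]; exact hsp)⟩, e⟩
    · rintro ⟨s, ⟨h4, hq⟩, rfl⟩
      refine ⟨?_, ?_, Finset.mem_insert_self _ _, (hspec s h4).mpr hq⟩
      · refine Finset.insert_subset hz fun t ht => ?_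
        obtain ⟨i, -, rfl⟩ := Finset.mem_image.mp ht
        exact (hfT i).1
      · rw [Finset.card_insert_of_notMem, Finset.card_image_of_injective _ hinj, h4]
        simp only [Finset.mem_image, not_exists, not_and]
        exact fun i _ => (hfT i).2
  rw [hset, Set.ncard_image_of_injOn, hcount]
  intro s _ t _ he
  refine Finset.image_injective hinj ?_
  have hn : ∀ s : Finset (Fin 8), D.z ∉ s.image f := fun s => by
    simp only [Finset.mem_image, not_exists, not_and]
    exact fun i _ => (hfT i).2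
  simpa [Finset.erase_insert (hn _)] using congrArg (fun S => S.erase D.z) he

theorem spec_map (g : G) {S : Finset G} (h : D.Spec S) : D.Spec (S.map (MulAut.conj g).toEquiv.toEmbedding) := by
  obtain ⟨y, y', hy, hy', hc, hc', hne⟩ := h
  refine ⟨g * y * g⁻¹, g * y' * g⁻¹, D.om_conj g hy, D.om_conj g hy', ?_, ?_, fun e => hne ?_⟩
  · simp only [Finset.mem_map]
    rintro _ ⟨s, hs, rfl⟩
    exact conj_commute g (hc s hs)
  · simp only [Finset.mem_map]
    rintro _ ⟨s, hs, rfl⟩
    exact conj_commute g (hc' s hs)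
  · have := congrArg (fun t => g⁻¹ * t * g) e
    simpa [mul_assoc] using this

theorem count_at {T : Finset G} (hT : D.IsNine T) {p : G} (hp : p ∈ T) :
    {S : Finset G | S ⊆ T ∧ S.card = 5 ∧ p ∈ S ∧ D.Spec S}.ncard = 14 := by
  obtain ⟨g, hg⟩ := hT.om p hp
  set φ := (MulAut.conj g).toEquiv.toEmbedding with hφ
  have hT' : D.IsNine (T.map φ) := by
    refine ⟨by rw [Finset.card_map, hT.card], ?_, ?_⟩
    · simp only [Finset.mem_map]
      rintro _ ⟨t, ht, rfl⟩
      exact D.om_conj g (hT.om t ht)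
    · simp only [Finset.mem_map]
      rintro _ ⟨s, hs, rfl⟩ _ ⟨t, ht, rfl⟩
      exact conj_commute g (hT.comm s hs t ht)
  have hpz : φ p = D.z := hg
  have hinv : ∀ S : Finset G, (S.map φ).map (MulAut.conj g⁻¹).toEquiv.toEmbedding = S := fun S => by
    rw [Finset.map_map]
    convert Finset.map_refl
    ext t
    simp [hφ, mul_assoc]
  rw [← D.count_z hT' (hpz ▸ Finset.mem_map_of_mem φ hp), ← Set.ncard_image_of_injective _ (Finset.map_injective φ)]
  congr 1
  ext S
  simp only [Set.mem_image, Set.mem_setOf_eq]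
  constructor
  · rintro ⟨R, ⟨h1, h2, h3, h4⟩, rfl⟩
    exact ⟨Finset.map_subset_map.mpr h1, by rw [Finset.card_map, h2], hpz ▸ Finset.mem_map_of_mem φ h3,
      D.spec_map g h4⟩
  · rintro ⟨h1, h2, h3, h4⟩
    obtain ⟨R, hR, rfl⟩ := Finset.subset_map_iff.mp h1
    refine ⟨R, ⟨hR, by rwa [Finset.card_map] at h2, (Finset.mem_map' φ).mp (hpz.symm ▸ h3), ?_⟩, rfl⟩
    have := D.spec_map g⁻¹ h4
    rwa [hinv] at this

theorem no_nine {T : Finset G} (hT : D.IsNine T) : False := by
  classical
  set X := (T.powersetCard 5).filter fun S => D.Spec S with hX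
  have h14 : ∀ p ∈ T, (X.filter fun S => p ∈ S).card = 14 := fun p hp => by
    rw [← D.count_at hT hp, ← Set.ncard_coe_finset]
    congr 1
    ext S
    simp only [hX, Finset.coe_filter, Finset.mem_filter, Finset.mem_powersetCard, Set.mem_setOf_eq]
    tauto
  have h5 : ∀ S ∈ X, (T.filter fun p => p ∈ S).card = 5 := fun S hS => by
    obtain ⟨hST, hc⟩ := Finset.mem_powersetCard.mp (Finset.mem_filter.mp hS).1
    rw [Finset.filter_mem_eq_inter, Finset.inter_eq_right.mpr hST, hc]
  have h := Finset.sum_card_bipartiteAbove_eq_sum_card_bipartiteBelow (fun p S => p ∈ S) (s := T) (t := X)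
  simp only [Finset.bipartiteAbove, Finset.bipartiteBelow] at h
  rw [Finset.sum_congr rfl h14, Finset.sum_congr rfl h5, Finset.sum_const, Finset.sum_const, hT.card,
    smul_eq_mul, smul_eq_mul] at h
  omega

theorem isolated : Cfsg.IsIsolated D.z := by
  intro g hg
  by_contra hne
  obtain ⟨T, hT⟩ := D.exists_nine (x := g * D.z * g⁻¹) ⟨D.om_conj g D.om_z, hg.symm.eq, hne⟩
  exact D.no_nine hT

end Setting

end CfsgLib.O8Two
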